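import Cfsg.Agent.Lib.ShortPresOm.Indices

/-!
# Short presentations of orthogonal groups, part 3

The relations between `SL_n` and one Weyl element, and the root element they define on the orbit of
a decomposable alternating matrix.
-/

set_option autoImplicit false
set_option linter.unusedSectionVars false

namespace Cfsg.Agent.Lib.ShortPresOm

open Matrix Cfsg.Agent.Lib.Schur.SteinbergSLn Cfsg.Agent.Lib.ShortPresSp

/-- The relations of type `D`. -/
structure OmRel (d : ℕ) (F : Type*) [Field F] (G : Type*) [Group G] where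
  /-- The Levi subgroup. -/
  ψ : SLn d F →* G
  /-- The Weyl element of the root `e₀ + e₁`. -/
  w : G
  hsq : ∀ x : F, ∃ a b : F, x = a ^ 2 + b ^ 2
  hK : ∀ i j, i ≠ j → SameSide i j → ∀ a, Commute w (ψ (trv (d + 4) F i j a))
  hC : w * w = ψ (ntv 0 1 * ntv 0 1)
  hF : w = ψ (ntv 1 2) * (w * ψ ((ntv 2 1)⁻¹) * w⁻¹) * (ψ (ntv 1 2))⁻¹
  hX : ∀ a, Commute (w * ψ (trv (d + 4) F 2 1 (-1)) * w⁻¹) (ψ (trv (d + 4) F 0 2 a)) ∧
    Commute (w * ψ (trv (d + 4) F 2 1 (-1)) * w⁻¹) (ψ (trv (d + 4) F 2 0 a)) ∧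
    Commute (w * ψ (trv (d + 4) F 2 1 (-1)) * w⁻¹) (ψ (trv (d + 4) F 1 3 a)) ∧
    Commute (w * ψ (trv (d + 4) F 2 1 (-1)) * w⁻¹) (ψ (trv (d + 4) F 3 1 a))

section tor
variable {d : ℕ} {F : Type*} [Field F]

/-- Diagonal torus elements on two coordinates. -/
def h2 (p q : Fin (d + 4)) (l : Fˣ) : SLn d F :=
  if h : p = q then 1 else
    ⟨diagonal fun x => if x = p then (l : F) else if x = q then ((l⁻¹ : Fˣ) : F) else 1, by
      rw [det_diagonal, ← Finset.prod_subset (Finset.subset_univ {p, q}) (fun y _ hy => by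
        simp only [Finset.mem_insert, Finset.mem_singleton, not_or] at hy
        simp [hy.1, hy.2]), Finset.prod_pair h, if_pos rfl, if_neg (Ne.symm h), if_pos rfl,
        Units.mul_inv]⟩

theorem h2_coe {p q : Fin (d + 4)} (h : p ≠ q) (l : Fˣ) :
    (h2 p q l : Matrix (Fin (d + 4)) (Fin (d + 4)) F) =
      diagonal fun x => if x = p then (l : F) else if x = q then ((l⁻¹ : Fˣ) : F) else 1 := by
  simp [h2, h]

/-- The eigenvalues of `h2`. -/
def h2v (p q : Fin (d + 4)) (l : Fˣ) (x : Fin (d + 4)) : F :=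
  if x = p then (l : F) else if x = q then ((l⁻¹ : Fˣ) : F) else 1

theorem h2_conj {p q : Fin (d + 4)} (h : p ≠ q) (l : Fˣ) {i j : Fin (d + 4)} (hij : i ≠ j) (a : F) :
    h2 p q l * trv (d + 4) F i j a * (h2 p q l)⁻¹ =
      trv (d + 4) F i j (h2v p q l i * a * (h2v p q l j)⁻¹) := by
  rw [mul_inv_eq_iff_eq_mul]
  have hne : ∀ x, h2v p q l x ≠ 0 := fun x => by
    simp only [h2v]; split_ifs <;> simp
  refine conj_trv _ hij hij a _ (fun x => ?_) (fun y hy => ?_)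
  · rw [h2_coe h]
    by_cases hx : x = i
    · subst hx
      simp only [diagonal_apply_eq, if_true]
      show h2v p q l x * a = _ * h2v p q l j
      rw [inv_mul_cancel_right₀ (hne j)]
    · simp [hx]
  · rw [h2_coe h, diagonal_apply_ne _ (Ne.symm hy)]

theorem h2_mem (p q : Fin (d + 4)) (K : Subgroup (SLn d F))
    (hp : ∀ a, trv (d + 4) F p q a ∈ K) (hq : ∀ a, trv (d + 4) F q p a ∈ K) (l : Fˣ) :
    h2 p q l ∈ K := by
  rcases eq_or_ne p q with rfl | h
  · simp [h2]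
  have key : h2 p q l = trv (d + 4) F p q (l : F) * trv (d + 4) F q p (-((l⁻¹ : Fˣ) : F)) *
      trv (d + 4) F p q (l : F) * (ntv p q)⁻¹ := by
    rw [eq_mul_inv_iff_mul_eq]
    refine Cfsg.Agent.Lib.Linear.sl_ext_single fun k => funext fun x => ?_
    rw [mul_smul, mul_smul, mul_smul, trv_smul h, trv_smul h.symm, trv_smul h]
    show ((h2 p q l : Matrix (Fin (d + 4)) (Fin (d + 4)) F).mulVec
      ((ntv p q : Matrix.SpecialLinearGroup (Fin (d + 4)) F) • Pi.single k 1)) x = _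
    rw [h2_coe h, mulVec_diagonal, ntv_mulVec h]
    by_cases hp' : x = p
    · subst hp'
      simp [h, h.symm]
      field_simp
      ring
    · by_cases hq' : x = q
      · subst hq'; simp [hp', h, h.symm]; field_simp; ring
      · simp [hp', hq']
  rw [key]
  refine mul_mem (mul_mem (mul_mem (hp _) (hq _)) (hp _)) (inv_mem ?_)
  rw [ntv]
  exact mul_mem (mul_mem (hp _) (hq _)) (hp _)

theorem h2_mul {p q : Fin (d + 4)} (h : p ≠ q) (l k : Fˣ) :
    h2 (F := F) p q (l * k) = h2 p q l * h2 p q k := by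
  refine Subtype.ext ?_
  rw [Matrix.SpecialLinearGroup.coe_mul, h2_coe h, h2_coe h, h2_coe h, diagonal_mul_diagonal]
  congr 1
  funext x
  split_ifs <;> simp [mul_comm]

end tor

namespace OmRel

variable {d : ℕ} {F : Type*} [Field F] {G : Type*} [Group G] (R : OmRel d F G)

/-- Root elements of `e₀ + e₂`. -/
def x (t : F) : G := R.w * R.ψ (trv (d + 4) F 2 1 (-t)) * R.w⁻¹

theorem x_add (s t : F) : R.x (s + t) = R.x s * R.x t := by
  rw [x, x, x, neg_add, (trv_rel (d + 4)).add 2 1 n12.symm, map_mul]; group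

theorem x_zero : R.x 0 = 1 := by
  rw [x, neg_zero, x_zero' , map_one, mul_one, mul_inv_cancel]
where
  x_zero' : trv (d + 4) F 2 1 0 = 1 :=
    Cfsg.Agent.Lib.Schur.SteinbergSLn.x_zero (trv_rel (d + 4)) n12.symm

/-- The block preserving subgroup. -/
def Kw : Subgroup (SLn d F) := (Subgroup.centralizer {R.w}).comap R.ψ

theorem mem_Kw {g : SLn d F} : g ∈ R.Kw ↔ Commute R.w (R.ψ g) := by
  simp only [Kw, Subgroup.mem_comap, Subgroup.mem_centralizer_iff, Set.mem_singleton_iff, forall_eq]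
  rfl

theorem trv_mem_Kw {i j : Fin (d + 4)} (h : i ≠ j) (hs : SameSide i j) (a : F) :
    trv (d + 4) F i j a ∈ R.Kw := R.mem_Kw.2 (R.hK i j h hs a)

theorem h2_mem_Kw {p q : Fin (d + 4)} (hs : SameSide p q) (l : Fˣ) : h2 p q l ∈ R.Kw := by
  rcases eq_or_ne p q with rfl | h
  · simp [h2]
  exact h2_mem p q R.Kw (R.trv_mem_Kw h hs) (R.trv_mem_Kw h.symm (iff_comm.1 hs)) l

theorem w_conj_of_mem {g : SLn d F} (hg : g ∈ R.Kw) :
    R.w * R.ψ g * R.w⁻¹ = R.ψ g := by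
  rw [(R.mem_Kw.1 hg).eq, mul_inv_cancel_right]

theorem conj_x_of_mem {g : SLn d F} (hg : g ∈ R.Kw) (t : F) :
    R.ψ g * R.x t * (R.ψ g)⁻¹ = R.w * R.ψ (g * trv (d + 4) F 2 1 (-t) * g⁻¹) * R.w⁻¹ := by
  have hc : Commute R.w (R.ψ g) := R.mem_Kw.1 hg
  rw [x, map_mul, map_mul, map_inv]
  calc R.ψ g * (R.w * R.ψ (trv (d + 4) F 2 1 (-t)) * R.w⁻¹) * (R.ψ g)⁻¹
      = R.ψ g * R.w * R.ψ (trv (d + 4) F 2 1 (-t)) * (R.ψ g * R.w)⁻¹ := by group
    _ = _ := by rw [← hc.eq]; group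

/-- Elements of `SL_n` fixing all root elements of `e₀ + e₂`. -/
def stab : Subgroup (SLn d F) := (Subgroup.centralizer (Set.range R.x)).comap R.ψ

theorem mem_stab {g : SLn d F} : g ∈ R.stab ↔ ∀ t, Commute (R.x t) (R.ψ g) := by
  simp only [stab, Subgroup.mem_comap, Subgroup.mem_centralizer_iff, Set.forall_mem_range]
  rfl

theorem trv_mem_stab_of_x_one {i j : Fin (d + 4)} (hij : i ≠ j)
    (h1 : ∀ a, Commute (R.x 1) (R.ψ (trv (d + 4) F i j a)))
    (hfix : ∀ l : Fˣ, h2v 0 1 l i * h2v 2 3 l i = h2v 0 1 l j * h2v 2 3 l j) (a : F) :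
    trv (d + 4) F i j a ∈ R.stab := by
  have hsq : ∀ c : F, Commute (R.x (c ^ 2)) (R.ψ (trv (d + 4) F i j a)) := by
    intro c
    rcases eq_or_ne c 0 with rfl | hc
    · simp [R.x_zero]
    set l := Units.mk0 c hc
    have hk : h2 0 1 l * h2 2 3 l ∈ R.Kw :=
      mul_mem (R.h2_mem_Kw (by simp [SameSide]) l)
        (R.h2_mem_Kw (by unfold SameSide; rw [val2, val3]; omega) l)
    have hne : ∀ p q (x : Fin (d + 4)), h2v p q l x ≠ 0 := fun p q x => by
      simp only [h2v]; split_ifs <;> simp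
    have hconj : ∀ (p q : Fin (d + 4)), p ≠ q → ∀ b,
        h2 0 1 l * h2 2 3 l * trv (d + 4) F p q b * (h2 0 1 l * h2 2 3 l)⁻¹ =
          trv (d + 4) F p q (h2v 0 1 l p * h2v 2 3 l p * b * (h2v 0 1 l q * h2v 2 3 l q)⁻¹) := by
      intro p q hpq b
      rw [show h2 0 1 l * h2 2 3 l * trv (d + 4) F p q b * (h2 0 1 l * h2 2 3 l)⁻¹ =
        h2 0 1 l * (h2 2 3 l * trv (d + 4) F p q b * (h2 2 3 l)⁻¹) * (h2 0 1 l)⁻¹ by group,
        h2_conj n23 l hpq, h2_conj n01 l hpq]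
      congr 1
      field_simp
    have h := (h1 a).map (MulAut.conj (R.ψ (h2 0 1 l * h2 2 3 l)))
    simp only [MulAut.conj_apply] at h
    rw [R.conj_x_of_mem hk, ← map_inv R.ψ, ← map_mul R.ψ, ← map_mul R.ψ, hconj _ _ n12.symm,
      hconj _ _ hij] at h
    have e1 : h2v 0 1 l i * h2v 2 3 l i * a * (h2v 0 1 l j * h2v 2 3 l j)⁻¹ = a := by
      rw [hfix, mul_comm _ a, mul_inv_cancel_right₀ (mul_ne_zero (hne 0 1 j) (hne 2 3 j))]
    have e2 : h2v (d := d) 0 1 l 2 * h2v (d := d) 2 3 l 2 * (-1) *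
        (h2v (d := d) 0 1 l 1 * h2v (d := d) 2 3 l 1)⁻¹ = -(c ^ 2) := by
      simp [h2v, n02.symm, n12, n12.symm, n01.symm, n13, l]
      ring
    rw [e1, e2] at h
    exact h
  refine R.mem_stab.2 fun t => ?_
  obtain ⟨u, v, rfl⟩ := R.hsq t
  rw [R.x_add]
  exact (hsq u).mul_left (hsq v)

theorem trv_mem_stab_K {i j : Fin (d + 4)} (hij : i ≠ j) (hs : SameSide i j) (h2' : i ≠ 1) (h1' : j ≠ 2)
    (a : F) : trv (d + 4) F i j a ∈ R.stab := by
  refine R.mem_stab.2 fun t => ?_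
  have h : Commute (R.ψ (trv (d + 4) F 2 1 (-t))) (R.ψ (trv (d + 4) F i j a)) := by
    show _ * _ = _ * _
    rw [← map_mul, ← map_mul, (trv_rel (d + 4)).comm 2 1 i j n12.symm hij h1'.symm h2'.symm]
  have h' := h.map (MulAut.conj R.w)
  simp only [MulAut.conj_apply] at h'
  rwa [R.w_conj_of_mem (R.trv_mem_Kw hij hs a)] at h'

theorem side_rest {i j : Fin (d + 4)} (hi : ¬ (i : ℕ) < 2) (hj : ¬ (j : ℕ) < 2) : SameSide i j := by
  simp [SameSide, hi, hj]

theorem rest_ne {i : Fin (d + 4)} (hi : ¬ (i : ℕ) < 2) : i ≠ 0 ∧ i ≠ 1 := by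
  constructor <;> rintro rfl <;> simp at hi

theorem trv02 (a : F) : trv (d + 4) F 0 2 a ∈ R.stab :=
  R.trv_mem_stab_of_x_one n02 (fun a => (R.hX a).1)
    (fun l => by simp [h2v, n02, n02.symm, n12.symm, n03, n23]) a

theorem trv20 (a : F) : trv (d + 4) F 2 0 a ∈ R.stab :=
  R.trv_mem_stab_of_x_one n02.symm (fun a => (R.hX a).2.1)
    (fun l => by simp [h2v, n02, n02.symm, n12.symm, n03, n23]) a

theorem trv13 (a : F) : trv (d + 4) F 1 3 a ∈ R.stab :=
  R.trv_mem_stab_of_x_one n13 (fun a => (R.hX a).2.2.1)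
    (fun l => by simp [h2v, n01.symm, n12, n13, n03.symm, n13.symm, n23.symm]) a

theorem trv31 (a : F) : trv (d + 4) F 3 1 a ∈ R.stab :=
  R.trv_mem_stab_of_x_one n13.symm (fun a => (R.hX a).2.2.2)
    (fun l => by simp [h2v, n01.symm, n12, n13, n03.symm, n13.symm, n23.symm]) a

theorem trv_rest {i j : Fin (d + 4)} (hij : i ≠ j) (hi : i ≠ 0) (hi2 : i ≠ 2) (hj : j ≠ 0) (hj2 : j ≠ 2)
    (a : F) : trv (d + 4) F i j a ∈ R.stab := by
  have big : ∀ x : Fin (d + 4), x ≠ 0 → x ≠ 1 → ¬ (x : ℕ) < 2 := fun x h0 h1 h => by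
    rcases (show (x : ℕ) = 0 ∨ (x : ℕ) = 1 by omega) with e | e
    · exact h0 (Fin.ext e)
    · exact h1 (Fin.ext (by simpa using e))
  have hhigh : ∀ {i j : Fin (d + 4)}, i ≠ j → i ≠ 0 → i ≠ 1 → j ≠ 0 → j ≠ 1 → j ≠ 2 →
      ∀ a, trv (d + 4) F i j a ∈ R.stab := fun h a0 a1 b0 b1 b2 a =>
    R.trv_mem_stab_K h (side_rest (big _ a0 a1) (big _ b0 b1)) a1 b2 a
  rcases eq_or_ne i 1 with rfl | hi1
  · rcases eq_or_ne j 3 with rfl | hj3
    · exact R.trv13 a
    · exact trv_chain_mem R.stab n13 hj3.symm hij (fun a => R.trv13 a)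
        (hhigh hj3.symm n03.symm n13.symm hj (Ne.symm hij) hj2) a
  rcases eq_or_ne j 1 with rfl | hj1
  · rcases eq_or_ne i 3 with rfl | hi3
    · exact R.trv31 a
    · exact trv_chain_mem R.stab hi3 n13.symm hij
        (hhigh hi3 hi hi1 n03.symm n13.symm n23.symm) (fun a => R.trv31 a) a
  exact hhigh hij hi hi1 hj hj1 hj2 a

theorem trv_two_rest {j : Fin (d + 4)} (hj : j ≠ 0) (hj2 : j ≠ 2) (a : F) :
    trv (d + 4) F 2 j a ∈ R.stab := by
  rcases eq_or_ne j 1 with rfl | hj1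
  · exact trv_chain_mem R.stab n02.symm n01 n12.symm (fun a => R.trv20 a)
      (fun a => R.trv_mem_stab_K n01 (by simp [SameSide]) n01 n12 a) a
  · refine R.trv_mem_stab_K (Ne.symm hj2) (side_rest (by rw [val2]; omega) ?_) n12.symm hj2 a
    intro h
    rcases (show (j : ℕ) = 0 ∨ (j : ℕ) = 1 by omega) with e | e
    · exact hj (Fin.ext e)
    · exact hj1 (Fin.ext (by simpa using e))

theorem trv_zero_rest {j : Fin (d + 4)} (hj : j ≠ 0) (hj2 : j ≠ 2) (a : F) :
    trv (d + 4) F 0 j a ∈ R.stab :=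
  trv_chain_mem R.stab n02 hj2.symm hj.symm (fun a => R.trv02 a) (fun a => R.trv_two_rest hj hj2 a) a

/-- `0, 2` against the others. -/
def e02 : Fin 2 ⊕ Fin (d + 2) ≃ Fin (d + 4) :=
  (finSumFinEquiv.trans (finCongr (by omega : 2 + (d + 2) = d + 4))).trans (Equiv.swap 1 2)

theorem e02_zero : (e02 (d := d)) (Sum.inl 0) = 0 := by
  rw [e02, Equiv.trans_apply, show (finSumFinEquiv.trans (finCongr (by omega : 2 + (d + 2) = d + 4)))
    (Sum.inl (0 : Fin 2)) = (0 : Fin (d + 4)) from Fin.ext rfl, Equiv.swap_apply_of_ne_of_ne n01 n02]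

theorem e02_one : (e02 (d := d)) (Sum.inl 1) = 2 := by
  rw [e02, Equiv.trans_apply, show (finSumFinEquiv.trans (finCongr (by omega : 2 + (d + 2) = d + 4)))
    (Sum.inl (1 : Fin 2)) = (1 : Fin (d + 4)) from Fin.ext rfl, Equiv.swap_apply_left]

theorem e02_inr (j : Fin (d + 2)) : (e02 (d := d)) (Sum.inr j) ≠ 0 ∧ (e02 (d := d)) (Sum.inr j) ≠ 2 :=
  ⟨fun h => by rw [← e02_zero] at h; simp at h, fun h => by rw [← e02_one] at h; simp at h⟩

theorem mem_stab_of_fix {k : SLn d F}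
    (h0 : ∀ r, r ≠ 0 → r ≠ 2 → k.1 r 0 = 0 ∧ k.1 r 2 = 0)
    (hdet : k.1 0 0 * k.1 2 2 - k.1 0 2 * k.1 2 0 = 1) : k ∈ R.stab := by
  refine mem_of_blocks (e := e02 (d := d)) R.stab ?_ ?_ ?_ (fun j i => ?_) ?_
  · intro i j h c
    fin_cases i <;> fin_cases j
    · exact absurd rfl h
    · rw [← trv_eq]
      simp only [Fin.zero_eta, Fin.mk_one, e02_zero, e02_one]
      exact R.trv02 c
    · rw [← trv_eq]
      simp only [Fin.zero_eta, Fin.mk_one, e02_zero, e02_one]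
      exact R.trv20 c
    · exact absurd rfl h
  · intro i j h c
    rw [← trv_eq]
    exact R.trv_rest h (e02_inr i).1 (e02_inr i).2 (e02_inr j).1 (e02_inr j).2 c
  · intro i j h c
    rw [← trv_eq]
    fin_cases i
    · simp only [Fin.zero_eta, e02_zero]
      exact R.trv_zero_rest (e02_inr j).1 (e02_inr j).2 c
    · simp only [Fin.mk_one, e02_one]
      exact R.trv_two_rest (e02_inr j).1 (e02_inr j).2 c
  · obtain ⟨ha, hb⟩ := h0 _ (e02_inr j).1 (e02_inr j).2
    fin_cases i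
    · simp only [Fin.zero_eta, e02_zero]; exact ha
    · simp only [Fin.mk_one, e02_one]; exact hb
  · rw [Matrix.det_fin_two]
    simp only [submatrix_apply, Function.comp_apply, e02_zero, e02_one]
    exact hdet

/-- The standard decomposable alternating matrix. -/
def A0 (d : ℕ) (F : Type*) [Field F] : Matrix (Fin (d + 4)) (Fin (d + 4)) F :=
  Matrix.single 0 2 1 - Matrix.single 2 0 1

/-- The alternating matrix of an element of the orbit. -/
def bv (g : SLn d F) : Matrix (Fin (d + 4)) (Fin (d + 4)) F := g.1 * A0 d F * g.1ᵀ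

theorem bv_apply (g : SLn d F) (r s : Fin (d + 4)) :
    bv g r s = g.1 r 0 * g.1 s 2 - g.1 r 2 * g.1 s 0 := by
  rw [bv, A0, mul_sub, sub_mul, Matrix.sub_apply, Matrix.mul_apply, Matrix.mul_apply,
    Finset.sum_eq_single (2 : Fin (d + 4)) (fun b _ hb => by
      rw [Matrix.mul_single_apply_of_ne _ _ _ _ _ hb, zero_mul]) (by simp),
    Finset.sum_eq_single (0 : Fin (d + 4)) (fun b _ hb => by
      rw [Matrix.mul_single_apply_of_ne _ _ _ _ _ hb, zero_mul]) (by simp),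
    Matrix.mul_single_apply_same, Matrix.mul_single_apply_same, mul_one, mul_one, transpose_apply,
    transpose_apply]

/-- The root element of an element of the orbit. -/
def X (g : SLn d F) : G := R.ψ g * R.x 1 * (R.ψ g)⁻¹

theorem X_conj (g h : SLn d F) : R.ψ g * R.X h * (R.ψ g)⁻¹ = R.X (g * h) := by
  rw [X, X, map_mul]; group

theorem bv_mul (g h : SLn d F) : bv (g * h) = g.1 * bv h * g.1ᵀ := by
  rw [bv, bv, Matrix.SpecialLinearGroup.coe_mul, transpose_mul]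
  simp only [Matrix.mul_assoc]

theorem bv_one : bv (1 : SLn d F) = A0 d F := by
  rw [bv, Matrix.SpecialLinearGroup.coe_one, transpose_one, one_mul, mul_one]

theorem bv_trv (g : SLn d F) {i j : Fin (d + 4)} (h : i ≠ j) (a : F) (r s : Fin (d + 4)) :
    bv (trv (d + 4) F i j a * g) r s =
      (g.1 r 0 + if r = i then a * g.1 j 0 else 0) * (g.1 s 2 + if s = i then a * g.1 j 2 else 0) -
      (g.1 r 2 + if r = i then a * g.1 j 2 else 0) * (g.1 s 0 + if s = i then a * g.1 j 0 else 0) := by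
  rw [bv_apply]
  have : ∀ x y, (trv (d + 4) F i j a * g).1 x y = g.1 x y + if x = i then a * g.1 j y else 0 := by
    intro x y
    rw [Matrix.SpecialLinearGroup.coe_mul, trv_coe h, add_mul, one_mul, Matrix.add_apply]
    by_cases hx : x = i
    · subst hx; simp [Matrix.single_mul_apply_same]
    · simp [hx, Matrix.single_mul_apply_of_ne]
  simp only [this]

theorem X_congr {g h : SLn d F} (e : bv g = bv h) : R.X g = R.X h := by
  set k := h⁻¹ * g with hk
  have hkb : bv k = A0 d F := by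
    rw [hk, bv_mul, e, ← bv_mul, inv_mul_cancel, bv_one]
  have hA : ∀ r s, k.1 r 0 * k.1 s 2 - k.1 r 2 * k.1 s 0 = A0 d F r s := fun r s => by
    rw [← bv_apply, hkb]
  have hdet : k.1 0 0 * k.1 2 2 - k.1 0 2 * k.1 2 0 = 1 := by
    rw [hA]; simp [A0, n02, n02.symm]
  have hk' : k ∈ R.stab := by
    refine R.mem_stab_of_fix (fun r hr0 hr2 => ?_) hdet
    have e0 : k.1 r 0 * k.1 0 2 - k.1 r 2 * k.1 0 0 = 0 := by
      rw [hA]; simp [A0, hr0.symm, hr2.symm]
    have e2 : k.1 r 0 * k.1 2 2 - k.1 r 2 * k.1 2 0 = 0 := by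
      rw [hA]; simp [A0, hr0.symm, hr2.symm]
    constructor
    · linear_combination (k.1 0 0) * e2 - (k.1 2 0) * e0 - (k.1 r 0) * hdet
    · linear_combination (k.1 0 2) * e2 - (k.1 2 2) * e0 - (k.1 r 2) * hdet
  have hg : g = h * k := by rw [hk, mul_inv_cancel_left]
  rw [hg, ← R.X_conj]
  show R.ψ h * (R.ψ k * R.x 1 * (R.ψ k)⁻¹) * (R.ψ h)⁻¹ = R.X h
  rw [← ((R.mem_stab.1 hk') 1).eq, mul_inv_cancel_right]
  rfl

end OmRel

end Cfsg.Agent.Lib.ShortPresOm
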