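import Mathlib
import Cfsg.Agent.Lib.Linear.Transvection
import Cfsg.Agent.Lib.Schur.SteinbergSLn

/-!
# Short presentations of orthogonal groups, part 1

Block triangular matrices of determinant one lie in every subgroup with the transvections of
their shape.
-/

set_option autoImplicit false
set_option linter.unusedSectionVars false

namespace Cfsg.Agent.Lib.ShortPresOm

open Matrix

variable {α β ι : Type*} [Fintype α] [DecidableEq α] [Fintype β] [DecidableEq β] [Fintype ι]
  [DecidableEq ι] {F : Type*} [Field F] (e : α ⊕ β ≃ ι)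

/-- A matrix from blocks along an equivalence. -/
def blkMat (A : Matrix α α F) (B : Matrix α β F) (D : Matrix β β F) : Matrix ι ι F :=
  (fromBlocks A B 0 D).submatrix e.symm e.symm

theorem det_blkMat (A : Matrix α α F) (B : Matrix α β F) (D : Matrix β β F) :
    (blkMat e A B D).det = A.det * D.det := by
  rw [blkMat, det_submatrix_equiv_self, det_fromBlocks_zero₂₁]

theorem blkMat_mul (A A' : Matrix α α F) (B B' : Matrix α β F) (D D' : Matrix β β F) :
    blkMat e A B D * blkMat e A' B' D' = blkMat e (A * A') (A * B' + B * D') (D * D') := by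
  rw [blkMat, blkMat, submatrix_mul_equiv, fromBlocks_multiply, blkMat]
  simp

/-- Pairs of block diagonal matrices. -/
def diagHom : Matrix.SpecialLinearGroup α F × Matrix.SpecialLinearGroup β F →*
    Matrix.SpecialLinearGroup ι F where
  toFun p := ⟨blkMat e p.1.1 0 p.2.1, by rw [det_blkMat, p.1.2, p.2.2, one_mul]⟩
  map_one' := by
    refine Subtype.ext ?_
    show blkMat e (1 : Matrix α α F) 0 1 = 1
    rw [blkMat, fromBlocks_one, submatrix_one_equiv]
  map_mul' p q := by
    refine Subtype.ext ?_
    show blkMat e (p.1.1 * q.1.1) 0 (p.2.1 * q.2.1) = blkMat e p.1.1 0 p.2.1 * blkMat e q.1.1 0 q.2.1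
    rw [blkMat_mul]
    simp

theorem diagHom_coe (p : Matrix.SpecialLinearGroup α F × Matrix.SpecialLinearGroup β F) :
    (diagHom e p : Matrix ι ι F) = blkMat e p.1.1 0 p.2.1 := rfl

theorem diagHom_left (i j : α) (h : i ≠ j) (c : F) :
    diagHom e (Matrix.SpecialLinearGroup.transvection h c, 1) =
      Matrix.SpecialLinearGroup.transvection (e.injective.ne (Sum.inl_injective.ne h)) c := by
  apply Matrix.SpecialLinearGroup.ext
  intro x y
  obtain ⟨x, rfl⟩ := e.surjective x
  obtain ⟨y, rfl⟩ := e.surjective y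
  simp only [diagHom_coe, blkMat, submatrix_apply, Equiv.symm_apply_apply,
    Matrix.SpecialLinearGroup.transvection_coe, Matrix.SpecialLinearGroup.coe_one]
  rcases x with x | x <;> rcases y with y | y <;>
    simp [Matrix.transvection, Matrix.one_apply, Matrix.single_apply]

theorem diagHom_right (i j : β) (h : i ≠ j) (c : F) :
    diagHom e (1, Matrix.SpecialLinearGroup.transvection h c) =
      Matrix.SpecialLinearGroup.transvection (e.injective.ne (Sum.inr_injective.ne h)) c := by
  apply Matrix.SpecialLinearGroup.ext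
  intro x y
  obtain ⟨x, rfl⟩ := e.surjective x
  obtain ⟨y, rfl⟩ := e.surjective y
  simp only [diagHom_coe, blkMat, submatrix_apply, Equiv.symm_apply_apply,
    Matrix.SpecialLinearGroup.transvection_coe, Matrix.SpecialLinearGroup.coe_one]
  rcases x with x | x <;> rcases y with y | y <;>
    simp [Matrix.transvection, Matrix.one_apply, Matrix.single_apply]

/-- Upper unipotent blocks. -/
def upp (B : Matrix α β F) : Matrix.SpecialLinearGroup ι F :=
  ⟨blkMat e 1 B 1, by rw [det_blkMat, det_one, det_one, one_mul]⟩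

theorem upp_add (B C : Matrix α β F) : upp e (B + C) = upp e B * upp e C := by
  refine Subtype.ext ?_
  show blkMat e 1 (B + C) 1 = blkMat e 1 B 1 * blkMat e 1 C 1
  rw [blkMat_mul]
  simp [add_comm]

theorem upp_single (i : α) (j : β) (c : F) :
    upp e (Matrix.single i j c) = Matrix.SpecialLinearGroup.transvection
      (e.injective.ne (show (Sum.inl i : α ⊕ β) ≠ Sum.inr j by simp)) c := by
  apply Matrix.SpecialLinearGroup.ext
  intro x y
  obtain ⟨x, rfl⟩ := e.surjective x
  obtain ⟨y, rfl⟩ := e.surjective y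
  simp only [upp, blkMat, submatrix_apply, Equiv.symm_apply_apply,
    Matrix.SpecialLinearGroup.transvection_coe]
  rcases x with x | x <;> rcases y with y | y <;>
    simp [Matrix.transvection, Matrix.one_apply, Matrix.single_apply]

variable {e}

/-- Block upper triangular matrices with both blocks of determinant one. -/
theorem mem_of_blocks (K : Subgroup (Matrix.SpecialLinearGroup ι F))
    (hA : ∀ i j : α, ∀ (h : e (.inl i) ≠ e (.inl j)), ∀ c : F,
      Matrix.SpecialLinearGroup.transvection h c ∈ K)
    (hD : ∀ i j : β, ∀ (h : e (.inr i) ≠ e (.inr j)), ∀ c : F,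
      Matrix.SpecialLinearGroup.transvection h c ∈ K)
    (hB : ∀ (i : α) (j : β), ∀ (h : e (.inl i) ≠ e (.inr j)), ∀ c : F,
      Matrix.SpecialLinearGroup.transvection h c ∈ K)
    {g : Matrix.SpecialLinearGroup ι F}
    (h0 : ∀ (j : β) (i : α), (g : Matrix ι ι F) (e (.inr j)) (e (.inl i)) = 0)
    (hdet : ((g : Matrix ι ι F).submatrix (e ∘ Sum.inl) (e ∘ Sum.inl)).det = 1) : g ∈ K := by
  set A := (g : Matrix ι ι F).submatrix (e ∘ Sum.inl) (e ∘ Sum.inl) with hAdef
  set B := (g : Matrix ι ι F).submatrix (e ∘ Sum.inl) (e ∘ Sum.inr) with hBdef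
  set D := (g : Matrix ι ι F).submatrix (e ∘ Sum.inr) (e ∘ Sum.inr) with hDdef
  have hg : (g : Matrix ι ι F) = blkMat e A B D := by
    ext x y
    obtain ⟨x, rfl⟩ := e.surjective x
    obtain ⟨y, rfl⟩ := e.surjective y
    simp only [blkMat, submatrix_apply, Equiv.symm_apply_apply]
    rcases x with x | x <;> rcases y with y | y <;> simp [hAdef, hBdef, hDdef, h0]
  have hDdet : D.det = 1 := by
    have h := congrArg Matrix.det hg
    rw [g.2, det_blkMat, hdet, one_mul] at h
    exact h.symm
  set a : Matrix.SpecialLinearGroup α F := ⟨A, hdet⟩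
  set d : Matrix.SpecialLinearGroup β F := ⟨D, hDdet⟩
  have hsplit : g = upp e (B * ((d⁻¹ : Matrix.SpecialLinearGroup β F) : Matrix β β F)) *
      diagHom e (a, d) := by
    refine Subtype.ext ?_
    show _ = blkMat e 1 (B * ((d⁻¹ : Matrix.SpecialLinearGroup β F) : Matrix β β F)) 1 * blkMat e A 0 D
    rw [blkMat_mul, hg, Matrix.mul_assoc, show ((d⁻¹ : Matrix.SpecialLinearGroup β F) : Matrix β β F) * D =
      1 from by rw [show D = (d : Matrix β β F) from rfl, ← Matrix.SpecialLinearGroup.coe_mul,
        inv_mul_cancel, Matrix.SpecialLinearGroup.coe_one]]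
    simp
  have hupp : ∀ C, upp e C ∈ K := by
    intro C
    induction C using Matrix.induction_on' with
    | h_zero =>
      have : upp e (0 : Matrix α β F) = 1 := by
        refine Subtype.ext ?_
        show blkMat e 1 0 1 = 1
        rw [blkMat, fromBlocks_one, submatrix_one_equiv]
      rw [this]; exact one_mem _
    | h_add p q hp hq => rw [upp_add]; exact mul_mem hp hq
    | h_std_basis i j c => rw [upp_single]; exact hB _ _ _ _
  have hdiag : ∀ p, diagHom e p ∈ K := by
    intro p
    have h1 : K.comap ((diagHom e).comp (MonoidHom.inl _ _)) = ⊤ :=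
      Cfsg.Agent.Lib.Linear.sl_eq_top_of_transvection_mem _ fun i j h c => by
        show diagHom e (_, 1) ∈ K
        rw [diagHom_left]; exact hA _ _ _ _
    have h2 : K.comap ((diagHom e).comp (MonoidHom.inr _ _)) = ⊤ :=
      Cfsg.Agent.Lib.Linear.sl_eq_top_of_transvection_mem _ fun i j h c => by
        show diagHom e (1, _) ∈ K
        rw [diagHom_right]; exact hD _ _ _ _
    have e1 : diagHom e (p.1, 1) ∈ K := (h1.symm ▸ Subgroup.mem_top p.1 :)
    have e2 : diagHom e (1, p.2) ∈ K := (h2.symm ▸ Subgroup.mem_top p.2 :)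
    have := mul_mem e1 e2
    rwa [← map_mul, Prod.mk_mul_mk, mul_one, one_mul] at this
  rw [hsplit]
  exact mul_mem (hupp _) (hdiag _)

end Cfsg.Agent.Lib.ShortPresOm
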