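import Cfsg.Agent.Lib.ShortPresOm.Weyl

/-!
# Short presentations of orthogonal groups, part 8

The group is the union of the double cosets of the Siegel parabolic subgroup represented by the
products of the commuting Weyl elements.
-/

set_option autoImplicit false
set_option linter.unusedSectionVars false

namespace Cfsg.Agent.Lib.ShortPresOm

open Matrix Equiv Cfsg.Agent.Lib.Schur.SteinbergSLn Cfsg.Agent.Lib.ShortPresSp

variable {d : ℕ} {F : Type*} [Field F]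

/-- The first two rows are supported in `{a, b}`. -/
def Supp (g : SLn d F) (a b : Fin (d + 4)) : Prop :=
  ∀ x z : Fin (d + 4), (x : ℕ) < 2 → z ≠ a → z ≠ b → g.1 x z = 0

theorem Supp.symm {g : SLn d F} {a b : Fin (d + 4)} (h : Supp g a b) : Supp g b a :=
  fun x z hx h1 h2 => h x z hx h2 h1

theorem Supp.mul_mon {g q : SLn d F} {σ : Perm (Fin (d + 4))} {a b : Fin (d + 4)}
    (h : Supp g (σ a) (σ b)) (hq : Mon q σ) : Supp (g * q) a b := by
  obtain ⟨D, hD⟩ := hq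
  intro x z hx h1 h2
  rw [Matrix.SpecialLinearGroup.coe_mul, Matrix.mul_apply,
    Finset.sum_eq_single (σ z) (fun c _ hc => by rw [hD, if_neg hc, mul_zero]) (by simp),
    h x _ hx (σ.injective.ne h1) (σ.injective.ne h2), zero_mul]

theorem mul_trv_apply (g : SLn d F) {l i : Fin (d + 4)} (h : l ≠ i) (c : F) (x y : Fin (d + 4)) :
    (g * trv (d + 4) F l i c).1 x y = g.1 x y + if y = i then g.1 x l * c else 0 := by
  rw [Matrix.SpecialLinearGroup.coe_mul, trv_coe h, mul_add, mul_one, Matrix.add_apply]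
  by_cases hy : y = i
  · subst hy; simp [Matrix.mul_single_apply_same]
  · simp [hy, Matrix.mul_single_apply_of_ne]

theorem ix_two (k : ℕ) (h : 2 * k + 1 < d + 4) :
    swp d k 0 = ix d (2 * k) ∧ swp d k 1 = ix d (2 * k + 1) := by
  have h0 := ix_val (show 2 * k < d + 4 by omega)
  have h1 := ix_val h
  have v0 : ((0 : Fin (d + 4)) : ℕ) = 0 := rfl
  have v1 : ((1 : Fin (d + 4)) : ℕ) = 1 := by simp
  constructor <;> simp only [swp, Perm.mul_apply, Equiv.swap_apply_def] <;> split_ifs <;>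
    simp only [Fin.ext_iff, not_true] at * <;> omega

namespace OmRel

variable {G : Type*} [Group G] (R : OmRel d F G)

/-- What may be moved left through the first Weyl element. -/
def HsM : Subgroup (SLn d F) := R.P.comap ((MulAut.conj R.w).toMonoidHom.comp R.ψ)

theorem Kw_le_HsM {g : SLn d F} (hg : g ∈ R.Kw) : g ∈ R.HsM := by
  show R.w * R.ψ g * R.w⁻¹ ∈ R.P
  rw [R.w_conj_of_mem hg]; exact R.ψ_mem_P g

theorem trv_mem_HsM {i j : Fin (d + 4)} (hi : ¬ (i : ℕ) < 2) (hj : (j : ℕ) < 2) (t : F) :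
    trv (d + 4) F i j t ∈ R.HsM := by
  show R.w * R.ψ (trv (d + 4) F i j t) * R.w⁻¹ ∈ R.P
  obtain ⟨hi0, hi1⟩ := rest_ne hi
  rcases (show (j : ℕ) = 0 ∨ (j : ℕ) = 1 by omega) with e | e
  · obtain rfl : j = 0 := Fin.ext e
    rw [R.w_trv_zero hi]; exact R.rt_mem_P hi1.symm _
  · obtain rfl : j = 1 := Fin.ext (by simpa using e)
    rw [R.w_trv_one hi]; exact R.rt_mem_P hi0.symm _

theorem h2_12_mem_HsM (l : Fˣ) : h2 1 2 l ∈ R.HsM := by
  show R.w * R.ψ (h2 1 2 l) * R.w⁻¹ ∈ R.P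
  have e : h2 (F := F) (1 : Fin (d + 4)) 2 l = h2 2 1 l⁻¹ := by
    refine Subtype.ext ?_
    rw [h2_coe n12, h2_coe n12.symm]
    congr 1
    funext x
    by_cases a : x = 1
    · subst a; simp [n12]
    · simp [a]
  rw [e]
  exact R.T_mem_P l⁻¹

theorem supp_mem_HsM {h : SLn d F} (hs : Supp h 0 1) : h ∈ R.HsM := by
  have hz : ∀ x z : Fin (d + 4), (x : ℕ) < 2 → ¬ (z : ℕ) < 2 → h.1 x z = 0 := fun x z hx hz =>
    hs x z hx (rest_ne hz).1 (rest_ne hz).2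
  let e : Fin (d + 2) ⊕ Fin 2 ≃ Fin (d + 4) :=
    (Equiv.sumComm _ _).trans (finSumFinEquiv.trans (finCongr (by omega : 2 + (d + 2) = d + 4)))
  have hr : ∀ j : Fin 2, ((e (.inr j) : Fin (d + 4)) : ℕ) < 2 := fun j => by simp [e]; omega
  have hl : ∀ i : Fin (d + 2), ¬ ((e (.inl i) : Fin (d + 4)) : ℕ) < 2 := fun i => by simp [e]
  have er0 : e (.inr 0) = 0 := Fin.ext (by simp [e])
  have er1 : e (.inr 1) = 1 := Fin.ext (by simp [e])
  have hdet : ∀ g : SLn d F, (∀ j i, g.1 (e (.inr j)) (e (.inl i)) = 0) →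
      (g.1.submatrix (e ∘ Sum.inl) (e ∘ Sum.inl)).det *
        (g.1.submatrix (e ∘ Sum.inr) (e ∘ Sum.inr)).det = 1 := by
    intro g hg
    have hb : g.1.submatrix e e = fromBlocks (g.1.submatrix (e ∘ Sum.inl) (e ∘ Sum.inl))
        (g.1.submatrix (e ∘ Sum.inl) (e ∘ Sum.inr)) 0
        (g.1.submatrix (e ∘ Sum.inr) (e ∘ Sum.inr)) := by
      ext x y
      rcases x with x | x <;> rcases y with y | y <;> simp [hg]
    have := congrArg Matrix.det hb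
    rw [det_submatrix_equiv_self, g.2, det_fromBlocks_zero₂₁] at this
    exact this.symm
  set c := (h.1.submatrix (e ∘ Sum.inr) (e ∘ Sum.inr)).det with hc
  have hc0 : c ≠ 0 := fun e0 => by
    have := hdet h fun j i => hz _ _ (hr j) (hl i)
    rw [← hc, e0, mul_zero] at this
    exact zero_ne_one this
  set t := h2 (F := F) (1 : Fin (d + 4)) 2 (Units.mk0 c hc0)⁻¹
  suffices ht : t * h ∈ R.HsM by
    have := mul_mem (inv_mem (R.h2_12_mem_HsM (Units.mk0 c hc0)⁻¹)) ht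
    rwa [inv_mul_cancel_left] at this
  have hrow : ∀ x y, (t * h).1 x y = (if x = 1 then c⁻¹ else if x = 2 then c else 1) * h.1 x y := by
    intro x y
    rw [Matrix.SpecialLinearGroup.coe_mul, h2_coe n12, diagonal_mul]
    simp
  refine mem_of_blocks (e := e) R.HsM ?_ ?_ ?_ (fun j i => ?_) ?_
  · intro i j hne a
    rw [← trv_eq hne]
    exact R.Kw_le_HsM (R.trv_mem_Kw hne (side_rest (hl i) (hl j)) a)
  · intro i j hne a
    rw [← trv_eq hne]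
    exact R.Kw_le_HsM (R.trv_mem_Kw hne ⟨fun _ => hr j, fun _ => hr i⟩ a)
  · intro i j hne a
    rw [← trv_eq hne]
    exact R.trv_mem_HsM (hl i) (hr j) a
  · rw [hrow, hz _ _ (hr j) (hl i), mul_zero]
  · have h1 := hdet (t * h) fun j i => by rw [hrow, hz _ _ (hr j) (hl i), mul_zero]
    have h2 : ((t * h).1.submatrix (e ∘ Sum.inr) (e ∘ Sum.inr)).det = 1 := by
      rw [det_fin_two]
      simp only [submatrix_apply, Function.comp_apply, er0, er1, hrow, if_true, n01, n02, if_false,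
        one_mul]
      have e2 : h.1 0 0 * h.1 1 1 - h.1 0 1 * h.1 1 0 = c := by
        rw [hc, det_fin_two]; simp [er0, er1]
      field_simp
      linear_combination e2
    rw [h2, mul_one] at h1
    exact h1

theorem clear (k : ℕ) (hk : 2 * k ≤ d + 4) (g : SLn d F) (r l l' : Fin (d + 4))
    (hl : g.1 r l ≠ 0)
    (hok : ∀ j, j ≠ l → j ≠ l' → g.1 r j ≠ 0 → ¬ ((l : ℕ) < 2 * k ∧ 2 * k ≤ (j : ℕ))) :
    ∃ q ∈ R.Qs k, (∀ j, j ≠ l → j ≠ l' → (g * q).1 r j = 0) ∧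
      (∀ x j, g.1 x l = 0 → (g * q).1 x j = g.1 x j) ∧ ∀ x, (g * q).1 x l = g.1 x l := by
  classical
  suffices h : ∀ s : Finset (Fin (d + 4)), l ∉ s → l' ∉ s → ∃ q ∈ R.Qs k, ∀ x j,
      (g * q).1 x j = g.1 x j + if j ∈ s then -(g.1 r j / g.1 r l) * g.1 x l else 0 by
    obtain ⟨q, hq, e⟩ := h ((Finset.univ.erase l).erase l') (by simp) (by simp)
    refine ⟨q, hq, fun j h1 h2 => ?_, fun x j hx => ?_, fun x => ?_⟩
    · rw [e, if_pos (by simp [h1, h2])]; field_simp; ring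
    · rw [e, hx]; simp
    · rw [e, if_neg (by simp)]; simp
  intro s
  induction s using Finset.induction_on with
  | empty => exact fun _ _ => ⟨1, one_mem _, fun x j => by simp⟩
  | @insert i s his ih =>
    intro hls hls'
    rw [Finset.mem_insert, not_or] at hls hls'
    obtain ⟨q, hq, e⟩ := ih hls.2 hls'.2
    by_cases hri : g.1 r i = 0
    · refine ⟨q, hq, fun x j => ?_⟩
      rw [e]
      by_cases hj : j = i
      · subst hj; simp [his, hri]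
      · simp [hj]
    refine ⟨q * trv (d + 4) F l i (-(g.1 r i / g.1 r l)), mul_mem hq (R.trv_mem_Qs hk hls.1
      (hok i (Ne.symm hls.1) (Ne.symm hls'.1) hri) _), fun x j => ?_⟩
    rw [← mul_assoc, mul_trv_apply _ hls.1, e x j, e x l, if_neg hls.2, add_zero]
    by_cases hj : j = i
    · subst hj; simp [his]; ring
    · simp [hj]

theorem exists_support (k : ℕ) (hk : 2 * k ≤ d + 4) (g : SLn d F) :
    ∃ q ∈ R.Qs k, ∃ a b : Fin (d + 4), a ≠ b ∧ Supp (g * q) a b := by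
  classical
  obtain ⟨r, r', hrow, hne, l, hl, hok⟩ : ∃ r r' : Fin (d + 4),
      (∀ x : Fin (d + 4), (x : ℕ) < 2 → x = r ∨ x = r') ∧ r ≠ r' ∧
      ∃ l, g.1 r l ≠ 0 ∧ ∀ j, g.1 r j ≠ 0 → ¬ ((l : ℕ) < 2 * k ∧ 2 * k ≤ (j : ℕ)) := by
    have hx : ∀ x : Fin (d + 4), (x : ℕ) < 2 → x = 0 ∨ x = 1 := fun x hx => by
      rcases (show (x : ℕ) = 0 ∨ (x : ℕ) = 1 by omega) with e | e
      · exact Or.inl (Fin.ext e)
      · exact Or.inr (Fin.ext (by simpa using e))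
    by_cases h0 : ∃ l : Fin (d + 4), 2 * k ≤ (l : ℕ) ∧ g.1 0 l ≠ 0
    · obtain ⟨l, h1, h2⟩ := h0
      exact ⟨0, 1, hx, n01, l, h2, fun j _ => by omega⟩
    by_cases h1 : ∃ l : Fin (d + 4), 2 * k ≤ (l : ℕ) ∧ g.1 1 l ≠ 0
    · obtain ⟨l, h1, h2⟩ := h1
      exact ⟨1, 0, fun x h => (hx x h).symm, n01.symm, l, h2, fun j _ => by omega⟩
    push Not at h0
    obtain ⟨l, hl⟩ : ∃ l, g.1 0 l ≠ 0 := by
      by_contra! h
      exact one_ne_zero (g.2.symm.trans (Matrix.det_eq_zero_of_row_eq_zero 0 h))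
    exact ⟨0, 1, hx, n01, l, hl, fun j hj hh => hj (h0 j hh.2)⟩
  obtain ⟨q1, hq1, hclear, -, hkeep⟩ := R.clear k hk g r l l hl (fun j _ _ hj => hok j hj)
  set G1 := g * q1 with hG1
  have hex : ∃ j, j ≠ l ∧ G1.1 r' j ≠ 0 := by
    by_contra! h
    have hz : ∀ j, (trv (d + 4) F r' r (-(G1.1 r' l / G1.1 r l)) * G1).1 r' j = 0 := by
      intro j
      rw [Matrix.SpecialLinearGroup.coe_mul, trv_coe hne.symm, add_mul, one_mul, Matrix.add_apply,
        Matrix.single_mul_apply_same]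
      by_cases hj : j = l
      · subst hj
        have : G1.1 r j ≠ 0 := by rw [hkeep]; exact hl
        field_simp
        ring
      · rw [h j hj, hclear j hj hj]; ring
    exact one_ne_zero ((trv (d + 4) F r' r _ * G1).2.symm.trans
      (Matrix.det_eq_zero_of_row_eq_zero r' hz))
  obtain ⟨l', hll, hl', hok'⟩ : ∃ l', l' ≠ l ∧ G1.1 r' l' ≠ 0 ∧ ∀ j, j ≠ l' → j ≠ l →
      G1.1 r' j ≠ 0 → ¬ ((l' : ℕ) < 2 * k ∧ 2 * k ≤ (j : ℕ)) := by
    by_cases h : ∃ j : Fin (d + 4), 2 * k ≤ (j : ℕ) ∧ j ≠ l ∧ G1.1 r' j ≠ 0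
    · obtain ⟨j, h1, h2, h3⟩ := h
      exact ⟨j, h2, h3, fun x _ _ _ => by omega⟩
    push Not at h
    obtain ⟨j, h1, h2⟩ := hex
    exact ⟨j, h1, h2, fun x _ hx hxne hh => hxne (h x hh.2 hx)⟩
  obtain ⟨q2, hq2, hclear2, hfix, -⟩ := R.clear k hk G1 r' l' l hl' hok'
  refine ⟨q1 * q2, mul_mem hq1 hq2, l, l', hll.symm, fun x z hx h1 h2 => ?_⟩
  rw [← mul_assoc]
  rcases hrow x hx with rfl | rfl
  · rw [hfix x z (hclear l' hll hll)]; exact hclear z h1 h1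
  · exact hclear2 z h2 h1

theorem move (k : ℕ) (hk : 2 * k ≤ d + 4) (g : SLn d F) {a b a' b' : Fin (d + 4)} (hab : a ≠ b)
    (hab' : a' ≠ b') (ha : (a : ℕ) < 2 * k ↔ (a' : ℕ) < 2 * k)
    (hb : (b : ℕ) < 2 * k ↔ (b' : ℕ) < 2 * k) (hs : Supp g a b) :
    ∃ q ∈ R.Qs k, Supp (g * q) a' b' := by
  have hn : ∀ x y : Fin (d + 4), ((x : ℕ) < 2 * k ↔ (y : ℕ) < 2 * k) →
      (ntv x y : SLn d F) ∈ R.Qs k := by
    intro x y h
    rcases eq_or_ne x y with rfl | hxy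
    · have : (ntv x x : SLn d F) = 1 := by simp [ntv, trv]
      rw [this]; exact one_mem _
    rw [ntv]
    exact mul_mem (mul_mem (R.trv_mem_Qs hk hxy (fun hh => absurd (h.1 hh.1) (by omega)) _)
      (R.trv_mem_Qs hk hxy.symm (fun hh => absurd (h.2 hh.1) (by omega)) _))
      (R.trv_mem_Qs hk hxy (fun hh => absurd (h.1 hh.1) (by omega)) _)
  set b1 := swap a a' b with hb1
  have hb1a : b1 ≠ a' := fun e => hab (by
    have := congrArg (swap a a') e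
    rw [hb1, swap_apply_self, swap_apply_right] at this
    exact this.symm)
  have hs1 : Supp (g * ntv a a') a' b1 := by
    refine Supp.mul_mon ?_ (Mon.ntv' a a')
    rw [hb1, swap_apply_right, swap_apply_self]
    exact hs
  have hb1' : (b1 : ℕ) < 2 * k ↔ (b' : ℕ) < 2 * k := by
    rw [← hb, hb1, Equiv.swap_apply_def]
    split_ifs with h1 h2
    · subst h1; exact ha.symm
    · subst h2; exact ha
    · rfl
  refine ⟨ntv a a' * ntv b1 b', mul_mem (hn _ _ ha) (hn _ _ hb1'), ?_⟩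
  rw [← mul_assoc]
  refine Supp.mul_mon ?_ (Mon.ntv' b1 b')
  rw [swap_apply_right, swap_apply_of_ne_of_ne hb1a.symm hab']
  exact hs1

/-- The representatives of the middle factor. -/
def Mid (k : ℕ) (π : SLn d F) : Prop :=
  (1 ≤ k ∧ π = 1) ∨ (1 ≤ k ∧ 2 * k < d + 4 ∧ π = ntv (ix d (2 * k)) 1) ∨
    (2 * k + 1 < d + 4 ∧ π = sw d F k)

theorem row_form (k : ℕ) (hk : 2 * k ≤ d + 4) (g : SLn d F) :
    ∃ h ∈ R.HsM, ∃ q ∈ R.Qs k, ∃ π, Mid k π ∧ g = h * π⁻¹ * q := by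
  obtain ⟨q, hq, a, b, hab, hs⟩ := R.exists_support k hk g
  suffices h : ∀ a b : Fin (d + 4), a ≠ b → Supp (g * q) a b →
      (2 * k ≤ (b : ℕ) → 2 * k ≤ (a : ℕ)) → ∃ h ∈ R.HsM, ∃ q ∈ R.Qs k, ∃ π, Mid k π ∧
        g = h * π⁻¹ * q by
    by_cases hb : 2 * k ≤ (b : ℕ) → 2 * k ≤ (a : ℕ)
    · exact h a b hab hs hb
    · exact h b a hab.symm hs.symm (by omega)
  clear! a b
  intro a b hab hs hord
  have fin : ∀ (π : SLn d F) (σ : Perm (Fin (d + 4))), Mid k π → Mon π σ →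
      ((a : ℕ) < 2 * k ↔ (σ 0 : ℕ) < 2 * k) → ((b : ℕ) < 2 * k ↔ (σ 1 : ℕ) < 2 * k) →
      ∃ h ∈ R.HsM, ∃ q ∈ R.Qs k, ∃ π, Mid k π ∧ g = h * π⁻¹ * q := by
    intro π σ hπ hσ ha hb
    obtain ⟨q', hq', hs'⟩ := R.move k hk (g * q) hab (σ.injective.ne n01) ha hb hs
    refine ⟨g * q * q' * π, R.supp_mem_HsM (hs'.mul_mon hσ), (q * q')⁻¹, inv_mem (mul_mem hq hq'), π,
      hπ, ?_⟩
    group
  have v1 : ((1 : Fin (d + 4)) : ℕ) = 1 := by simp
  have hne : (a : ℕ) ≠ b := fun e => hab (Fin.ext e)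
  by_cases hb : 2 * k ≤ (b : ℕ)
  · have ha := hord hb
    have h2 : 2 * k + 1 < d + 4 := by omega
    refine fin _ _ (Or.inr (Or.inr ⟨h2, rfl⟩)) (sw_mon k) ?_ ?_
    · rw [(ix_two k h2).1, ix_val (by omega)]; omega
    · rw [(ix_two k h2).2, ix_val h2]; omega
  have hk1 : 1 ≤ k := by omega
  by_cases ha : 2 * k ≤ (a : ℕ)
  · have h2 : 2 * k < d + 4 := by omega
    -- the high column goes to the image of `1`
    have hne' : ix d (2 * k) ≠ 0 := fun e => by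
      have := congrArg Fin.val e; rw [ix_val h2] at this; simp at this; omega
    obtain ⟨q', hq', hs'⟩ := R.move k hk (g * q) hab hne' (by rw [ix_val h2]; omega)
      (show (b : ℕ) < 2 * k ↔ ((0 : Fin (d + 4)) : ℕ) < 2 * k by simp; omega) hs
    refine ⟨g * q * q' * ntv (ix d (2 * k)) 1, R.supp_mem_HsM ?_, (q * q')⁻¹,
      inv_mem (mul_mem hq hq'), _, Or.inr (Or.inl ⟨hk1, h2, rfl⟩), by group⟩
    refine Supp.mul_mon ?_ (Mon.ntv' _ _)
    rw [swap_apply_right, swap_apply_of_ne_of_ne hne'.symm n01]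
    exact hs'.symm
  · refine fin 1 1 (Or.inl ⟨hk1, rfl⟩) Mon.one ?_ ?_ <;> simp <;> omega

/-- The union of the double cosets. -/
def cells : Set G :=
  {y | ∃ k, 2 * k ≤ d + 4 ∧ ∃ p ∈ R.P, ∃ p' ∈ R.P, y = p * R.J k * p'}

theorem n12_square_form {u : F} (hu : u ≠ 0) :
    ntv 1 2 * trv (d + 4) F 2 1 u * ntv 1 2 =
      trv (d + 4) F 2 1 (-u⁻¹) * h2 2 1 (Units.mk0 u⁻¹ (inv_ne_zero hu)) * ntv 1 2 *
        trv (d + 4) F 2 1 (-u⁻¹) := by
  refine Cfsg.Agent.Lib.Linear.sl_ext_single fun z => funext fun x => ?_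
  generalize (Pi.single z (1 : F) : Fin (d + 4) → F) = v
  have hd : ∀ v : Fin (d + 4) → F, ∀ y, (h2 2 1 (Units.mk0 u⁻¹ (inv_ne_zero hu)) • v) y =
      (if y = 2 then u⁻¹ else if y = 1 then u else 1) * v y := fun v y => by
    rw [Matrix.SpecialLinearGroup.smul_def, h2_coe n12.symm]
    simp [mulVec_diagonal]
  have he : ∀ (c : F) (v : Fin (d + 4) → F) y, (trv (d + 4) F 2 1 c • v) y =
      v y + if y = 2 then c * v 1 else 0 := fun c v y => by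
    rw [trv_smul n12.symm, Pi.add_apply, Pi.single_apply]
  have hn : ∀ (v : Fin (d + 4) → F) y, ((ntv 1 2 : SLn d F) • v) y =
      if y = 1 then v 2 else if y = 2 then -v 1 else v y := fun v y => by
    exact ntv_mulVec n12 v y
  simp only [mul_smul, hn, he, hd]
  by_cases a : x = 1
  · subst a
    simp [n12, n12.symm]
    field_simp
    try ring
  · by_cases b : x = 2
    · subst b
      simp [n12, n12.symm]
      field_simp
      try ring
    · simp [a, b]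

theorem mem_cells {k : ℕ} (hk : 2 * k ≤ d + 4) {p p' : G} (hp : p ∈ R.P) (hp' : p' ∈ R.P) :
    p * R.J k * p' ∈ R.cells := ⟨k, hk, p, hp, p', hp', rfl⟩

theorem core_one {k : ℕ} (h1 : 1 ≤ k) (hk : 2 * k ≤ d + 4) (s : F) :
    R.w * R.rt 0 1 s * R.J k ∈ R.cells := by
  have hn : Mon (ntv 1 2 : SLn d F) (swap 1 2) := Mon.ntv' _ _
  have e0 : (swap (1 : Fin (d + 4)) 2) 0 = 0 := swap_apply_of_ne_of_ne n01 n02
  have e2 : (swap (1 : Fin (d + 4)) 2) 2 = 1 := swap_apply_right _ _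
  obtain ⟨t, ht⟩ := R.Mon_rt' hn n02 s
  rw [e0, e2] at ht
  rcases eq_or_ne t 0 with rfl | ht0
  · rw [R.rt_zero, mul_one, mul_inv_cancel] at ht
    rw [ht, mul_one, R.J_eq_w_B h1, ← mul_assoc, R.hC]
    rcases Nat.eq_or_lt_of_le h1 with rfl | hlt
    · rw [show R.B 1 = 1 by simp [B, Js], mul_one]
      have := R.mem_cells (show 2 * 0 ≤ d + 4 by omega) (R.ψ_mem_P (ntv 0 1 * ntv 0 1)) (one_mem _)
      simpa [R.J_zero] using this
    obtain ⟨j, rfl⟩ : ∃ j, k = j + 1 := ⟨k - 1, by omega⟩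
    rw [← R.sw_J (k := j) (by omega) (by omega)]
    have := R.mem_cells (show 2 * j ≤ d + 4 by omega)
      (mul_mem (R.ψ_mem_P (ntv 0 1 * ntv 0 1)) (R.ψ_mem_P (sw d F j)))
      (inv_mem (R.ψ_mem_P (sw d F j)))
    simpa [mul_assoc] using this
  have h := R.hF
  rw [ntv_inv n12.symm] at h
  set u : F := -t with hu
  have hu0 : u ≠ 0 := by simpa [hu] using ht0
  set X1 := R.ψ (ntv 1 2) * R.x u⁻¹ * (R.ψ (ntv 1 2))⁻¹ with hX1
  set p := R.ψ (ntv 1 2) * R.T (Units.mk0 u⁻¹ (inv_ne_zero hu0)) * (R.ψ (ntv 1 2))⁻¹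
  have key : R.w * R.rt 0 1 s * R.w = X1 * p * R.w * X1 := by
    have e : R.w * R.rt 0 1 s * R.w = R.ψ (ntv 1 2) * R.w *
        R.ψ (ntv 1 2 * trv (d + 4) F 2 1 u * ntv 1 2) * R.w⁻¹ * (R.ψ (ntv 1 2))⁻¹ := by
      conv_lhs => rw [h]
      rw [ht, ← R.x_eq, x, ← hu, map_mul, map_mul]
      group
    rw [e, n12_square_form hu0]
    conv_rhs => rw [h]
    simp only [hX1, x, p, T, map_mul]
    group
  have hX1P : X1 ∈ R.P := by
    obtain ⟨t', ht'⟩ := R.Mon_rt hn n02 u⁻¹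
    rw [hX1, R.x_eq, ht', e0, e2]; exact R.rt_mem_P n01 _
  have hBX : Commute (R.B k) X1 := by
    obtain ⟨t', ht'⟩ := R.Mon_rt hn n02 u⁻¹
    rw [hX1, R.x_eq, ht', e0, e2]
    exact R.B_comm fun a ha _ => R.W_comm_rt a n01 (by simp; omega) (by simp; omega) _
  have : R.w * R.rt 0 1 s * R.J k = (X1 * p) * R.J k * X1 := by
    calc R.w * R.rt 0 1 s * R.J k = (R.w * R.rt 0 1 s * R.w) * R.B k := by
          rw [R.J_eq_w_B h1]; group
      _ = X1 * p * R.w * (X1 * R.B k) := by rw [key]; group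
      _ = _ := by rw [← hBX.eq, R.J_eq_w_B h1]; group
  rw [this]
  exact R.mem_cells hk (mul_mem hX1P (mul_mem (mul_mem (R.ψ_mem_P _) (R.T_mem_P _))
    (inv_mem (R.ψ_mem_P _)))) hX1P

theorem core_out {k : ℕ} (hk : 2 * k + 1 < d + 4) (s : F) :
    R.w * R.rt 0 1 s * R.ψ (sw d F k)⁻¹ * R.J k ∈ R.cells := by
  obtain ⟨s', hs'⟩ := R.Mon_rt (sw_mon (F := F) k) n01 s
  have hne := (swp d k).injective.ne (n01 (d := d))
  have hc : Commute (R.J k) (R.W k * R.rt (swp d k 0) (swp d k 1) s') :=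
    R.J_comm fun a ha => (R.W_comm a k).mul_right (R.W_comm_rt a hne
      (by rw [(swp_side hk 0).2 (by simp)]; omega) (by rw [(swp_side hk 1).2 (by simp)]; omega) _)
  have : R.w * R.rt 0 1 s * R.ψ (sw d F k)⁻¹ * R.J k =
      R.ψ (sw d F k)⁻¹ * R.J (k + 1) * R.rt (swp d k 0) (swp d k 1) s' := by
    calc R.w * R.rt 0 1 s * R.ψ (sw d F k)⁻¹ * R.J k
        = R.ψ (sw d F k)⁻¹ * (R.W k * R.rt (swp d k 0) (swp d k 1) s' * R.J k) := by
          rw [← hs', R.W_eq hk, map_inv]; group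
      _ = R.ψ (sw d F k)⁻¹ * (R.J k * (R.W k * R.rt (swp d k 0) (swp d k 1) s')) := by rw [hc.eq]
      _ = _ := by
        rw [R.J_succ, (R.J_comm fun a _ => R.W_comm a k : Commute (R.J k) (R.W k)).symm.eq]
        group
  rw [this]
  exact R.mem_cells (by omega) (R.ψ_mem_P _) (R.rt_mem_P hne _)

theorem core_mixed {k : ℕ} (h1 : 1 ≤ k) (hk : 2 * k < d + 4) (s : F) :
    R.w * R.rt 0 1 s * R.ψ (ntv (ix d (2 * k)) 1)⁻¹ * R.J k ∈ R.cells := by
  set c := ix d (2 * k) with hc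
  have hcv : ¬ (c : ℕ) < 2 := by rw [hc, ix_val hk]; omega
  have hn : Mon (ntv c 1 : SLn d F) (swap c 1) := Mon.ntv' _ _
  have e0 : swap c 1 (0 : Fin (d + 4)) = 0 :=
    swap_apply_of_ne_of_ne (rest_ne hcv).1.symm n01
  have e1 : swap c 1 (1 : Fin (d + 4)) = c := swap_apply_right _ _
  obtain ⟨a, b, hw⟩ := R.w_three
  obtain ⟨s', hs'⟩ := R.Mon_rt hn n01 s
  obtain ⟨b', hb'⟩ := R.Mon_rt hn n01 b
  obtain ⟨a', ha'⟩ := R.dual.Mon_rt hn.tinv' n01 a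
  rw [dual_ψ] at ha'
  rw [e0, e1] at hs' hb' ha'
  have hside : ∀ m, 1 ≤ m → m < k → ∀ i j : Fin (d + 4),
      ((i = c ∧ j = 1) ∨ (i = 1 ∧ j = c)) → ((i : ℕ) / 2 = m ↔ (j : ℕ) / 2 = m) := by
    rintro m hm hmk i j (⟨rfl, rfl⟩ | ⟨rfl, rfl⟩) <;> rw [hc, ix_val hk] <;> simp <;> omega
  -- each factor passes the other pairs and becomes Levi after the first Weyl element
  have key : ∀ y : G, (∃ t, R.w * y * R.w⁻¹ = R.ψ (trv (d + 4) F c 1 t) ∨
        R.w * y * R.w⁻¹ = R.ψ (trv (d + 4) F 1 c t)) →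
      Commute (R.B k) (R.w⁻¹ * y * R.w) ∧ R.w⁻¹ * y * R.w ∈ R.P := by
    rintro y ⟨t, hy⟩
    have hcw : Commute (R.B k) R.w := R.B_comm fun m _ _ => by
      rw [← R.W_zero]; exact R.W_comm m 0
    obtain ⟨g, hg, hcg⟩ : ∃ g, R.w * y * R.w⁻¹ = R.ψ g ∧ Commute (R.B k) (R.ψ g) := by
      rcases hy with hy | hy
      · exact ⟨_, hy, R.B_comm fun m hm hmk => R.W_comm_trv m (rest_ne hcv).2
          (hside m hm hmk c 1 (Or.inl ⟨rfl, rfl⟩)) t⟩
      · exact ⟨_, hy, R.B_comm fun m hm hmk => R.W_comm_trv m (rest_ne hcv).2.symm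
          (hside m hm hmk 1 c (Or.inr ⟨rfl, rfl⟩)) t⟩
    have e : R.w⁻¹ * y * R.w = (R.w * R.w)⁻¹ * R.ψ g * (R.w * R.w) := by rw [← hg]; group
    rw [e]
    refine ⟨(((hcw.mul_right hcw).inv_right).mul_right hcg).mul_right (hcw.mul_right hcw), ?_⟩
    rw [R.hC]
    exact mul_mem (mul_mem (inv_mem (R.ψ_mem_P _)) (R.ψ_mem_P _)) (R.ψ_mem_P _)
  obtain ⟨hB1, hP1⟩ := key (R.rt 0 c s') ⟨_, Or.inl (R.w_rt_zero hcv s')⟩
  obtain ⟨hB2, hP2⟩ := key (R.rt 0 c b') ⟨_, Or.inl (R.w_rt_zero hcv b')⟩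
  obtain ⟨hB3, hP3⟩ := key (R.dual.rt 0 c a') ⟨-a', Or.inr (by
    have h := R.dual.w_rt_zero hcv a'
    change R.w * R.dual.rt 0 c a' * R.w⁻¹ = R.ψ (tinv (trv (d + 4) F c 1 a')) at h
    rwa [tinv_trv (rest_ne hcv).2] at h)⟩
  set m := (R.w⁻¹ * R.dual.rt 0 c a' * R.w) * (R.w⁻¹ * R.rt 0 c b' * R.w) *
    (R.w⁻¹ * R.dual.rt 0 c a' * R.w) * (R.w⁻¹ * R.rt 0 c s' * R.w) with hm
  have hmB : Commute (R.B k) m := ((hB3.mul_right hB2).mul_right hB3).mul_right hB1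
  have hmP : m ∈ R.P := mul_mem (mul_mem (mul_mem hP3 hP2) hP3) hP1
  have : R.w * R.rt 0 1 s * R.ψ (ntv c 1)⁻¹ * R.J k = R.ψ (ntv c 1)⁻¹ * R.J k * m := by
    calc R.w * R.rt 0 1 s * R.ψ (ntv c 1)⁻¹ * R.J k
        = R.ψ (ntv c 1)⁻¹ * R.w * (m * R.B k) := by
          rw [R.J_eq_w_B h1, hm, map_inv, ← hb', ← ha', ← hs']
          conv_lhs => arg 1; arg 1; arg 1; rw [hw]
          group
      _ = _ := by rw [← hmB.eq, R.J_eq_w_B h1]; group
  rw [this]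
  exact R.mem_cells (by omega) (R.ψ_mem_P _) hmP

theorem hsplit {A : Matrix (Fin (d + 4)) (Fin (d + 4)) F} (hA : IsAlt A) :
    ∃ z ∈ R.P, ∃ s : F, R.w * R.Φ A = z * (R.w * R.rt 0 1 s) := by
  refine alt_induction (P := fun A => ∃ z ∈ R.P, ∃ s : F, R.w * R.Φ A = z * (R.w * R.rt 0 1 s))
    ?_ ?_ ?_ hA
  · exact ⟨1, one_mem _, 0, by rw [R.Φ_zero, R.rt_zero, one_mul]⟩
  · rintro A B ⟨za, hza, sa, ea⟩ ⟨zb, hzb, sb, eb⟩
    refine ⟨za * zb, mul_mem hza hzb, sb + sa, ?_⟩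
    have hUB : R.rt 0 1 sa * R.Φ B = R.Φ B * R.rt 0 1 sa := by
      rw [← R.Φ_E n01, ← R.Φ_add, add_comm, R.Φ_add]
    calc R.w * R.Φ (A + B) = za * (R.w * R.rt 0 1 sa) * R.Φ B := by rw [R.Φ_add, ← ea, mul_assoc]
      _ = za * (R.w * R.Φ B) * R.rt 0 1 sa := by simp only [mul_assoc, hUB]
      _ = za * (zb * (R.w * R.rt 0 1 sb)) * R.rt 0 1 sa := by rw [eb]
      _ = _ := by rw [R.rt_add n01]; group
  intro p q hpq t
  rw [R.Φ_E hpq]
  have low : ∀ x : Fin (d + 4), (x : ℕ) < 2 → x = 0 ∨ x = 1 := fun x hx => by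
    rcases (show (x : ℕ) = 0 ∨ (x : ℕ) = 1 by omega) with e | e
    · exact Or.inl (Fin.ext e)
    · exact Or.inr (Fin.ext (by simpa using e))
  have out : ∀ z, R.w * R.rt p q t * R.w⁻¹ = z → z ∈ R.P →
      ∃ z ∈ R.P, ∃ s : F, R.w * R.rt p q t = z * (R.w * R.rt 0 1 s) := fun z hz hzP =>
    ⟨z, hzP, 0, by rw [R.rt_zero, mul_one, ← hz, inv_mul_cancel_right]⟩
  by_cases hp : (p : ℕ) < 2 <;> by_cases hq : (q : ℕ) < 2
  · rcases low p hp with rfl | rfl <;> rcases low q hq with rfl | rfl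
    · exact absurd rfl hpq
    · exact ⟨1, one_mem _, t, by rw [one_mul]⟩
    · exact ⟨1, one_mem _, -t, by rw [one_mul, R.rt_swap n01]⟩
    · exact absurd rfl hpq
  · rcases low p hp with rfl | rfl
    · exact out _ (R.w_rt_zero hq t) (R.ψ_mem_P _)
    · exact out _ (R.w_rt_one hq t) (R.ψ_mem_P _)
  · rcases low q hq with rfl | rfl
    · rw [R.rt_swap hpq.symm] at out ⊢
      exact out _ (R.w_rt_zero hp _) (R.ψ_mem_P _)
    · rw [R.rt_swap hpq.symm] at out ⊢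
      exact out _ (R.w_rt_one hp _) (R.ψ_mem_P _)
  · refine out (R.rt p q t) ?_ (R.rt_mem_P hpq t)
    rw [(R.w_comm_rt hpq hp hq t).eq, mul_inv_cancel_right]

theorem w_cell {y : G} (hy : y ∈ R.cells) : R.w * y ∈ R.cells := by
  obtain ⟨k, hk, p, ⟨A, l, g, hA, rfl⟩, p', hp', rfl⟩ := hy
  obtain ⟨h, hh, q, hq, π, hπ, hg⟩ := R.row_form k hk g
  set D : Matrix (Fin (d + 4)) (Fin (d + 4)) F := diagonal fun x => (tw d l⁻¹ x : F)
  have hA' : IsAlt (D * A * Dᵀ) := isAlt_conj _ hA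
  have hT : R.Φ A * R.T l = R.T l * R.Φ (D * A * Dᵀ) := by
    rw [← R.T_rad _ hA, ← R.T_inv]; group
  set A'' := (h⁻¹).1 * (D * A * Dᵀ) * (h⁻¹).1ᵀ
  have hmove : R.Φ (D * A * Dᵀ) * R.ψ h = R.ψ h * R.Φ A'' := by
    rw [← R.Φ_conj _ hA', map_inv]; group
  obtain ⟨z, hz, s, hs⟩ := R.hsplit (isAlt_conj (h⁻¹).1 hA')
  have hcore : R.w * R.rt 0 1 s * R.ψ π⁻¹ * R.J k ∈ R.cells := by
    rcases hπ with ⟨h1, rfl⟩ | ⟨h1, h2, rfl⟩ | ⟨h2, rfl⟩
    · rw [inv_one, map_one, mul_one]; exact R.core_one h1 hk s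
    · exact R.core_mixed h1 h2 s
    · exact R.core_out h2 s
  obtain ⟨k', hk', a, ha, b, hb, eab⟩ := hcore
  have hh' : R.w * R.ψ h * R.w⁻¹ ∈ R.P := hh
  refine ⟨k', hk', R.w * R.T l * R.w⁻¹ * (R.w * R.ψ h * R.w⁻¹) * z * a,
    mul_mem (mul_mem (mul_mem (R.w_T_mem_P l) hh') hz) ha,
    b * ((R.J k)⁻¹ * R.ψ q * R.J k) * p', mul_mem (mul_mem hb (R.Qs_move hq)) hp', ?_⟩
  calc R.w * (R.Φ A * R.T l * R.ψ g * R.J k * p')
      = R.w * R.T l * (R.Φ (D * A * Dᵀ) * R.ψ h) * R.ψ π⁻¹ * R.ψ q * R.J k * p' := by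
        rw [hg, hT, map_mul, map_mul]; group
    _ = (R.w * R.T l * R.w⁻¹) * (R.w * R.ψ h * R.w⁻¹) * (R.w * R.Φ A'') * R.ψ π⁻¹ * R.J k *
        ((R.J k)⁻¹ * R.ψ q * R.J k) * p' := by rw [hmove]; group
    _ = (R.w * R.T l * R.w⁻¹) * (R.w * R.ψ h * R.w⁻¹) * z * (R.w * R.rt 0 1 s * R.ψ π⁻¹ * R.J k) *
        ((R.J k)⁻¹ * R.ψ q * R.J k) * p' := by rw [hs]; group
    _ = _ := by rw [eab]; group

theorem cells_eq_univ (hgen : Subgroup.closure (Set.range R.ψ ∪ {R.w}) = ⊤) (y : G) :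
    y ∈ R.cells := by
  have hPl : ∀ a ∈ R.P, ∀ y ∈ R.cells, a * y ∈ R.cells := by
    rintro a ha y ⟨k, hk, p, hp, p', hp', rfl⟩
    exact ⟨k, hk, a * p, mul_mem ha hp, p', hp', by group⟩
  let K : Subgroup G :=
    { carrier := {a | (∀ y ∈ R.cells, a * y ∈ R.cells) ∧ ∀ y ∈ R.cells, a⁻¹ * y ∈ R.cells}
      one_mem' := ⟨fun y hy => by rwa [one_mul], fun y hy => by rwa [inv_one, one_mul]⟩
      mul_mem' := fun {a b} ha hb => ⟨fun y hy => by rw [mul_assoc]; exact ha.1 _ (hb.1 y hy),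
        fun y hy => by rw [_root_.mul_inv_rev, mul_assoc]; exact hb.2 _ (ha.2 y hy)⟩
      inv_mem' := fun {a} ha => ⟨ha.2, by rw [inv_inv]; exact ha.1⟩ }
  have hle : Subgroup.closure (Set.range R.ψ ∪ {R.w}) ≤ K := by
    rw [Subgroup.closure_le]
    rintro a (⟨g, rfl⟩ | rfl)
    · exact ⟨hPl _ (R.ψ_mem_P g), hPl _ (inv_mem (R.ψ_mem_P g))⟩
    · refine ⟨fun y hy => R.w_cell hy, fun y hy => ?_⟩
      have e : R.w⁻¹ = R.w * (R.w * R.w)⁻¹ := by group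
      rw [e, mul_assoc]
      exact R.w_cell (hPl _ (by rw [R.hC]; exact inv_mem (R.ψ_mem_P _)) y hy)
  rw [hgen] at hle
  have := (hle (Subgroup.mem_top y)).1 (1 : G)
    ⟨0, Nat.zero_le _, 1, one_mem _, 1, one_mem _, by rw [R.J_zero, mul_one, mul_one]⟩
  rwa [mul_one] at this

end OmRel

end Cfsg.Agent.Lib.ShortPresOm
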