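import Cfsg.Agent.Lib.ShortPresOm.Radical

/-!
# Short presentations of orthogonal groups, part 5

The relations are invariant under the transpose-inverse automorphism of `SL_n`.
-/

set_option autoImplicit false
set_option linter.unusedSectionVars false

namespace Cfsg.Agent.Lib.ShortPresOm

open Matrix Cfsg.Agent.Lib.Schur.SteinbergSLn Cfsg.Agent.Lib.ShortPresSp

section tinv

variable {m : ℕ} {F : Type*} [Field F]

theorem coe_mul_inv' (g : Matrix.SpecialLinearGroup (Fin m) F) : g.1 * (g⁻¹).1 = 1 := by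
  rw [← Matrix.SpecialLinearGroup.coe_mul, mul_inv_cancel, Matrix.SpecialLinearGroup.coe_one]

/-- The transpose inverse. -/
def tinv : Matrix.SpecialLinearGroup (Fin m) F →* Matrix.SpecialLinearGroup (Fin m) F where
  toFun g := ⟨(g⁻¹).1ᵀ, by rw [det_transpose]; exact (g⁻¹).2⟩
  map_one' := Subtype.ext (by simp)
  map_mul' g h := Subtype.ext (by
    show ((g * h)⁻¹).1ᵀ = (g⁻¹).1ᵀ * (h⁻¹).1ᵀ
    rw [_root_.mul_inv_rev, Matrix.SpecialLinearGroup.coe_mul, transpose_mul])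

theorem tinv_coe (g : Matrix.SpecialLinearGroup (Fin m) F) : (tinv g).1 = (g⁻¹).1ᵀ := rfl

theorem tinv_eq {g h : Matrix.SpecialLinearGroup (Fin m) F} (e : g.1ᵀ * h.1 = 1) : tinv g = h := by
  refine Subtype.ext ?_
  rw [tinv_coe]
  calc (g⁻¹).1ᵀ = (g⁻¹).1ᵀ * (g.1ᵀ * h.1) := by rw [e, mul_one]
    _ = (g.1 * (g⁻¹).1)ᵀ * h.1 := by rw [transpose_mul, Matrix.mul_assoc]
    _ = h.1 := by rw [coe_mul_inv', transpose_one, one_mul]

theorem tinv_tinv (g : Matrix.SpecialLinearGroup (Fin m) F) : tinv (tinv g) = g := by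
  refine tinv_eq ?_
  rw [tinv_coe, transpose_transpose, ← Matrix.SpecialLinearGroup.coe_mul, inv_mul_cancel,
    Matrix.SpecialLinearGroup.coe_one]

theorem tinv_trv {i j : Fin m} (h : i ≠ j) (a : F) : tinv (trv m F i j a) = trv m F j i (-a) := by
  refine tinv_eq ?_
  rw [trv_coe h, trv_coe h.symm, transpose_add, transpose_one, transpose_single, add_mul, mul_add,
    mul_add, one_mul, mul_one, one_mul, single_mul_single_of_ne _ _ _ _ h, add_zero, add_assoc,
    ← single_add, neg_add_cancel, single_zero, add_zero]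

theorem ntv_inv {i k : Fin m} (h : i ≠ k) :
    (ntv i k : Matrix.SpecialLinearGroup (Fin m) F)⁻¹ = ntv k i := by
  refine inv_eq_of_mul_eq_one_right (Cfsg.Agent.Lib.Linear.sl_ext_single fun z => funext fun x => ?_)
  rw [mul_smul, one_smul]
  simp only [ntv_mulVec h, ntv_mulVec h.symm]
  by_cases a : x = i
  · subst a; simp [h, h.symm]
  · by_cases b : x = k
    · subst b; simp [a, h]
    · simp [a, b]

theorem tinv_ntv {i k : Fin m} (h : i ≠ k) :
    tinv (ntv i k : Matrix.SpecialLinearGroup (Fin m) F) = ntv i k := by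
  refine tinv_eq ?_
  have e : (ntv i k : Matrix.SpecialLinearGroup (Fin m) F).1ᵀ =
      (ntv k i : Matrix.SpecialLinearGroup (Fin m) F).1 := by
    ext x y
    rw [transpose_apply, ntv_coe h, ntv_coe h.symm]
    by_cases a : x = i <;> by_cases b : x = k <;> by_cases c : y = i <;> by_cases e : y = k <;>
      simp_all [eq_comm]
  rw [e, ← ntv_inv h, ← Matrix.SpecialLinearGroup.coe_mul, inv_mul_cancel,
    Matrix.SpecialLinearGroup.coe_one]

end tinv

namespace OmRel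

variable {d : ℕ} {F : Type*} [Field F] {G : Type*} [Group G] (R : OmRel d F G)

theorem ntv12_trv21 :
    ntv 1 2 * trv (d + 4) F 2 1 (-1) = trv (d + 4) F 1 2 1 * ntv 1 2 := by
  refine conj_trv _ n12.symm n12 (-1) 1 (fun x => ?_) (fun y hy => ?_)
  · rw [ntv_coe n12, ntv_coe n12]
    by_cases a : x = 1
    · subst a; simp [n12.symm]
    · by_cases b : x = 2
      · subst b; simp [n12.symm]
      · simp [a, b]
  · rw [ntv_coe n12]; simp [n12.symm, hy]

theorem conj_c_of_mem {g : SLn d F} (h : ntv 1 2 * g * (ntv 1 2)⁻¹ ∈ R.Kw) :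
    Commute (R.w * R.ψ (ntv 1 2) * R.w⁻¹) (R.ψ g) := by
  have hc : R.w * R.ψ (ntv 1 2) * R.w⁻¹ = (R.ψ (ntv 1 2))⁻¹ * R.w * R.ψ (ntv 1 2) := by
    have h := R.hF
    rw [ntv_inv n12.symm] at h
    calc R.w * R.ψ (ntv 1 2) * R.w⁻¹
        = (R.ψ (ntv 1 2))⁻¹ * (R.ψ (ntv 1 2) * (R.w * R.ψ (ntv 1 2) * R.w⁻¹) * (R.ψ (ntv 1 2))⁻¹) *
          R.ψ (ntv 1 2) := by group
      _ = _ := by rw [← h]
  have h' := (R.mem_Kw.1 h).map (MulAut.conj (R.ψ (ntv 1 2))⁻¹)
  simp only [MulAut.conj_apply, inv_inv] at h'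
  rw [show (R.ψ (ntv 1 2))⁻¹ * R.ψ (ntv 1 2 * g * (ntv 1 2)⁻¹) * R.ψ (ntv 1 2) = R.ψ g by
    rw [map_mul, map_mul, map_inv]; group] at h'
  rw [hc]
  exact h' 

theorem dual_commute {i j : Fin (d + 4)} (hij : i ≠ j)
    (hK : ∀ a, ntv 1 2 * trv (d + 4) F i j a * (ntv 1 2)⁻¹ ∈ R.Kw)
    (hx : ∀ a, Commute (R.w * R.ψ (trv (d + 4) F 2 1 (-1)) * R.w⁻¹) (R.ψ (trv (d + 4) F i j a)))
    (a : F) : Commute (R.w * R.ψ (trv (d + 4) F 1 2 1) * R.w⁻¹) (R.ψ (trv (d + 4) F i j a)) := by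
  have e : R.w * R.ψ (trv (d + 4) F 1 2 1) * R.w⁻¹ = (R.w * R.ψ (ntv 1 2) * R.w⁻¹) *
      (R.w * R.ψ (trv (d + 4) F 2 1 (-1)) * R.w⁻¹) * (R.w * R.ψ (ntv 1 2) * R.w⁻¹)⁻¹ := by
    rw [← R.ψ_conj ntv12_trv21]; group
  have hc := R.conj_c_of_mem (hK a)
  rw [e]
  exact (hc.mul_left (hx a)).mul_left hc.inv_left

theorem n12_conj_mem {i j p q : Fin (d + 4)} (hij : i ≠ j) (hpq : p ≠ q) (hs : SameSide p q) (a : F)
    {s : F} (hcol : ∀ x, (ntv 1 2 : SLn d F).1 x i = if x = p then s else 0)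
    (hrow : ∀ y, y ≠ j → (ntv 1 2 : SLn d F).1 q y = 0)
    (hs' : (ntv 1 2 : SLn d F).1 q j ≠ 0) :
    ntv 1 2 * trv (d + 4) F i j a * (ntv 1 2)⁻¹ ∈ R.Kw := by
  rw [conj_trv (ntv 1 2) hij hpq a (s * a * ((ntv 1 2 : SLn d F).1 q j)⁻¹) (fun x => ?_) hrow,
    mul_inv_cancel_right]
  · exact R.trv_mem_Kw hpq hs _
  · rw [hcol, inv_mul_cancel_right₀ hs']; split_ifs <;> simp

/-- The dual relations. -/
def dual : OmRel d F G where
  ψ := R.ψ.comp tinv
  w := R.w
  hsq := R.hsq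
  hK i j h hs a := by
    show Commute R.w (R.ψ (tinv (trv (d + 4) F i j a)))
    rw [tinv_trv h]; exact R.hK j i h.symm (iff_comm.1 hs) _
  hC := by
    show R.w * R.w = R.ψ (tinv (ntv 0 1 * ntv 0 1))
    rw [map_mul, tinv_ntv n01]; exact R.hC
  hF := by
    show R.w = R.ψ (tinv (ntv 1 2)) * (R.w * R.ψ (tinv ((ntv 2 1)⁻¹)) * R.w⁻¹) *
      (R.ψ (tinv (ntv 1 2)))⁻¹
    rw [map_inv tinv, tinv_ntv n12, tinv_ntv n12.symm]; exact R.hF
  hX a := by
    have v0 : ∀ x : Fin (d + 4), (ntv 1 2 : SLn d F).1 x 0 = if x = 0 then 1 else 0 := fun x => by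
      rw [ntv_coe n12]
      by_cases a : x = 1
      · subst a; simp [n01.symm, n02]
      · by_cases b : x = 2
        · subst b; simp [n02, n02.symm, a]
        · simp [a, b]
    have v3 : ∀ x : Fin (d + 4), (ntv 1 2 : SLn d F).1 x 3 = if x = 3 then 1 else 0 := fun x => by
      rw [ntv_coe n12]
      by_cases a : x = 1
      · subst a; simp [n13, n23.symm]
      · by_cases b : x = 2
        · subst b; simp [n23, n13.symm, a]
        · simp [a, b]
    have v1 : ∀ x : Fin (d + 4), (ntv 1 2 : SLn d F).1 x 1 = if x = 2 then -1 else 0 := fun x => by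
      rw [ntv_coe n12]
      by_cases a : x = 1
      · subst a; simp [n12]
      · by_cases b : x = 2
        · subst b; simp [n12.symm]
        · simp [a, b]
    have v2 : ∀ x : Fin (d + 4), (ntv 1 2 : SLn d F).1 x 2 = if x = 1 then 1 else 0 := fun x => by
      rw [ntv_coe n12]
      by_cases a : x = 1
      · subst a; simp
      · by_cases b : x = 2
        · subst b; simp [n12.symm]
        · simp [a, b]
    have r0 : ∀ y, y ≠ 0 → (ntv 1 2 : SLn d F).1 0 y = 0 := fun y hy => by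
      rw [ntv_coe n12]; simp [n01, n02, Ne.symm hy]
    have r3 : ∀ y, y ≠ 3 → (ntv 1 2 : SLn d F).1 3 y = 0 := fun y hy => by
      rw [ntv_coe n12]; simp [n13.symm, n23.symm, Ne.symm hy]
    have r1 : ∀ y, y ≠ 2 → (ntv 1 2 : SLn d F).1 1 y = 0 := fun y hy => by
      rw [ntv_coe n12]; simp [hy]
    have r2 : ∀ y, y ≠ 1 → (ntv 1 2 : SLn d F).1 2 y = 0 := fun y hy => by
      rw [ntv_coe n12]; simp [n12.symm, hy]
    have s01 : SameSide (d := d) 0 1 := by simp [SameSide]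
    have s23 : SameSide (d := d) 2 3 := side_rest (by rw [val2]; omega) (by rw [val3]; omega)
    show Commute (R.w * R.ψ (tinv (trv (d + 4) F 2 1 (-1))) * R.w⁻¹) (R.ψ (tinv (trv (d + 4) F 0 2 a))) ∧
      Commute (R.w * R.ψ (tinv (trv (d + 4) F 2 1 (-1))) * R.w⁻¹) (R.ψ (tinv (trv (d + 4) F 2 0 a))) ∧
      Commute (R.w * R.ψ (tinv (trv (d + 4) F 2 1 (-1))) * R.w⁻¹) (R.ψ (tinv (trv (d + 4) F 1 3 a))) ∧
      Commute (R.w * R.ψ (tinv (trv (d + 4) F 2 1 (-1))) * R.w⁻¹) (R.ψ (tinv (trv (d + 4) F 3 1 a)))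
    rw [tinv_trv n12.symm, tinv_trv n02, tinv_trv n02.symm, tinv_trv n13, tinv_trv n13.symm, neg_neg]
    refine ⟨?_, ?_, ?_, ?_⟩
    · exact R.dual_commute n02.symm (fun c => R.n12_conj_mem n02.symm n01.symm (iff_comm.1 s01) c v2
        r0 (by rw [v0]; simp)) (fun c => (R.hX c).2.1) _
    · exact R.dual_commute n02 (fun c => R.n12_conj_mem n02 n01 s01 c v0
        r1 (by rw [v2]; simp)) (fun c => (R.hX c).1) _
    · exact R.dual_commute n13.symm (fun c => R.n12_conj_mem n13.symm n23.symm (iff_comm.1 s23) c v3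
        r2 (by rw [v1]; simp)) (fun c => (R.hX c).2.2.2) _
    · exact R.dual_commute n13 (fun c => R.n12_conj_mem n13 n23 s23 c v1
        r3 (by rw [v3]; simp)) (fun c => (R.hX c).2.2.1) _

end OmRel

end Cfsg.Agent.Lib.ShortPresOm
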