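import Cfsg.Agent.Lib.ShortPresOm.Block
import Cfsg.Agent.Lib.ShortPresSp.ModelRel
import Cfsg.Agent.Lib.ShortPresSp.PermGen

/-!
# Short presentations of orthogonal groups, part 2

Monomial matrices and generation in `SL` of size at least four.
-/

set_option autoImplicit false
set_option linter.unusedSectionVars false

namespace Cfsg.Agent.Lib.ShortPresOm

open Matrix Cfsg.Agent.Lib.Schur.SteinbergSLn Cfsg.Agent.Lib.ShortPresSp

variable {d : ℕ} {F : Type*} [Field F]

/-- The special linear group of size at least four. -/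
abbrev SLn (d : ℕ) (F : Type*) [CommRing F] := Matrix.SpecialLinearGroup (Fin (d + 4)) F

theorem n01 : (0 : Fin (d + 4)) ≠ 1 := by simp [Fin.ext_iff]
theorem n02 : (0 : Fin (d + 4)) ≠ 2 := fun h => by
  have h2 := Fin.ext_iff.1 h
  simp [Nat.mod_eq_of_lt (show 2 < d + 4 by omega)] at h2
theorem n03 : (0 : Fin (d + 4)) ≠ 3 := fun h => by
  have h2 := Fin.ext_iff.1 h
  simp [Nat.mod_eq_of_lt (show 3 < d + 4 by omega)] at h2
theorem n12 : (1 : Fin (d + 4)) ≠ 2 := fun h => by
  have h2 := Fin.ext_iff.1 h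
  simp [Nat.mod_eq_of_lt (show 2 < d + 4 by omega)] at h2
theorem n13 : (1 : Fin (d + 4)) ≠ 3 := fun h => by
  have h2 := Fin.ext_iff.1 h
  simp [Nat.mod_eq_of_lt (show 3 < d + 4 by omega)] at h2
theorem n23 : (2 : Fin (d + 4)) ≠ 3 := fun h => by
  have h2 := Fin.ext_iff.1 h
  simp [Nat.mod_eq_of_lt (show 2 < d + 4 by omega), Nat.mod_eq_of_lt (show 3 < d + 4 by omega)] at h2

theorem val2 : ((2 : Fin (d + 4)) : ℕ) = 2 := by
  simp [Nat.mod_eq_of_lt (show 2 < d + 4 by omega)]
theorem val3 : ((3 : Fin (d + 4)) : ℕ) = 3 := by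
  simp [Nat.mod_eq_of_lt (show 3 < d + 4 by omega)]

/-- The two blocks `{0, 1}` and the others. -/
def SameSide (i j : Fin (d + 4)) : Prop := ((i : ℕ) < 2 ↔ (j : ℕ) < 2)

theorem trv_eq {m : ℕ} {i j : Fin m} (h : i ≠ j) (a : F) :
    trv m F i j a = Matrix.SpecialLinearGroup.transvection h a := by
  simp [trv, h]

theorem trv_coe {m : ℕ} {i j : Fin m} (h : i ≠ j) (a : F) :
    (trv m F i j a : Matrix (Fin m) (Fin m) F) = 1 + Matrix.single i j a := by
  simp [trv, h, Matrix.SpecialLinearGroup.transvection_coe]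

theorem trv_chain_mem {m : ℕ} (K : Subgroup (Matrix.SpecialLinearGroup (Fin m) F)) {i j l : Fin m}
    (hij : i ≠ j) (hjl : j ≠ l) (hil : i ≠ l) (h1 : ∀ a, trv m F i j a ∈ K)
    (h2 : ∀ a, trv m F j l a ∈ K) (a : F) : trv m F i l a ∈ K := by
  have h := (trv_rel (F := F) m).chain i j l hij hjl hil a 1
  rw [mul_one] at h
  have : trv m F i l a = trv m F i j a * trv m F j l 1 * (trv m F i j a)⁻¹ * (trv m F j l 1)⁻¹ := by
    rw [h]; group
  rw [this]
  exact mul_mem (mul_mem (mul_mem (h1 _) (h2 _)) (inv_mem (h1 _))) (inv_mem (h2 _))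

theorem sl_top {m : ℕ} (K : Subgroup (Matrix.SpecialLinearGroup (Fin m) F))
    (h : ∀ i j : Fin m, i ≠ j → ∀ a, trv m F i j a ∈ K) (g : Matrix.SpecialLinearGroup (Fin m) F) :
    g ∈ K := by
  have : K = ⊤ := Cfsg.Agent.Lib.Linear.sl_eq_top_of_transvection_mem K fun i j hij c => by
    rw [← trv_eq hij]; exact h i j hij c
  rw [this]; trivial

/-- The block preserving transvections and the pair `02` generate. -/
theorem sl_top_of_seeds (K : Subgroup (SLn d F))
    (hS : ∀ i j : Fin (d + 4), i ≠ j → SameSide i j → ∀ a, trv (d + 4) F i j a ∈ K)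
    (h02 : ∀ a, trv (d + 4) F 0 2 a ∈ K) (h20 : ∀ a, trv (d + 4) F 2 0 a ∈ K) (g : SLn d F) :
    g ∈ K := by
  have s01 : SameSide (d := d) 0 1 := by simp [SameSide]
  have hi2 : ∀ i : Fin (d + 4), ¬ (i : ℕ) < 2 → i ≠ 2 → SameSide 2 i ∧ i ≠ 0 ∧ i ≠ 1 := by
    intro i hi _
    refine ⟨by simp only [SameSide, val2]; omega, fun e => ?_, fun e => ?_⟩ <;> subst e <;> simp at hi
  -- the rows and columns of `0`
  have h0 : ∀ i : Fin (d + 4), ¬ (i : ℕ) < 2 →
      (∀ a, trv (d + 4) F 0 i a ∈ K) ∧ ∀ a, trv (d + 4) F i 0 a ∈ K := by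
    intro i hi
    rcases eq_or_ne i 2 with rfl | h2
    · exact ⟨h02, h20⟩
    obtain ⟨hs, hi0, hi1⟩ := hi2 i hi h2
    exact ⟨trv_chain_mem K n02 h2.symm hi0.symm h02 (hS 2 i h2.symm hs),
      trv_chain_mem K h2 n02.symm hi0 (hS i 2 h2 (by simpa [SameSide, iff_comm] using hs)) h20⟩
  have h1 : ∀ i : Fin (d + 4), ¬ (i : ℕ) < 2 →
      (∀ a, trv (d + 4) F 1 i a ∈ K) ∧ ∀ a, trv (d + 4) F i 1 a ∈ K := by
    intro i hi
    have hi0 : i ≠ 0 := fun e => by subst e; simp at hi
    have hi1 : i ≠ 1 := fun e => by subst e; simp at hi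
    exact ⟨trv_chain_mem K n01.symm hi0.symm hi1.symm
      (hS 1 0 n01.symm (by simp [SameSide])) (h0 i hi).1,
      trv_chain_mem K hi0 n01 hi1 (h0 i hi).2 (hS 0 1 n01 s01)⟩
  refine sl_top K (fun i j hij a => ?_) g
  by_cases hi : (i : ℕ) < 2 <;> by_cases hj : (j : ℕ) < 2
  · exact hS i j hij (by simp [SameSide, hi, hj]) a
  · rcases (show i = 0 ∨ i = 1 by
      rcases (show (i : ℕ) = 0 ∨ (i : ℕ) = 1 by omega) with h | h
      · exact Or.inl (Fin.ext h)
      · exact Or.inr (Fin.ext (by simpa using h))) with rfl | rfl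
    · exact (h0 j hj).1 a
    · exact (h1 j hj).1 a
  · rcases (show j = 0 ∨ j = 1 by
      rcases (show (j : ℕ) = 0 ∨ (j : ℕ) = 1 by omega) with h | h
      · exact Or.inl (Fin.ext h)
      · exact Or.inr (Fin.ext (by simpa using h))) with rfl | rfl
    · exact (h0 i hi).2 a
    · exact (h1 i hi).2 a
  · exact hS i j hij (by simp [SameSide, hi, hj]) a

theorem conj_trv {m : ℕ} (g : Matrix.SpecialLinearGroup (Fin m) F) {i j p q : Fin m} (hij : i ≠ j)
    (hpq : p ≠ q) (a b : F)
    (hcol : ∀ x, (g : Matrix (Fin m) (Fin m) F) x i * a = if x = p then b * (g : Matrix (Fin m) (Fin m) F) q j else 0)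
    (hrow : ∀ y, y ≠ j → (g : Matrix (Fin m) (Fin m) F) q y = 0) :
    g * trv m F i j a = trv m F p q b * g := by
  refine Subtype.ext ?_
  rw [Matrix.SpecialLinearGroup.coe_mul, Matrix.SpecialLinearGroup.coe_mul, trv_coe hij, trv_coe hpq,
    mul_add, add_mul, mul_one, one_mul]
  congr 1
  ext x y
  by_cases hy : y = j
  · subst hy
    rw [Matrix.mul_single_apply_same, hcol]
    by_cases hx : x = p
    · subst hx; simp [Matrix.single_mul_apply_same]
    · simp [hx, Matrix.single_mul_apply_of_ne, Ne.symm hx]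
  · rw [Matrix.mul_single_apply_of_ne _ _ _ _ _ hy]
    by_cases hx : x = p
    · subst hx; simp [Matrix.single_mul_apply_same, hrow y hy]
    · simp [Matrix.single_mul_apply_of_ne, hx]

theorem ntv_coe {m : ℕ} {i k : Fin m} (h : i ≠ k) (x y : Fin m) :
    ((ntv i k : Matrix.SpecialLinearGroup (Fin m) F) : Matrix (Fin m) (Fin m) F) x y =
      if x = i then (if y = k then 1 else 0) else if x = k then (if y = i then -1 else 0)
      else if x = y then 1 else 0 := by
  have := ntv_mulVec (F := F) h (Pi.single y 1) x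
  rw [show ((ntv i k : Matrix.SpecialLinearGroup (Fin m) F) • (Pi.single y (1 : F) : Fin m → F)) x =
    ((ntv i k : Matrix.SpecialLinearGroup (Fin m) F) : Matrix (Fin m) (Fin m) F) x y by
      show ((ntv i k : Matrix.SpecialLinearGroup (Fin m) F) : Matrix (Fin m) (Fin m) F).mulVec _ x = _
      rw [Matrix.mulVec_single_one]; rfl] at this
  rw [this]
  by_cases hi : x = i
  · subst hi; simp [Pi.single_apply, eq_comm]
  · by_cases hk : x = k
    · subst hk; by_cases hy : y = i <;> simp [Pi.single_apply, hi, hy, Ne.symm]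
    · simp [Pi.single_apply, hi, hk]

theorem det_permMatrix' {m : ℕ} (σ : Equiv.Perm (Fin m)) :
    ((pm σ : GL (Fin m) F) : Matrix (Fin m) (Fin m) F).det = ((Equiv.Perm.sign σ : ℤ) : F) := by
  have e : ((pm σ : GL (Fin m) F) : Matrix (Fin m) (Fin m) F) = (σ⁻¹).permMatrix F := by
    ext x y
    show (if σ y = x then (1 : F) else 0) = _
    rw [Equiv.Perm.permMatrix, PEquiv.toMatrix_apply]
    by_cases hxy : σ y = x
    · subst hxy; simp
    · have : ¬ (σ⁻¹) x = y := fun h => hxy (by rw [← h]; simp)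
      simp only [if_neg hxy]
      rw [if_neg]
      simpa [eq_comm] using this
  rw [e, Matrix.det_permutation, Equiv.Perm.sign_inv]

/-- A monomial matrix of determinant one with three prescribed entries. -/
theorem exists_mon_perm (σ : Equiv.Perm (Fin (d + 4))) (a b c : Fˣ) :
    ∃ (g : SLn d F) (D : Fin (d + 4) → F), (∀ x y, g.1 x y = if x = σ y then D y else 0) ∧
      (∀ y, D y ≠ 0) ∧ D 0 = a ∧ D 2 = b ∧ D 3 = c := by
  classical
  set s : F := ((Equiv.Perm.sign σ : ℤ) : F) with hs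
  have hss : s * s = 1 := by
    rw [hs, ← Int.cast_mul, ← Units.val_mul, Int.units_mul_self]; simp
  set D : Fin (d + 4) → F := fun y =>
    if y = 0 then (a : F) else if y = 2 then (b : F) else if y = 3 then (c : F)
    else if y = 1 then s * ((a : F) * b * c)⁻¹ else 1 with hD
  have hprod : ∏ y, D y = s := by
    rw [← Finset.prod_subset (Finset.subset_univ {0, 1, 2, 3}) (fun y _ hy => by
      simp only [Finset.mem_insert, Finset.mem_singleton, not_or] at hy
      simp [hD, hy.1, hy.2.1, hy.2.2.1, hy.2.2.2]),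
      Finset.prod_insert (by simp [n01, n02, n03]), Finset.prod_insert (by simp [n12, n13]),
      Finset.prod_insert (by simp [n23]), Finset.prod_singleton]
    simp [hD, n01.symm, n02.symm, n03.symm, n12, n13, n23.symm]
    field_simp
  refine ⟨⟨((pm σ : GL (Fin (d + 4)) F) : Matrix (Fin (d + 4)) (Fin (d + 4)) F) * diagonal D, ?_⟩,
    D, fun x y => ?_, fun y => ?_, by simp [hD], by simp [hD, n02.symm],
    by simp [hD, n03.symm, n23.symm]⟩
  · rw [det_mul, det_diagonal, det_permMatrix', hprod]; exact hss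
  · show (((pm σ : GL (Fin (d + 4)) F) : Matrix (Fin (d + 4)) (Fin (d + 4)) F) * diagonal D) x y = _
    rw [mul_diagonal]
    show (if σ y = x then (1 : F) else 0) * _ = _
    simp [eq_comm]
  · simp only [hD]
    have : s ≠ 0 := fun h => by simp [h] at hss
    split_ifs <;> simp [this]

end Cfsg.Agent.Lib.ShortPresOm
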