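import Cfsg.Agent.Lib.ShortPresOm.Block
import Cfsg.Agent.Lib.ShortPresOm.Indices
import Cfsg.Agent.Lib.ShortPresSLn.TwoGenSL2
import Cfsg.Agent.Lib.Linear.Order
import Cfsg.Agent.Lib.Linear.Simple
import Cfsg.Agent.S2278
import Cfsg.Agent.S2279

/-!
# Short presentations of orthogonal groups, part 11

Generators of the centraliser `SL_2 × SL_{n-2}` of the Weyl element in the Levi subgroup.
-/

set_option autoImplicit false
set_option linter.unusedSectionVars false

namespace Cfsg.Agent.Lib.ShortPresOm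

open Matrix Cfsg.Agent.Lib.Schur.SteinbergSLn

variable {F : Type*} [Field F]

theorem exists_gens_sl2 [Finite F] :
    ∃ a b : Matrix.SpecialLinearGroup (Fin 2) F, Subgroup.closure ({a, b} : Set _) = ⊤ := by
  have : Fintype F := Fintype.ofFinite F
  rcases Nat.lt_or_ge (Fintype.card F) 4 with h | h
  · obtain ⟨p, hc⟩ := CharP.exists F
    have : Fact p.Prime := ⟨CharP.char_is_prime F p⟩
    have hcard : Fintype.card F = p := by
      obtain ⟨e, hp, he⟩ := FiniteField.card F p
      rcases Nat.lt_or_ge (e : ℕ) 2 with he2 | he2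
      · rw [he, show (e : ℕ) = 1 by have := e.pos; omega, pow_one]
      · have : p ^ 2 ≤ p ^ (e : ℕ) := Nat.pow_le_pow_right hp.pos he2
        have : 2 ^ 2 ≤ p ^ 2 := Nat.pow_le_pow_left hp.two_le 2
        omega
    have hnat : ∀ x : F, ∃ k : ℕ, (k : F) = x := by
      intro x
      obtain ⟨y, rfl⟩ := ((Fintype.bijective_iff_injective_and_card _).2
        ⟨ZMod.castHom_injective F, by rw [ZMod.card, hcard]⟩ :
          Function.Bijective (ZMod.castHom (dvd_refl p) F)).2 x
      exact ⟨y.val, by rw [← map_natCast (ZMod.castHom (dvd_refl p) F), ZMod.natCast_zmod_val]⟩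
    refine ⟨trv 2 F 0 1 1, trv 2 F 1 0 1, Cfsg.Agent.Lib.Linear.sl_eq_top_of_transvection_mem _
      fun i j hij c => ?_⟩
    set H := Subgroup.closure ({trv 2 F 0 1 1, trv 2 F 1 0 1} : Set (Matrix.SpecialLinearGroup (Fin 2) F))
    obtain ⟨k, rfl⟩ := hnat c
    rw [← trv_eq hij]
    have h1 : trv 2 F i j 1 ∈ H := by
      fin_cases i <;> fin_cases j <;> first
        | exact absurd rfl hij
        | exact Subgroup.subset_closure (Or.inl rfl)
        | exact Subgroup.subset_closure (Or.inr rfl)
    induction k with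
    | zero => simp [trv_eq hij]
    | succ k ih => rw [Nat.cast_succ, (trv_rel 2).add i j hij]; exact mul_mem ih h1
  · exact ShortPresSLn.exists_two_gen_sl2 h

theorem exists_gens_sl [Finite F] {m : ℕ} (hm : 2 ≤ m) :
    ∃ a b : Matrix.SpecialLinearGroup (Fin m) F, Subgroup.closure ({a, b} : Set _) = ⊤ := by
  have : Fintype F := Fintype.ofFinite F
  rcases eq_or_ne m 2 with rfl | h2
  · exact exists_gens_sl2
  rcases eq_or_ne m 3 with rfl | h3
  · obtain ⟨u, g, -, -, h⟩ := Cfsg.Agent.S2278.result (F := F)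
    exact ⟨_, _, h⟩
  · obtain ⟨⟨u, v, -, -, h⟩, -⟩ := Cfsg.Agent.S2279.result (F := F) m (by omega)
    exact ⟨u, v, h⟩

/-- A proper normal subgroup of `SL_m` is central. -/
theorem normal_le_center [Finite F] {m : ℕ} (hm : 3 ≤ m)
    (N : Subgroup (Matrix.SpecialLinearGroup (Fin m) F)) [hN : N.Normal] (hne : N ≠ ⊤) :
    N ≤ Subgroup.center _ := by
  by_contra hle
  have := Cfsg.Agent.Lib.Linear.isSimpleGroup_PSL (F := F) (n := m) (by omega) (by omega)
  set π := QuotientGroup.mk' (Subgroup.center (Matrix.SpecialLinearGroup (Fin m) F))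
  have hsur : Function.Surjective π := QuotientGroup.mk'_surjective _
  have : (N.map π).Normal := hN.map π hsur
  rcases Subgroup.Normal.eq_bot_or_eq_top (inferInstance : (N.map π).Normal) with h | h
  · rw [Subgroup.map_eq_bot_iff, QuotientGroup.ker_mk'] at h
    exact hle h
  · refine hne (eq_top_iff.2 ?_)
    rw [← Cfsg.Agent.Lib.Linear.commutator_SL_eq_top (F := F) (n := m) (by omega) (by omega),
      commutator_def, Subgroup.commutator_le]
    intro g _ k _
    obtain ⟨a, ha, ha'⟩ : π g ∈ N.map π := by rw [h]; trivial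
    have hz : a⁻¹ * g ∈ Subgroup.center (Matrix.SpecialLinearGroup (Fin m) F) :=
      QuotientGroup.eq.1 ha'
    have hc := Subgroup.mem_center_iff.1 hz
    set z := a⁻¹ * g with hzdef
    have hg : g = a * z := by rw [hzdef, mul_inv_cancel_left]
    rw [hg, commutatorElement_def, show a * z * k * (a * z)⁻¹ * k⁻¹ = a * (z * k * z⁻¹) * a⁻¹ * k⁻¹ by
      group, show z * k * z⁻¹ = k by rw [← hc k, mul_inv_cancel_right],
      show a * k * a⁻¹ * k⁻¹ = a * (k * a⁻¹ * k⁻¹) by group]
    exact mul_mem ha (hN.conj_mem _ (inv_mem ha) k)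

/-- A subgroup with both projections onto and a small first factor is everything. -/
theorem eq_top_of_surj [Finite F] {A : Type*} [Group A] [Finite A] {m k : ℕ} (hm : 1 + k = m)
    (hm3 : 3 ≤ m) (hA : Nat.card A < Nat.card F ^ k)
    (H : Subgroup (A × Matrix.SpecialLinearGroup (Fin m) F))
    (h1 : ∀ a, ∃ b, (a, b) ∈ H) (h2 : ∀ b, ∃ a, (a, b) ∈ H) : H = ⊤ := by
  set N := H.comap (MonoidHom.inr A (Matrix.SpecialLinearGroup (Fin m) F)) with hNdef
  have : N.Normal := ⟨fun n hn g => by
    obtain ⟨a, ha⟩ := h2 g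
    rw [hNdef, Subgroup.mem_comap] at hn ⊢
    have := mul_mem (mul_mem ha hn) (inv_mem ha)
    simpa using this⟩
  have htop : N = ⊤ := by
    by_contra hne
    have hle := normal_le_center hm3 N hne
    let e : Fin 1 ⊕ Fin k ≃ Fin m := finSumFinEquiv.trans (finCongr hm)
    choose f hf using fun B : Matrix (Fin 1) (Fin k) F => h2 (upp e B)
    have hinj : Function.Injective f := by
      intro B C hBC
      have hC := hf C
      rw [← hBC] at hC
      have hmem : upp e (C - B) ∈ N := by
        have hh := mul_mem (inv_mem (hf B)) hC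
        rw [hNdef, Subgroup.mem_comap]
        have e1 : (upp e B)⁻¹ * upp e C = upp e (C - B) := by
          rw [inv_mul_eq_iff_eq_mul, ← upp_add]; simp
        simpa [e1] using hh
      obtain ⟨r, -, hr⟩ := Matrix.SpecialLinearGroup.mem_center_iff.1 (hle hmem)
      refine (sub_eq_zero.1 (Matrix.ext fun i j => ?_)).symm
      have := congrFun (congrFun hr (e (.inl i))) (e (.inr j))
      rw [Matrix.scalar_apply, diagonal_apply_ne _ (e.injective.ne (by simp))] at this
      simpa [upp, blkMat] using this.symm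
    have := Nat.card_le_card_of_injective f hinj
    have hcard : Nat.card (Matrix (Fin 1) (Fin k) F) = Nat.card F ^ k := by
      rw [show Nat.card (Matrix (Fin 1) (Fin k) F) = Nat.card (Fin 1 → Fin k → F) from rfl,
        Nat.card_fun, Nat.card_fun]
      simp
    omega
  refine eq_top_iff.2 fun ⟨a, b⟩ _ => ?_
  obtain ⟨b', hb'⟩ := h1 a
  have : ((1 : A), b'⁻¹ * b) ∈ H := by
    have : b'⁻¹ * b ∈ N := by rw [htop]; trivial
    exact this
  simpa using mul_mem hb' this

/-- The blocks of sizes two and `d + 2`. -/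
def eK (d : ℕ) : Fin 2 ⊕ Fin (d + 2) ≃ Fin (d + 4) := finSumFinEquiv.trans (finCongr (by omega))

theorem eK_inl (d : ℕ) (i : Fin 2) : ((eK d (.inl i) : Fin (d + 4)) : ℕ) = i := by simp [eK]

theorem eK_inr (d : ℕ) (i : Fin (d + 2)) : ((eK d (.inr i) : Fin (d + 4)) : ℕ) = 2 + i := by
  simp [eK, add_comm]

/-- Few elements generating the block diagonal subgroup. -/
theorem exists_kgens [Finite F] (d : ℕ) :
    ∃ L : List (SLn d F), (L.length ≤ 4 ∧ (2 ≤ d → L.length ≤ 2)) ∧
      (∀ l ∈ L, ∀ S : Subgroup (SLn d F),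
        (∀ i j, i ≠ j → SameSide i j → ∀ a, trv (d + 4) F i j a ∈ S) → l ∈ S) ∧
      ∀ S : Subgroup (SLn d F), (∀ l ∈ L, l ∈ S) →
        ∀ i j, i ≠ j → SameSide i j → ∀ a, trv (d + 4) F i j a ∈ S := by
  obtain ⟨a, b, hab⟩ := exists_gens_sl2 (F := F)
  obtain ⟨u, v, huv⟩ := exists_gens_sl (F := F) (m := d + 2) (by omega)
  have hmem : ∀ (S : Subgroup (SLn d F)),
      (∀ i j, i ≠ j → SameSide i j → ∀ a, trv (d + 4) F i j a ∈ S) → ∀ g h,
      diagHom (eK d) (g, h) ∈ S := by
    intro S hS g h
    have e1 : ((S.comap (diagHom (eK d))).comap (MonoidHom.inl _ _)) = ⊤ :=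
      Cfsg.Agent.Lib.Linear.sl_eq_top_of_transvection_mem _ fun i j hij c => by
        show diagHom (eK d) (_, 1) ∈ S
        rw [diagHom_left, ← trv_eq]
        refine hS _ _ ((eK d).injective.ne (by simp [hij])) ?_ c
        simp only [SameSide, eK_inl]; omega
    have e2 : ((S.comap (diagHom (eK d))).comap (MonoidHom.inr _ _)) = ⊤ :=
      Cfsg.Agent.Lib.Linear.sl_eq_top_of_transvection_mem _ fun i j hij c => by
        show diagHom (eK d) (1, _) ∈ S
        rw [diagHom_right, ← trv_eq]
        refine hS _ _ ((eK d).injective.ne (by simp [hij])) ?_ c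
        simp only [SameSide, eK_inr]; omega
    have := mul_mem (show diagHom (eK d) (g, 1) ∈ S from (e1.ge (Subgroup.mem_top g) : _))
      (show diagHom (eK d) (1, h) ∈ S from (e2.ge (Subgroup.mem_top h) : _))
    rwa [← map_mul, Prod.mk_mul_mk, mul_one, one_mul] at this
  have hback : ∀ S : Subgroup (SLn d F), S.comap (diagHom (eK d)) = ⊤ →
      ∀ i j, i ≠ j → SameSide i j → ∀ a, trv (d + 4) F i j a ∈ S := by
    intro S hS i j hij hs c
    have key : ∀ p, diagHom (eK d) p ∈ S := fun p => hS.ge (Subgroup.mem_top p)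
    obtain ⟨i, rfl⟩ := (eK d).surjective i
    obtain ⟨j, rfl⟩ := (eK d).surjective j
    rcases i with i | i <;> rcases j with j | j
    · rw [trv_eq hij, ← diagHom_left (eK d) i j (fun e => hij (by rw [e]))]
      exact key _
    · simp only [SameSide, eK_inl, eK_inr] at hs; omega
    · simp only [SameSide, eK_inl, eK_inr] at hs; omega
    · rw [trv_eq hij, ← diagHom_right (eK d) i j (fun e => hij (by rw [e]))]
      exact key _
  rcases Nat.lt_or_ge d 2 with hd | hd
  · refine ⟨[diagHom (eK d) (a, 1), diagHom (eK d) (b, 1), diagHom (eK d) (1, u),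
      diagHom (eK d) (1, v)], ⟨by simp, fun h => absurd h (by omega)⟩, ?_, fun S hS => hback S ?_⟩
    · intro l hl S hS
      simp only [List.mem_cons, List.not_mem_nil, or_false] at hl
      rcases hl with rfl | rfl | rfl | rfl <;> exact hmem S hS _ _
    · have e1 : ∀ g, (g, 1) ∈ S.comap (diagHom (eK d)) := fun g => by
        have : (⊤ : Subgroup _) ≤ (S.comap (diagHom (eK d))).comap (MonoidHom.inl _ _) := by
          rw [← hab, Subgroup.closure_le]
          rintro _ (rfl | rfl) <;> exact hS _ (by simp)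
        exact this (Subgroup.mem_top g)
      have e2 : ∀ g, (1, g) ∈ S.comap (diagHom (eK d)) := fun g => by
        have : (⊤ : Subgroup _) ≤ (S.comap (diagHom (eK d))).comap (MonoidHom.inr _ _) := by
          rw [← huv, Subgroup.closure_le]
          rintro _ (rfl | rfl) <;> exact hS _ (by simp)
        exact this (Subgroup.mem_top g)
      exact eq_top_iff.2 fun ⟨g, h⟩ _ => by simpa using mul_mem (e1 g) (e2 h)
  · refine ⟨[diagHom (eK d) (a, u), diagHom (eK d) (b, v)], ⟨by simp, fun _ => by simp⟩, ?_,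
      fun S hS => hback S ?_⟩
    · intro l hl S hS
      simp only [List.mem_cons, List.not_mem_nil, or_false] at hl
      rcases hl with rfl | rfl <;> exact hmem S hS _ _
    · set H := S.comap (diagHom (eK d))
      have ha : (a, u) ∈ H := hS _ (by simp)
      have hb : (b, v) ∈ H := hS _ (by simp)
      have s1 : H.map (MonoidHom.fst _ _) = ⊤ := by
        rw [eq_top_iff, ← hab, Subgroup.closure_le]
        rintro _ (rfl | rfl)
        exacts [⟨_, ha, rfl⟩, ⟨_, hb, rfl⟩]
      have s2 : H.map (MonoidHom.snd _ _) = ⊤ := by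
        rw [eq_top_iff, ← huv, Subgroup.closure_le]
        rintro _ (rfl | rfl)
        exacts [⟨_, ha, rfl⟩, ⟨_, hb, rfl⟩]
      have : Fintype F := Fintype.ofFinite F
      refine eq_top_of_surj (k := d + 1) (by omega) (by omega) ?_ H (fun g => ?_) (fun g => ?_)
      · rw [Cfsg.Agent.Lib.Linear.card_SL_two, Nat.card_eq_fintype_card]
        set q := Fintype.card F
        have h2 : 2 ≤ q := Fintype.one_lt_card
        calc q * (q - 1) * (q + 1) < q ^ 3 := by
              obtain ⟨r, hr⟩ := Nat.exists_eq_add_of_le h2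
              rw [hr, show 2 + r - 1 = r + 1 by omega]
              nlinarith
          _ ≤ q ^ (d + 1) := Nat.pow_le_pow_right (by omega) (by omega)
      · obtain ⟨⟨x, y⟩, hx, rfl⟩ : g ∈ H.map (MonoidHom.fst _ _) := by rw [s1]; trivial
        exact ⟨y, hx⟩
      · obtain ⟨⟨x, y⟩, hx, rfl⟩ : g ∈ H.map (MonoidHom.snd _ _) := by rw [s2]; trivial
        exact ⟨x, hx⟩

end Cfsg.Agent.Lib.ShortPresOm
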