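import Cfsg.Agent.Lib.ShortPresOm.Model

/-!
# Short presentations of orthogonal groups, part 10

A group with the relations of `OmRel`, generated by the Levi subgroup and the Weyl element, acts
faithfully on the hyperbolic space, as `EG`.
-/

set_option autoImplicit false
set_option linter.unusedSectionVars false

namespace Cfsg.Agent.Lib.ShortPresOm

open Matrix QuadraticMap Module Cfsg.Agent.Lib.Schur.SteinbergSLn Cfsg.Agent.Lib.ShortPresSp
open Cfsg.Agent.Lib.Forms Cfsg.Agent.Lib.OrthOmega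

theorem radO_congr {m : ℕ} {F : Type*} [Field F] {A B : Matrix (Fin m) (Fin m) F} (e : A = B)
    (hA : IsAlt A) (hB : IsAlt B) : radO A hA = radO B hB := by subst e; rfl

theorem dradO_congr {m : ℕ} {F : Type*} [Field F] {A B : Matrix (Fin m) (Fin m) F} (e : A = B)
    (hA : IsAlt A) (hB : IsAlt B) : dradO A hA = dradO B hB := by subst e; rfl

namespace OmRel

variable {d : ℕ} {F : Type*} [Field F] {G : Type*} [Group G] (R : OmRel d F G)
variable (ρ : G →* Om (d + 4) F) (hψ : ∀ g, ρ (R.ψ g) = lev g) (hw : ρ R.w = wM d F)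

include hψ hw

theorem rho_x (t : F) : ρ (R.x t) = radO (E 0 2 t) (isAlt_E _ _ _) := by
  rw [x, map_mul, map_mul, map_inv, hψ, hw, wM_trv21, mul_inv_cancel_right]

theorem rho_dual_x (t : F) : ρ (R.dual.x t) = dradO (E 0 2 t) (isAlt_E _ _ _) := by
  show ρ (R.w * R.ψ (tinv (trv (d + 4) F 2 1 (-t))) * R.w⁻¹) = _
  rw [tinv_trv n12.symm, neg_neg, map_mul, map_mul, map_inv, hψ, hw, wM_trv12,
    mul_inv_cancel_right]

theorem rho_X (g : SLn d F) :
    ρ (R.X g) = radO (bv g) (by rw [bv_eq]; exact isAlt_conj _ (isAlt_E _ _ _)) := by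
  rw [X, map_mul, map_mul, map_inv, hψ, R.rho_x ρ hψ hw, lev_radO]
  exact radO_congr (bv_eq g).symm _ _

theorem rho_dual_X (g : SLn d F) :
    ρ (R.dual.X g) = dradO (bv g) (by rw [bv_eq]; exact isAlt_conj _ (isAlt_E _ _ _)) := by
  show ρ (R.ψ (tinv g) * R.dual.x 1 * (R.ψ (tinv g))⁻¹) = _
  rw [map_mul, map_mul, map_inv, hψ, R.rho_dual_x ρ hψ hw, lev_dradO]
  exact dradO_congr (bv_eq g).symm _ _

theorem rho_Φ {A : Matrix (Fin (d + 4)) (Fin (d + 4)) F} (hA : IsAlt A) :
    ρ (R.Φ A) = radO A hA := by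
  have : ∃ h : IsAlt A, ρ (R.Φ A) = radO A h := by
    refine alt_induction (P := fun A => ∃ h : IsAlt A, ρ (R.Φ A) = radO A h) ?_ ?_ ?_ hA
    · refine ⟨fun r => ⟨rfl, fun s => by simp⟩, ?_⟩
      rw [R.Φ_zero, map_one]
      exact orth_ext fun v => by
        show v = Sum.elim (xc v + (0 : Matrix (Fin (d + 4)) (Fin (d + 4)) F) *ᵥ yc v) (yc v)
        rw [zero_mulVec, add_zero]; exact elim_eq rfl rfl
    · rintro A B ⟨ha, hA⟩ ⟨hb, hB⟩
      exact ⟨ha.add hb, by rw [R.Φ_add, map_mul, hA, hB, radO_mul]⟩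
    · intro p q hpq t
      refine ⟨isAlt_E p q t, ?_⟩
      rcases eq_or_ne t 0 with rfl | ht
      · rw [R.Φ_E hpq, R.rt_zero, map_one]
        exact orth_ext fun v => by
          show v = Sum.elim (xc v + E p q (0 : F) *ᵥ yc v) (yc v)
          rw [E_zero, zero_mulVec, add_zero]; exact elim_eq rfl rfl
      obtain ⟨g, hg⟩ := exists_bv hpq ht
      rw [R.Φ_E hpq, ← R.rt_of_bv hpq hg, R.rho_X ρ hψ hw]
      exact radO_congr hg _ _
  obtain ⟨_, h⟩ := this
  exact h

theorem rho_T (l : Fˣ) : ρ (R.T l) = tor (tw d l) := by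
  rw [T, map_mul, map_mul, map_inv, hψ, hw, wM_h2, mul_inv_cancel_right]

theorem rho_P_lower {p : G} (hp : p ∈ R.P) {v : Vo (d + 4) F} (hv : yc v = 0) :
    yc ((ρ p).1 v) = 0 := by
  obtain ⟨A, l, g, hA, rfl⟩ := hp
  rw [map_mul, map_mul, hψ, R.rho_T ρ hψ hw, R.rho_Φ ρ hψ hw hA]
  show (diagonal fun i => (((tw d l i)⁻¹ : Fˣ) : F)) *ᵥ ((tinv g).1 *ᵥ yc v) = 0
  rw [hv, mulVec_zero, mulVec_zero]

theorem rho_W_fix {a : ℕ} (ha : 1 ≤ a) (c : F) :
    (ρ (R.W a)).1 (Sum.elim (0 : Fin (d + 4) → F) (Pi.single 1 c)) = Sum.elim (0 : Fin (d + 4) → F) (Pi.single 1 c) := by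
  by_cases ha2 : 2 * a + 1 < d + 4
  swap
  · rw [show R.W a = 1 from if_neg ha2, map_one]; rfl
  rw [R.W_eq ha2, map_mul, map_mul, map_inv, hψ, hw]
  obtain ⟨j, hj, hjs⟩ : ∃ j, (j : Fin (d + 4)) = (swp d a).symm 1 ∧ ¬ (j : ℕ) < 2 := by
    refine ⟨_, rfl, fun h => ?_⟩
    have := (swp_side ha2 _).2 h
    rw [Equiv.apply_symm_apply] at this
    simp at this
    omega
  obtain ⟨D, hD⟩ := (sw_mon (F := F) a).tinv'
  have hD0 := Mon.ne_zero hD j
  set u : Vo (d + 4) F := Sum.elim (0 : Fin (d + 4) → F) (Pi.single j (c / D j)) with hu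
  have h1 : (lev (sw d F a)).1 u = Sum.elim (0 : Fin (d + 4) → F) (Pi.single 1 c) := by
    rw [lev_apply]
    refine congrArg₂ Sum.elim ?_ ?_
    · show _ *ᵥ (0 : Fin (d + 4) → F) = 0
      exact mulVec_zero _
    · show (tinv (sw d F a)).1 *ᵥ Pi.single j (c / D j) = _
      funext x
      rw [mulVec_single]
      simp only [Pi.smul_apply, col_apply, hD]
      rw [hj, Equiv.apply_symm_apply]
      by_cases hx : x = 1
      · subst hx; simp only [if_true, Pi.single_eq_same, op_smul_eq_smul, smul_eq_mul]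
        rw [← hj, div_mul_cancel₀ _ hD0]
      · simp [hx]
  have h2 : (wM d F).1 u = u := by
    obtain ⟨j0, j1⟩ := big_ne hjs
    refine (elim_eq (funext fun x => ?_) (funext fun x => ?_))
    · rw [wM_xc]
      simp [hu, j0.symm, j1.symm, Pi.single_apply]
    · rw [wM_yc]
      rcases eq_or_ne x 0 with rfl | x0
      · simp [hu, j0.symm, Pi.single_apply]
      rcases eq_or_ne x 1 with rfl | x1
      · simp [hu, j1.symm, n01.symm, Pi.single_apply]
      · simp [hu, x0, x1, Pi.single_apply]
  rw [← h1]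
  rw [orth_mul_apply, orth_mul_apply, orth_inv_apply_apply, h2]

theorem rho_J_moves {k : ℕ} (hk : 1 ≤ k) :
    yc ((ρ (R.J k)).1 (Sum.elim (Pi.single 0 1) (0 : Fin (d + 4) → F))) ≠ 0 := by
  have hB : Commute (R.B k) R.w := R.B_comm fun m _ _ => by
    rw [← R.W_zero]; exact R.W_comm m 0
  rw [R.J_eq_w_B hk, ← hB.eq, map_mul, hw]
  have h1 : (wM d F).1 (Sum.elim (Pi.single 0 1) (0 : Fin (d + 4) → F)) = Sum.elim (0 : Fin (d + 4) → F) (Pi.single 1 (-1)) := by
    refine elim_eq (funext fun x => ?_) (funext fun x => ?_)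
    · rw [wM_xc]
      rcases eq_or_ne x 0 with rfl | x0
      · simp
      rcases eq_or_ne x 1 with rfl | x1
      · simp [n01.symm]
      · simp [x0, x1, Pi.single_apply]
    · rw [wM_yc]
      rcases eq_or_ne x 0 with rfl | x0
      · simp [n01, n01.symm]
      rcases eq_or_ne x 1 with rfl | x1
      · simp [n01.symm]
      · simp [x0, x1, Pi.single_apply]
  have h2 : (ρ (R.B k)).1 (Sum.elim (0 : Fin (d + 4) → F) (Pi.single 1 (-1))) = Sum.elim (0 : Fin (d + 4) → F) (Pi.single 1 (-1)) := by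
    refine Finset.noncommProd_induction (Finset.Ico 1 k) R.W (fun a _ b _ _ => R.W_comm a b)
      (fun y => (ρ y).1 (Sum.elim (0 : Fin (d + 4) → F) (Pi.single 1 (-1))) = Sum.elim (0 : Fin (d + 4) → F) (Pi.single 1 (-1)))
      (fun a b ha hb => ?_) ?_ fun a ha => R.rho_W_fix ρ hψ hw (Finset.mem_Ico.1 ha).1 _
    · rw [map_mul, orth_mul_apply, hb, ha]
    · rw [map_one]; rfl
  rw [orth_mul_apply, h1, h2]
  intro h
  have := congrFun h 1
  simp [yc] at this

theorem rho_injective (hgen : Subgroup.closure (Set.range R.ψ ∪ {R.w}) = ⊤) :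
    Function.Injective ρ := by
  rw [injective_iff_map_eq_one]
  intro y hy
  obtain ⟨k, hk, p, hp, p', hp', rfl⟩ := R.cells_eq_univ hgen y
  have hk0 : k = 0 := by
    by_contra h0
    have e : ρ (R.J k) = ρ (p⁻¹ * p'⁻¹) := by
      have : ρ (p * R.J k * p') = 1 := hy
      rw [map_mul, map_mul] at this
      rw [map_mul, map_inv, map_inv]
      calc ρ (R.J k) = (ρ p)⁻¹ * (ρ p * ρ (R.J k) * ρ p') * (ρ p')⁻¹ := by group
        _ = _ := by rw [this, mul_one]
    have hm := R.rho_J_moves ρ hψ hw (Nat.pos_of_ne_zero h0)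
    rw [e] at hm
    exact hm (R.rho_P_lower ρ hψ hw (mul_mem (inv_mem hp) (inv_mem hp')) rfl)
  subst hk0
  rw [R.J_zero, mul_one] at hy ⊢
  obtain ⟨A, l, g, hA, e⟩ := mul_mem hp hp'
  rw [e] at hy ⊢
  rw [map_mul, map_mul, hψ, R.rho_T ρ hψ hw, R.rho_Φ ρ hψ hw hA] at hy
  have hv : ∀ v : Vo (d + 4) F, (radO A hA).1 ((tor (tw d l)).1 ((lev g).1 v)) = v := fun v => by
    rw [← orth_mul_apply, ← orth_mul_apply, hy]; rfl
  have hy0 : ∀ u : Fin (d + 4) → F,
      (diagonal fun i => (((tw d l i)⁻¹ : Fˣ) : F)) *ᵥ ((tinv g).1 *ᵥ u) = u := fun u =>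
    congrArg yc (hv (Sum.elim (0 : Fin (d + 4) → F) u))
  have hA0 : A = 0 := by
    refine Matrix.ext_of_mulVec_single fun j => ?_
    have h := congrArg xc (hv (Sum.elim (0 : Fin (d + 4) → F) (Pi.single j 1)))
    have h' : (diagonal fun i => (tw d l i : F)) *ᵥ (g.1 *ᵥ (0 : Fin (d + 4) → F)) +
        A *ᵥ ((diagonal fun i => (((tw d l i)⁻¹ : Fˣ) : F)) *ᵥ ((tinv g).1 *ᵥ Pi.single j 1)) = 0 := h
    rw [mulVec_zero, mulVec_zero, zero_add, hy0] at h'
    rw [h', zero_mulVec]
  subst hA0
  have hDg : (diagonal fun i => (tw d l i : F)) * g.1 = 1 := by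
    refine Matrix.ext_of_mulVec_single fun j => ?_
    have h := congrArg xc (hv (Sum.elim (Pi.single j 1) (0 : Fin (d + 4) → F)))
    have h' : (diagonal fun i => (tw d l i : F)) *ᵥ (g.1 *ᵥ Pi.single j 1) +
        (0 : Matrix (Fin (d + 4)) (Fin (d + 4)) F) *ᵥ ((diagonal fun i => (((tw d l i)⁻¹ : Fˣ) : F)) *ᵥ
          ((tinv g).1 *ᵥ (0 : Fin (d + 4) → F))) = Pi.single j 1 := h
    rw [zero_mulVec, add_zero, mulVec_mulVec] at h'
    rw [h', one_mulVec]
  have hl : (l : F) * l = 1 := by
    have h := congrArg Matrix.det hDg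
    rw [det_mul, g.2, mul_one, det_one, det_diagonal,
      ← Finset.prod_subset (Finset.subset_univ {0, 2}) (fun x _ hx => by
        simp only [Finset.mem_insert, Finset.mem_singleton, not_or] at hx
        simp [tw, hx.1, hx.2]), Finset.prod_pair n02] at h
    simpa [tw] using h
  rw [R.Φ_zero, one_mul]
  obtain ⟨g0, hg0⟩ : ∃ g0, R.T l = R.ψ g0 := by
    rcases mul_self_eq_one_iff.1 hl with h | h
    · obtain rfl : l = 1 := Units.ext h
      exact ⟨1, by rw [R.T_one, map_one]⟩
    · obtain rfl : l = -1 := Units.ext (by rw [h]; simp)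
      exact ⟨_, R.T_neg_one⟩
  rw [hg0, ← map_mul]
  have hone : lev (g0 * g) = 1 := by
    have e1 : radO (0 : Matrix (Fin (d + 4)) (Fin (d + 4)) F) hA = 1 := by
      rw [← R.rho_Φ ρ hψ hw hA, R.Φ_zero, map_one]
    rw [map_mul, ← hψ g0, ← hg0, R.rho_T ρ hψ hw]
    rwa [e1, one_mul] at hy
  rw [← map_one lev] at hone
  rw [lev_injective hone, map_one]

theorem radO_mem_range {A : Matrix (Fin (d + 4)) (Fin (d + 4)) F} (hA : IsAlt A) :
    radO A hA ∈ ρ.range := ⟨_, R.rho_Φ ρ hψ hw hA⟩

theorem dradO_mem_range {p q : Fin (d + 4)} (hpq : p ≠ q) {t : F} (ht : t ≠ 0) :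
    dradO (E p q t) (isAlt_E _ _ _) ∈ ρ.range := by
  obtain ⟨g, hg⟩ := exists_bv hpq ht
  exact ⟨R.dual.X g, (R.rho_dual_X ρ hψ hw g).trans (dradO_congr hg _ _)⟩

end OmRel

section gen

variable {d : ℕ} {F : Type*} [Field F]

theorem spair_x0 {u : Vo (d + 4) F} : SPair (qPlus (d + 4)) (Sum.elim (Pi.single 0 1) (0 : Fin (d + 4) → F)) u ↔
    u (.inr 0) = 0 := by
  have hQ : qPlus (F := F) (d + 4) (Sum.elim (Pi.single (0 : Fin (d + 4)) 1) (0 : Fin (d + 4) → F)) = 0 := by
    rw [qPlus_apply]; simp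
  refine ⟨fun h => ?_, fun h => ⟨hQ, ?_⟩⟩
  · have := h.perp
    rw [qPlus_polar, Finset.sum_eq_single 0 (fun b _ hb => by simp [hb]) (by simp)] at this
    simpa using this
  · rw [qPlus_polar, Finset.sum_eq_single 0 (fun b _ hb => by simp [hb]) (by simp)]
    simp [h]

theorem spair_y0 {u : Vo (d + 4) F} : SPair (qPlus (d + 4)) (Sum.elim (0 : Fin (d + 4) → F) (Pi.single 0 1)) u ↔
    u (.inl 0) = 0 := by
  have hQ : qPlus (F := F) (d + 4) (Sum.elim (0 : Fin (d + 4) → F) (Pi.single (0 : Fin (d + 4)) 1)) = 0 := by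
    rw [qPlus_apply]; simp
  refine ⟨fun h => ?_, fun h => ⟨hQ, ?_⟩⟩
  · have := h.perp
    rw [qPlus_polar, Finset.sum_eq_single 0 (fun b _ hb => by simp [hb]) (by simp)] at this
    simpa using this
  · rw [qPlus_polar, Finset.sum_eq_single 0 (fun b _ hb => by simp [hb]) (by simp)]
    simp [h]

theorem rho_mem_of_pieces (H : Subgroup (Om (d + 4) F)) {e : Vo (d + 4) F}
    (he : qPlus (F := F) (d + 4) e = 0) (s : Finset (Fin (d + 4) ⊕ Fin (d + 4))) (f : Vo (d + 4) F)
    (h : ∀ i ∈ s, ∃ hu : SPair (qPlus (d + 4)) e (Pi.single i (f i)), rho hu ∈ H) :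
    ∃ hu : SPair (qPlus (d + 4)) e (∑ i ∈ s, Pi.single i (f i)), rho hu ∈ H := by
  classical
  induction s using Finset.induction_on with
  | empty =>
    refine ⟨by rw [Finset.sum_empty]; exact SPair.zero he, ?_⟩
    rw [rho_congr _ (SPair.zero he) rfl Finset.sum_empty, rho_zero]
    exact one_mem _
  | @insert i s his ih =>
    obtain ⟨hi, hmi⟩ := h i (Finset.mem_insert_self i s)
    obtain ⟨hs, hms⟩ := ih fun j hj => h j (Finset.mem_insert_of_mem hj)
    have hsum : SPair (qPlus (d + 4)) e (∑ j ∈ insert i s, Pi.single j (f j)) :=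
      ⟨he, by rw [Finset.sum_insert his]; exact (hi.add hs).perp⟩
    refine ⟨hsum, ?_⟩
    rw [rho_congr hsum (hi.add hs) rfl (Finset.sum_insert his), ← rho_mul hi hs]
    exact mul_mem hmi hms

end gen

namespace OmRel

variable {d : ℕ} {F : Type*} [Field F] {G : Type*} [Group G] (R : OmRel d F G)
variable (ρ : G →* Om (d + 4) F) (hψ : ∀ g, ρ (R.ψ g) = lev g) (hw : ρ R.w = wM d F)

include hψ hw

theorem hasPair : Cfsg.Agent.Lib.ChevClassical.HasPair ρ.range
    (Sum.elim (Pi.single (0 : Fin (d + 4)) 1) (0 : Fin (d + 4) → F) : Vo (d + 4) F)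
    (Sum.elim (0 : Fin (d + 4) → F) (Pi.single (0 : Fin (d + 4)) 1) : Vo (d + 4) F) := by
  constructor
  · intro u hu
    have hu0 := spair_x0.1 hu
    obtain ⟨hs, hm⟩ := rho_mem_of_pieces ρ.range hu.sing Finset.univ u fun i _ => by
      refine ⟨spair_x0.2 (by
        rcases eq_or_ne i (Sum.inr 0) with rfl | hi
        · simp [hu0]
        · simp [Ne.symm hi]), ?_⟩
      rcases eq_or_ne (u i) 0 with h0 | h0
      · rw [rho_congr _ (SPair.zero hu.sing) rfl (by rw [h0, Pi.single_zero]), rho_zero]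
        exact one_mem _
      rcases i with j | j
      · rcases eq_or_ne j 0 with rfl | hj
        · convert one_mem ρ.range using 1
          refine orth_ext fun v => ?_
          rw [rho_apply]
          funext z
          simp only [qPlus_apply, qPlus_polar]
          rw [Finset.sum_eq_single 0 (fun b _ hb => by simp [hb]) (by simp),
            Finset.sum_eq_single 0 (fun b _ hb => by simp [hb]) (by simp),
            Finset.sum_eq_single 0 (fun b _ hb => by simp [hb]) (by simp)]
          rcases z with z | z <;> rcases eq_or_ne z 0 with rfl | hz <;> simp [*] <;> ring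
        · convert R.radO_mem_range ρ hψ hw (isAlt_E j 0 (u (Sum.inl j))) using 1
          refine orth_ext fun v => ?_
          rw [rho_apply, radO_apply]
          funext z
          simp only [qPlus_apply, qPlus_polar]
          rw [Finset.sum_eq_single 0 (fun b _ hb => by simp [hb]) (by simp),
            Finset.sum_eq_single j (fun b _ hb => by simp [hb]) (by simp),
            Finset.sum_eq_single j (fun b _ hb => by simp [hb]) (by simp)]
          rcases z with z | z
          · show _ = (xc v + E j 0 (u (Sum.inl j)) *ᵥ yc v) z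
            rw [Pi.add_apply, E_mulVec]
            rcases eq_or_ne z 0 with rfl | hz0
            · simp [hj, hj.symm, xc, yc]; ring
            rcases eq_or_ne z j with rfl | hzj
            · simp [hj, hj.symm, hz0, xc, yc]; ring
            · simp [hz0, hzj, xc, yc]
          · simp [yc]
      · have hj : j ≠ 0 := fun e => h0 (e ▸ hu0)
        have hmem : lev (trv (d + 4) F 0 j (-u (Sum.inr j))) ∈ ρ.range := ⟨_, hψ _⟩
        convert hmem using 1
        refine orth_ext fun v => ?_
        rw [rho_apply]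
        funext z
        simp only [qPlus_apply, qPlus_polar]
        rw [Finset.sum_eq_single 0 (fun b _ hb => by simp [hb]) (by simp),
          Finset.sum_eq_single j (fun b _ hb => by simp [hb]) (by simp),
          Finset.sum_eq_single j (fun b _ hb => by simp [hb]) (by simp)]
        rcases z with z | z
        · show _ = xc _ z
          rw [lev_trv_x hj.symm]
          rcases eq_or_ne z 0 with rfl | hz0
          · simp [hj, hj.symm]; ring
          · simp [hz0]
        · show _ = yc _ z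
          rw [lev_trv_y hj.symm]
          rcases eq_or_ne z j with rfl | hzj
          · simp [hj, hj.symm]; ring
          · simp [hzj]
    rwa [rho_congr _ hu rfl (Finset.univ_sum_single u)] at hm
  · intro u hu
    have hu0 := spair_y0.1 hu
    obtain ⟨hs, hm⟩ := rho_mem_of_pieces ρ.range hu.sing Finset.univ u fun i _ => by
      refine ⟨spair_y0.2 (by
        rcases eq_or_ne i (Sum.inl 0) with rfl | hi
        · simp [hu0]
        · simp [Ne.symm hi]), ?_⟩
      rcases eq_or_ne (u i) 0 with h0 | h0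
      · rw [rho_congr _ (SPair.zero hu.sing) rfl (by rw [h0, Pi.single_zero]), rho_zero]
        exact one_mem _
      rcases i with j | j
      · have hj : j ≠ 0 := fun e => h0 (e ▸ hu0)
        have hmem : lev (trv (d + 4) F j 0 (u (Sum.inl j))) ∈ ρ.range := ⟨_, hψ _⟩
        convert hmem using 1
        refine orth_ext fun v => ?_
        rw [rho_apply]
        funext z
        simp only [qPlus_apply, qPlus_polar]
        rw [Finset.sum_eq_single 0 (fun b _ hb => by simp [hb]) (by simp),
          Finset.sum_eq_single j (fun b _ hb => by simp [hb]) (by simp),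
          Finset.sum_eq_single j (fun b _ hb => by simp [hb]) (by simp)]
        rcases z with z | z
        · show _ = xc _ z
          rw [lev_trv_x hj]
          rcases eq_or_ne z j with rfl | hzj
          · simp [hj, hj.symm]; ring
          · simp [hzj]
        · show _ = yc _ z
          rw [lev_trv_y hj]
          rcases eq_or_ne z 0 with rfl | hz0
          · simp [hj, hj.symm]; ring
          · simp [hz0]
      · rcases eq_or_ne j 0 with rfl | hj
        · convert one_mem ρ.range using 1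
          refine orth_ext fun v => ?_
          rw [rho_apply]
          funext z
          simp only [qPlus_apply, qPlus_polar]
          rw [Finset.sum_eq_single 0 (fun b _ hb => by simp [hb]) (by simp),
            Finset.sum_eq_single 0 (fun b _ hb => by simp [hb]) (by simp),
            Finset.sum_eq_single 0 (fun b _ hb => by simp [hb]) (by simp)]
          rcases z with z | z <;> rcases eq_or_ne z 0 with rfl | hz <;> simp [*] <;> ring
        · convert R.dradO_mem_range ρ hψ hw hj h0 using 1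
          refine orth_ext fun v => ?_
          rw [rho_apply, dradO_apply]
          funext z
          simp only [qPlus_apply, qPlus_polar]
          rw [Finset.sum_eq_single 0 (fun b _ hb => by simp [hb]) (by simp),
            Finset.sum_eq_single j (fun b _ hb => by simp [hb]) (by simp),
            Finset.sum_eq_single j (fun b _ hb => by simp [hb]) (by simp)]
          rcases z with z | z
          · simp [xc]
          · show _ = (yc v + E j 0 (u (Sum.inr j)) *ᵥ xc v) z
            rw [Pi.add_apply, E_mulVec]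
            rcases eq_or_ne z 0 with rfl | hz0
            · simp [hj, hj.symm, xc, yc]; ring
            rcases eq_or_ne z j with rfl | hzj
            · simp [hj, hj.symm, hz0, xc, yc]; ring
            · simp [hz0, hzj, xc, yc]
    rwa [rho_congr _ hu rfl (Finset.univ_sum_single u)] at hm

theorem EG_le_range : EG (qPlus (F := F) (d + 4)) ≤ ρ.range := by
  refine Cfsg.Agent.Lib.ChevClassical.EG_le_of_hasPair (R.hasPair ρ hψ hw) ?_ ?_ ?_
  · refine ⟨((spair_x0 (u := 0)).2 (by simp)).sing, ((spair_y0 (u := 0)).2 (by simp)).sing, ?_⟩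
    rw [qPlus_polar, Finset.sum_eq_single 0 (fun b _ hb => by simp [hb]) (by simp)]
    simp
  · intro c
    refine ⟨Sum.elim (Pi.single 1 c) (Pi.single 1 1), mem_core.2 ⟨?_, ?_⟩, ?_⟩
    · rw [qPlus_polar, Finset.sum_eq_single 0 (fun b _ hb => by simp [hb]) (by simp)]
      simp [n01]
    · rw [qPlus_polar, Finset.sum_eq_single 0 (fun b _ hb => by simp [hb]) (by simp)]
      simp [n01]
    · rw [qPlus_apply, Finset.sum_eq_single 1 (fun b _ hb => by simp [hb]) (by simp)]
      simp
  · intro x _ hx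
    by_contra! h
    exact hx (qPlus_nondeg _ x h)

theorem range_le_EG [Finite F] (hgen : Subgroup.closure (Set.range R.ψ ∪ {R.w}) = ⊤) :
    ρ.range ≤ EG (qPlus (F := F) (d + 4)) := by
  have h5 : 5 ≤ finrank F (Vo (d + 4) F) := by
    rw [Module.finrank_fintype_fun_eq_card]; simp; omega
  rw [← commutator_eq_EG (qPlus_nondeg _) h5]
  have hlev : ∀ g : SLn d F, lev g ∈ commutator (Om (d + 4) F) := fun g => by
    have : g ∈ (commutator (Om (d + 4) F)).comap lev := by
      refine sl_top _ (fun i j hij a => ?_) g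
      obtain ⟨r, hri, hrj⟩ := exists_third i j
      have h := (trv_rel (F := F) (d + 4)).chain i r j hri.symm hrj hij a 1
      rw [mul_one] at h
      have e : trv (d + 4) F i j a = trv (d + 4) F i r a * trv (d + 4) F r j 1 *
          (trv (d + 4) F i r a)⁻¹ * (trv (d + 4) F r j 1)⁻¹ := by rw [h]; group
      show lev (trv (d + 4) F i j a) ∈ commutator (Om (d + 4) F)
      rw [e, map_mul, map_mul, map_mul, map_inv, map_inv, commutator_def]
      exact Subgroup.commutator_mem_commutator (Subgroup.mem_top _) (Subgroup.mem_top _)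
    exact this
  rw [MonoidHom.range_eq_map, ← hgen, MonoidHom.map_closure, Subgroup.closure_le]
  rintro _ ⟨y, (⟨g, rfl⟩ | rfl), rfl⟩
  · rw [hψ]; exact hlev g
  · rw [hw, SetLike.mem_coe, wM_F]
    have hn : (commutator (Om (d + 4) F)).Normal := inferInstance
    exact hn.conj_mem _ (hn.conj_mem _ (hlev ((ntv 2 1)⁻¹)) (wM d F)) (lev (ntv 1 2))

end OmRel

end Cfsg.Agent.Lib.ShortPresOm
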