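import Cfsg.Agent.Lib.ShortPresOm.Pres
import Cfsg.Agent.Lib.ShortPresSLn.Final
import Cfsg.Agent.Lib.OrthStd.Models

/-!
# Short presentations of orthogonal groups, part 13

`Ω⁺` and `PΩ⁺`.
-/

set_option autoImplicit false
set_option linter.unusedSectionVars false

namespace Cfsg.Agent.Lib.ShortPresOm

open Matrix QuadraticMap Module Cfsg.Agent.Lib.Schur.SteinbergSLn Cfsg.Agent.Lib.ShortPresSp
open Cfsg.Agent.Lib.Forms Cfsg.Agent.Lib.OrthOmega Cfsg.Agent.Lib.ShortPresSLn

variable {F : Type*} [Field F] [Finite F] {d : ℕ}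

/-- From `SL_n` to `EG` of the hyperbolic form: one generator more, and four relators besides those
of the centraliser of the Weyl element. -/
theorem hasPres_EG {a r : ℕ} (h : HasPres a r (SLn d F)) (L : List (SLn d F))
    (hmem : ∀ l ∈ L, ∀ S : Subgroup (SLn d F),
      (∀ i j, i ≠ j → SameSide i j → ∀ a, trv (d + 4) F i j a ∈ S) → l ∈ S)
    (hgenK : ∀ S : Subgroup (SLn d F), (∀ l ∈ L, l ∈ S) →
      ∀ i j, i ≠ j → SameSide i j → ∀ a, trv (d + 4) F i j a ∈ S) :
    HasPres (a + 1) (r + (L.length + 4)) (EG (qPlus (F := F) (d + 4))) := by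
  classical
  obtain ⟨rels, hc, ⟨e⟩⟩ := h
  let ι : FreeGroup (Fin a) →* FreeGroup (Fin (a + 1)) := FreeGroup.map Fin.castSucc
  choose W hW using fun g : SLn d F =>
    PresentedGroup.mk_surjective (↑rels : Set (FreeGroup (Fin a))) (e.symm g)
  let E : List (FreeGroup (Fin (a + 1))) :=
    extraRels L (fun g => ι (W g)) (FreeGroup.of (Fin.last a))
  let R : Finset (FreeGroup (Fin (a + 1))) := rels.image ι ∪ E.toFinset
  refine ⟨R, (Finset.card_union_le _ _).trans (Nat.add_le_add (Finset.card_image_le.trans hc)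
    ((List.toFinset_card_le _).trans (length_extraRels _ _ _).le)), ?_⟩
  set G := PresentedGroup (↑R : Set (FreeGroup (Fin (a + 1))))
  let π : FreeGroup (Fin (a + 1)) →* G := PresentedGroup.mk _
  have hrelι : ∀ q ∈ (↑rels : Set (FreeGroup (Fin a))),
      FreeGroup.lift (fun i => π (ι (FreeGroup.of i))) q = 1 := by
    intro q hq
    rw [show FreeGroup.lift (fun i => π (ι (FreeGroup.of i))) = π.comp ι from
      FreeGroup.ext_hom _ _ fun i => by simp, MonoidHom.comp_apply]
    exact PresentedGroup.one_of_mem (Finset.mem_coe.2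
      (Finset.mem_union_left _ (Finset.mem_image_of_mem _ hq)))
  let ψ : SLn d F →* G := (PresentedGroup.toGroup hrelι).comp e.symm.toMonoidHom
  have hψW : ∀ g, ψ g = π (ι (W g)) := by
    intro g
    show PresentedGroup.toGroup hrelι (e.symm g) = _
    rw [← hW g]
    have : (PresentedGroup.toGroup hrelι).comp (PresentedGroup.mk _) = π.comp ι :=
      FreeGroup.ext_hom _ _ fun i => by
        rw [MonoidHom.comp_apply, MonoidHom.comp_apply]; exact PresentedGroup.toGroup.of hrelι
    exact DFunLike.congr_fun this (W g)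
  set w : G := π (FreeGroup.of (Fin.last a)) with hwdef
  have hE : ∀ x ∈ extraRels L (fun g => ψ g) w, x = 1 := by
    intro x hx
    rw [show (fun g => ψ g) = fun g => π (ι (W g)) from funext hψW, hwdef, ← map_extraRels] at hx
    obtain ⟨q, hq, rfl⟩ := List.mem_map.1 hx
    exact PresentedGroup.one_of_mem (Finset.mem_coe.2 (Finset.mem_union_right _ (List.mem_toFinset.2 hq)))
  simp only [extraRels, List.forall_mem_append, List.forall_mem_map, List.forall_mem_cons,
    List.not_mem_nil, false_implies, implies_true, and_true, commutatorElement_eq_one_iff_commute,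
    mul_inv_eq_one] at hE
  obtain ⟨hEL, hC, hFrel, hX1, hX2⟩ := hE
  have hK : ∀ i j, i ≠ j → SameSide i j → ∀ a, Commute w (ψ (trv (d + 4) F i j a)) := by
    intro i j hij hs c
    have := hgenK ((Subgroup.centralizer {w}).comap ψ) (fun l hl => by
      rw [Subgroup.mem_comap, Subgroup.mem_centralizer_singleton_iff]; exact (hEL l hl).symm) i j hij hs c
    rw [Subgroup.mem_comap, Subgroup.mem_centralizer_singleton_iff] at this
    exact this.symm
  let Rel : OmRel d F G := ⟨ψ, w, sum_two_sq, hK, hC, hFrel, hX_of_rels ψ w hK hX1 hX2⟩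
  let v : Fin (a + 1) → Om (d + 4) F :=
    Fin.lastCases (wM d F) fun i => lev (e (PresentedGroup.of i))
  have hvι : (FreeGroup.lift v).comp ι = (lev.comp e.toMonoidHom).comp (PresentedGroup.mk _) :=
    FreeGroup.ext_hom _ _ fun i => by simp [ι, v]; rfl
  have hvW : ∀ g, FreeGroup.lift v (ι (W g)) = lev g := by
    intro g
    rw [← MonoidHom.comp_apply, hvι, MonoidHom.comp_apply, hW, MonoidHom.comp_apply]
    exact congrArg lev (e.apply_symm_apply g)
  have hvR : ∀ q ∈ (↑R : Set (FreeGroup (Fin (a + 1)))), FreeGroup.lift v q = 1 := by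
    intro q hq
    simp only [R, Finset.coe_union, Set.mem_union, Finset.mem_coe, Finset.mem_image, List.mem_toFinset] at hq
    rcases hq with ⟨s, hs, rfl⟩ | hq
    · rw [← MonoidHom.comp_apply, hvι, MonoidHom.comp_apply, PresentedGroup.one_of_mem hs, map_one]
    · have := List.mem_map_of_mem (f := FreeGroup.lift v) hq
      rw [map_extraRels, show (fun g => FreeGroup.lift v (ι (W g))) = fun g => lev g from funext hvW,
        FreeGroup.lift_apply_of, show v (Fin.last a) = wM d F from Fin.lastCases_last] at this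
      exact model_rels L hmem _ this
  let ρ : G →* Om (d + 4) F := PresentedGroup.toGroup hvR
  have hρ : ∀ q, ρ (π q) = FreeGroup.lift v q := by
    have : ρ.comp π = FreeGroup.lift v := FreeGroup.ext_hom _ _ fun i => by
      rw [MonoidHom.comp_apply, FreeGroup.lift_apply_of]; exact PresentedGroup.toGroup.of hvR
    exact fun q => DFunLike.congr_fun this q
  have hψ : ∀ g, ρ (Rel.ψ g) = lev g := fun g => by
    show ρ (ψ g) = _
    rw [hψW, hρ, hvW]
  have hw : ρ Rel.w = wM d F := by
    show ρ w = _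
    rw [hwdef, hρ, FreeGroup.lift_apply_of]; exact Fin.lastCases_last
  have hgen : Subgroup.closure (Set.range Rel.ψ ∪ {Rel.w}) = ⊤ := by
    refine eq_top_iff.2 ((PresentedGroup.closure_range_of _).ge.trans ((Subgroup.closure_le _).2 ?_))
    rintro _ ⟨x, rfl⟩
    induction x using Fin.lastCases with
    | last => exact Subgroup.subset_closure (Or.inr rfl)
    | cast i =>
      refine Subgroup.subset_closure (Or.inl ⟨e (PresentedGroup.of i), ?_⟩)
      show PresentedGroup.toGroup hrelι (e.symm (e (PresentedGroup.of i))) = _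
      rw [e.symm_apply_apply, PresentedGroup.toGroup.of]
      simp [π, ι]
      rfl
  have hrange : ρ.range = EG (qPlus (F := F) (d + 4)) :=
    le_antisymm (Rel.range_le_EG ρ hψ hw hgen) (Rel.EG_le_range ρ hψ hw)
  exact ⟨(MonoidHom.ofInjective (Rel.rho_injective ρ hψ hw hgen)).trans (MulEquiv.subgroupCongr hrange)⟩

theorem HasPres.iso {a r : ℕ} {G H : Type*} [Group G] [Group H] (h : HasPres a r G) (f : G ≃* H) :
    HasPres a r H := by
  obtain ⟨rels, hc, ⟨e⟩⟩ := h
  exact ⟨rels, hc, ⟨e.trans f⟩⟩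

/-- The presentations of the full group. -/
theorem hasPres_EG_eight (d : ℕ) :
    HasPres 8 31 (EG (qPlus (F := F) (d + 4))) ∧ (d ≤ 1 → HasPres 8 29 (EG (qPlus (F := F) (d + 4)))) := by
  obtain ⟨L, ⟨hL4, hL2⟩, hmem, hgen⟩ := exists_kgens (F := F) d
  match d, L, hL4, hL2, hmem, hgen with
  | 0, L, hL4, _, hmem, hgen =>
    have h := ((hasPres_EG (hasPres_four (F := F)) L hmem hgen).pad.pad.pad)
    exact ⟨h.mono (by omega), fun _ => h.mono (by omega)⟩
  | 1, L, hL4, _, hmem, hgen =>
    have h := ((hasPres_EG (hasPres_five (F := F)) L hmem hgen).pad.pad)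
    exact ⟨h.mono (by omega), fun _ => h.mono (by omega)⟩
  | k + 2, L, _, hL2, hmem, hgen =>
    have := hL2 (by omega)
    have h := ((hasPres_EG (hasPres_big (F := F) (k := k + 2) (by omega)) L hmem hgen).pad.pad.pad)
    exact ⟨h.mono (by omega), fun h' => absurd h' (by omega)⟩

theorem five_le_finrank {m : ℕ} (hm : 4 ≤ m) : 5 ≤ finrank F (Vo m F) := by
  rw [Module.finrank_fintype_fun_eq_card]; simp; omega

/-- A group presentation of `EG` gives one of `PΩ`. -/
theorem hasPres_pOmega {a r m : ℕ} (hm : 4 ≤ m) (h : HasPres a r (EG (qPlus (F := F) m))) :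
    HasPres a (r + 1) (Cfsg.POmega F (Cfsg.quadFormPlus m F)) := by
  have h5 := five_le_finrank (F := F) hm
  have hQ := qPlus_nondeg (F := F) m
  classical
  obtain ⟨c, hc⟩ : ∃ c, Subgroup.normalClosure {c} = Subgroup.center (EG (qPlus (F := F) m)) := by
    by_cases hall : ∀ z ∈ Subgroup.center (EG (qPlus (F := F) m)), z = 1
    · exact ⟨1, le_antisymm (Subgroup.normalClosure_le_normal (Set.singleton_subset_iff.2 (one_mem _)))
        fun z hz => by rw [hall z hz]; exact one_mem _⟩
    · push Not at hall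
      obtain ⟨c, hc, hc1⟩ := hall
      refine ⟨c, le_antisymm (Subgroup.normalClosure_le_normal (Set.singleton_subset_iff.2 hc)) fun z hz => ?_⟩
      have hone : ∀ y : EG (qPlus (F := F) m), (∀ x, y.1.1 x = x) → y = 1 := fun y hy =>
        Subtype.ext (orth_ext hy)
      rcases (mem_center_EG_iff hQ h5 z).1 hz with h1 | h1
      · rw [hone z h1]; exact one_mem _
      rcases (mem_center_EG_iff hQ h5 c).1 hc with h2 | h2
      · exact absurd (hone c h2) hc1
      have : z = c := Subtype.ext (orth_ext fun x => by rw [h1, h2])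
      rw [this]; exact Subgroup.subset_normalClosure rfl
  exact HasPres.iso (h.quotient _ c hc)
    (pOmegaEquiv (qPlus m) hQ h5 (Cfsg.Agent.Lib.OrthStd.quadFormPlus_eq m)).symm

theorem hasPres_omega {a r m : ℕ} (hm : 4 ≤ m) (h : HasPres a r (EG (qPlus (F := F) m))) :
    HasPres a r (Cfsg.Omega F (Cfsg.quadFormPlus m F)) :=
  HasPres.iso h ((omegaEquiv (qPlus m) (Cfsg.Agent.Lib.OrthStd.quadFormPlus_eq m)).trans
    (MulEquiv.subgroupCongr (commutator_eq_EG (qPlus_nondeg _) (five_le_finrank hm)))).symm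

end Cfsg.Agent.Lib.ShortPresOm
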