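import Cfsg.Agent.Lib.ShortPresOm.Cells
import Cfsg.Agent.Lib.OrthOmega.Simple
import Cfsg.Agent.Lib.ChevClassical.Siegel

/-!
# Short presentations of orthogonal groups, part 9

The matrices of type `D`: Levi subgroup, torus, both radicals and the Weyl element as isometries of
the hyperbolic form.
-/

set_option autoImplicit false
set_option linter.unusedSectionVars false

namespace Cfsg.Agent.Lib.ShortPresOm

open Matrix QuadraticMap Cfsg.Agent.Lib.Schur.SteinbergSLn Cfsg.Agent.Lib.ShortPresSp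
open Cfsg.Agent.Lib.Forms Cfsg.Agent.Lib.OrthOmega

/-- The hyperbolic space. -/
abbrev Vo (m : ℕ) (F : Type*) := Fin m ⊕ Fin m → F

/-- The orthogonal group of the hyperbolic form. -/
abbrev Om (m : ℕ) (F : Type*) [Field F] : Subgroup (Vo m F ≃ₗ[F] Vo m F) :=
  orth (qPlus (F := F) m)

variable {m : ℕ} {F : Type*} [Field F]

/-- The first coordinates. -/
def xc (v : Vo m F) : Fin m → F := fun i => v (Sum.inl i)

/-- The second coordinates. -/
def yc (v : Vo m F) : Fin m → F := fun i => v (Sum.inr i)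

theorem elim_eq {v : Vo m F} {a b : Fin m → F} (h1 : xc v = a) (h2 : yc v = b) :
    v = Sum.elim a b := by
  subst h1; subst h2; funext i; rcases i with i | i <;> rfl

theorem qPlus_dot (v : Vo m F) : qPlus (F := F) m v = xc v ⬝ᵥ yc v := qPlus_apply m v

/-- An isometry from two inverse linear maps. -/
def mkO (f g : Vo m F →ₗ[F] Vo m F) (h1 : ∀ v, f (g v) = v) (h2 : ∀ v, g (f v) = v)
    (hq : ∀ v, qPlus (F := F) m (f v) = qPlus (F := F) m v) : Om m F :=
  ⟨LinearEquiv.ofLinearMap f g (LinearMap.ext h1) (LinearMap.ext h2), hq⟩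

theorem mkO_apply (f g : Vo m F →ₗ[F] Vo m F) (h1 : ∀ v, f (g v) = v) (h2 : ∀ v, g (f v) = v)
    (hq : ∀ v, qPlus (F := F) m (f v) = qPlus (F := F) m v) (v : Vo m F) :
    (mkO f g h1 h2 hq).1 v = f v := rfl

/-- A block diagonal map. -/
def blockMap (A B : Matrix (Fin m) (Fin m) F) : Vo m F →ₗ[F] Vo m F where
  toFun v := Sum.elim (A *ᵥ xc v) (B *ᵥ yc v)
  map_add' u v := by
    funext i
    rcases i with i | i
    · show (A *ᵥ (xc u + xc v)) i = _
      rw [mulVec_add]; rfl
    · show (B *ᵥ (yc u + yc v)) i = _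
      rw [mulVec_add]; rfl
  map_smul' c v := by
    funext i
    rcases i with i | i
    · show (A *ᵥ (c • xc v)) i = _
      rw [mulVec_smul]; rfl
    · show (B *ᵥ (c • yc v)) i = _
      rw [mulVec_smul]; rfl

theorem blockMap_comp (A B A' B' : Matrix (Fin m) (Fin m) F) (v : Vo m F) :
    blockMap A B (blockMap A' B' v) = blockMap (A * A') (B * B') v := by
  show Sum.elim (A *ᵥ (A' *ᵥ xc v)) (B *ᵥ (B' *ᵥ yc v)) = _
  rw [mulVec_mulVec, mulVec_mulVec]; rfl

theorem blockMap_one (v : Vo m F) : blockMap (1 : Matrix (Fin m) (Fin m) F) 1 v = v := by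
  show Sum.elim ((1 : Matrix (Fin m) (Fin m) F) *ᵥ xc v) (1 *ᵥ yc v) = v
  rw [one_mulVec, one_mulVec]; exact (elim_eq rfl rfl).symm

theorem blockMap_Q (A B : Matrix (Fin m) (Fin m) F) (h : Aᵀ * B = 1) (v : Vo m F) :
    qPlus (F := F) m (blockMap A B v) = qPlus (F := F) m v := by
  rw [qPlus_dot, qPlus_dot]
  show (A *ᵥ xc v) ⬝ᵥ (B *ᵥ yc v) = _
  rw [dotProduct_mulVec, ← vecMul_transpose, vecMul_vecMul, h, vecMul_one]

/-- The Levi subgroup. -/
def lev : Matrix.SpecialLinearGroup (Fin m) F →* Om m F :=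
  MonoidHom.mk' (fun g => mkO (blockMap g.1 (tinv g).1) (blockMap (g⁻¹).1 (tinv g⁻¹).1)
      (fun v => by
        rw [blockMap_comp, ← Matrix.SpecialLinearGroup.coe_mul, ← Matrix.SpecialLinearGroup.coe_mul,
          ← map_mul, mul_inv_cancel, map_one, Matrix.SpecialLinearGroup.coe_one, blockMap_one])
      (fun v => by
        rw [blockMap_comp, ← Matrix.SpecialLinearGroup.coe_mul, ← Matrix.SpecialLinearGroup.coe_mul,
          ← map_mul, inv_mul_cancel, map_one, Matrix.SpecialLinearGroup.coe_one, blockMap_one])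
      (blockMap_Q _ _ (by
        rw [tinv_coe, ← transpose_mul, ← Matrix.SpecialLinearGroup.coe_mul, inv_mul_cancel,
          Matrix.SpecialLinearGroup.coe_one, transpose_one]))) fun g h => orth_ext fun v => by
    show blockMap (g * h).1 (tinv (g * h)).1 v = blockMap g.1 (tinv g).1 (blockMap h.1 (tinv h).1 v)
    rw [blockMap_comp, map_mul, Matrix.SpecialLinearGroup.coe_mul, Matrix.SpecialLinearGroup.coe_mul]

theorem lev_apply (g : Matrix.SpecialLinearGroup (Fin m) F) (v : Vo m F) :
    (lev g).1 v = Sum.elim (g.1 *ᵥ xc v) ((tinv g).1 *ᵥ yc v) := rfl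

theorem lev_injective : Function.Injective (lev : Matrix.SpecialLinearGroup (Fin m) F →* Om m F) := by
  intro g h e
  refine Subtype.ext (Matrix.ext_of_mulVec_single fun j => ?_)
  have := congrArg (fun o : Om m F => o.1 (Sum.elim (Pi.single j 1) 0)) e
  simp only [lev_apply] at this
  exact congrArg xc this

/-- The diagonal elements. -/
def tor (v : Fin m → Fˣ) : Om m F :=
  mkO (blockMap (diagonal fun i => (v i : F)) (diagonal fun i => (((v i)⁻¹ : Fˣ) : F)))
    (blockMap (diagonal fun i => (((v i)⁻¹ : Fˣ) : F)) (diagonal fun i => (v i : F)))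
    (fun u => by
      rw [blockMap_comp, diagonal_mul_diagonal, diagonal_mul_diagonal]
      simp [blockMap_one])
    (fun u => by
      rw [blockMap_comp, diagonal_mul_diagonal, diagonal_mul_diagonal]
      simp [blockMap_one])
    (blockMap_Q _ _ (by rw [diagonal_transpose, diagonal_mul_diagonal]; simp))

theorem tor_apply (c : Fin m → Fˣ) (v : Vo m F) :
    (tor c).1 v = Sum.elim ((diagonal fun i => (c i : F)) *ᵥ xc v)
      ((diagonal fun i => (((c i)⁻¹ : Fˣ) : F)) *ᵥ yc v) := rfl

/-- The upper radical map. -/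
def radMap (A : Matrix (Fin m) (Fin m) F) : Vo m F →ₗ[F] Vo m F where
  toFun v := Sum.elim (xc v + A *ᵥ yc v) (yc v)
  map_add' u v := by
    funext i
    rcases i with i | i
    · show (xc u + xc v + A *ᵥ (yc u + yc v)) i = (xc u + A *ᵥ yc u) i + (xc v + A *ᵥ yc v) i
      rw [mulVec_add]; simp only [Pi.add_apply]; ring
    · rfl
  map_smul' c v := by
    funext i
    rcases i with i | i
    · show (c • xc v + A *ᵥ (c • yc v)) i = c * (xc v + A *ᵥ yc v) i
      rw [mulVec_smul]; simp only [Pi.add_apply, Pi.smul_apply, smul_eq_mul]; ring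
    · rfl

theorem radMap_comp (A B : Matrix (Fin m) (Fin m) F) (v : Vo m F) :
    radMap A (radMap B v) = radMap (A + B) v := by
  show Sum.elim (xc v + B *ᵥ yc v + A *ᵥ yc v) (yc v) = Sum.elim (xc v + (A + B) *ᵥ yc v) (yc v)
  rw [add_mulVec]; congr 1; abel

/-- The lower radical map. -/
def dradMap (A : Matrix (Fin m) (Fin m) F) : Vo m F →ₗ[F] Vo m F where
  toFun v := Sum.elim (xc v) (yc v + A *ᵥ xc v)
  map_add' u v := by
    funext i
    rcases i with i | i
    · rfl
    · show (yc u + yc v + A *ᵥ (xc u + xc v)) i = (yc u + A *ᵥ xc u) i + (yc v + A *ᵥ xc v) i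
      rw [mulVec_add]; simp only [Pi.add_apply]; ring
  map_smul' c v := by
    funext i
    rcases i with i | i
    · rfl
    · show (c • yc v + A *ᵥ (c • xc v)) i = c * (yc v + A *ᵥ xc v) i
      rw [mulVec_smul]; simp only [Pi.add_apply, Pi.smul_apply, smul_eq_mul]; ring

theorem dradMap_comp (A B : Matrix (Fin m) (Fin m) F) (v : Vo m F) :
    dradMap A (dradMap B v) = dradMap (A + B) v := by
  show Sum.elim (xc v) (yc v + B *ᵥ xc v + A *ᵥ xc v) = Sum.elim (xc v) (yc v + (A + B) *ᵥ xc v)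
  rw [add_mulVec]; congr 1; abel

theorem alt_dot {A : Matrix (Fin m) (Fin m) F} (hA : IsAlt A) (y : Fin m → F) :
    (A *ᵥ y) ⬝ᵥ y = 0 := by
  refine alt_induction (P := fun A => (A *ᵥ y) ⬝ᵥ y = 0) (by simp)
    (fun A B ha hb => by rw [add_mulVec, add_dotProduct, ha, hb, add_zero]) (fun p q _ t => ?_) hA
  rw [E, wed, sub_mulVec, vecMulVec_mulVec, vecMulVec_mulVec, sub_dotProduct]
  simp [op_smul_eq_smul]

theorem isAlt_neg {A : Matrix (Fin m) (Fin m) F} (hA : IsAlt A) : IsAlt (-A) :=
  fun r => ⟨by simp [(hA r).1], fun s => by simp [(hA r).2 s]⟩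

/-- The upper radical. -/
def radO (A : Matrix (Fin m) (Fin m) F) (hA : IsAlt A) : Om m F :=
  mkO (radMap A) (radMap (-A))
    (fun v => by
      rw [radMap_comp, add_neg_cancel]
      show Sum.elim (xc v + (0 : Matrix (Fin m) (Fin m) F) *ᵥ yc v) (yc v) = v
      rw [zero_mulVec, add_zero]; exact (elim_eq rfl rfl).symm)
    (fun v => by
      rw [radMap_comp, neg_add_cancel]
      show Sum.elim (xc v + (0 : Matrix (Fin m) (Fin m) F) *ᵥ yc v) (yc v) = v
      rw [zero_mulVec, add_zero]; exact (elim_eq rfl rfl).symm)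
    fun v => by
      rw [qPlus_dot, qPlus_dot]
      show (xc v + A *ᵥ yc v) ⬝ᵥ yc v = _
      rw [add_dotProduct, alt_dot hA, add_zero]

theorem radO_apply (A : Matrix (Fin m) (Fin m) F) (hA : IsAlt A) (v : Vo m F) :
    (radO A hA).1 v = Sum.elim (xc v + A *ᵥ yc v) (yc v) := rfl

/-- The lower radical. -/
def dradO (A : Matrix (Fin m) (Fin m) F) (hA : IsAlt A) : Om m F :=
  mkO (dradMap A) (dradMap (-A))
    (fun v => by
      rw [dradMap_comp, add_neg_cancel]
      show Sum.elim (xc v) (yc v + (0 : Matrix (Fin m) (Fin m) F) *ᵥ xc v) = v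
      rw [zero_mulVec, add_zero]; exact (elim_eq rfl rfl).symm)
    (fun v => by
      rw [dradMap_comp, neg_add_cancel]
      show Sum.elim (xc v) (yc v + (0 : Matrix (Fin m) (Fin m) F) *ᵥ xc v) = v
      rw [zero_mulVec, add_zero]; exact (elim_eq rfl rfl).symm)
    fun v => by
      rw [qPlus_dot, qPlus_dot]
      show xc v ⬝ᵥ (yc v + A *ᵥ xc v) = _
      rw [dotProduct_add, dotProduct_comm _ (A *ᵥ xc v), alt_dot hA, add_zero]

theorem dradO_apply (A : Matrix (Fin m) (Fin m) F) (hA : IsAlt A) (v : Vo m F) :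
    (dradO A hA).1 v = Sum.elim (xc v) (yc v + A *ᵥ xc v) := rfl

theorem radO_mul {A B : Matrix (Fin m) (Fin m) F} (hA : IsAlt A) (hB : IsAlt B) :
    radO A hA * radO B hB = radO (A + B) (hA.add hB) :=
  orth_ext fun v => radMap_comp A B v

theorem lev_radO (g : Matrix.SpecialLinearGroup (Fin m) F) {A : Matrix (Fin m) (Fin m) F}
    (hA : IsAlt A) : lev g * radO A hA * (lev g)⁻¹ = radO (g.1 * A * g.1ᵀ) (isAlt_conj _ hA) := by
  rw [mul_inv_eq_iff_eq_mul]
  refine orth_ext fun v => ?_
  show Sum.elim (g.1 *ᵥ (xc v + A *ᵥ yc v)) ((tinv g).1 *ᵥ yc v) =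
    Sum.elim (g.1 *ᵥ xc v + (g.1 * A * g.1ᵀ) *ᵥ ((tinv g).1 *ᵥ yc v)) ((tinv g).1 *ᵥ yc v)
  rw [mulVec_add, mulVec_mulVec, mulVec_mulVec, Matrix.mul_assoc (g.1 * A), tinv_coe, ← transpose_mul,
    ← Matrix.SpecialLinearGroup.coe_mul, inv_mul_cancel, Matrix.SpecialLinearGroup.coe_one,
    transpose_one, mul_one]

theorem lev_dradO (g : Matrix.SpecialLinearGroup (Fin m) F) {A : Matrix (Fin m) (Fin m) F}
    (hA : IsAlt A) :
    lev (tinv g) * dradO A hA * (lev (tinv g))⁻¹ = dradO (g.1 * A * g.1ᵀ) (isAlt_conj _ hA) := by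
  rw [mul_inv_eq_iff_eq_mul]
  refine orth_ext fun v => ?_
  show Sum.elim ((tinv g).1 *ᵥ xc v) ((tinv (tinv g)).1 *ᵥ (yc v + A *ᵥ xc v)) =
    Sum.elim ((tinv g).1 *ᵥ xc v)
      ((tinv (tinv g)).1 *ᵥ yc v + (g.1 * A * g.1ᵀ) *ᵥ ((tinv g).1 *ᵥ xc v))
  rw [tinv_tinv, mulVec_add, mulVec_mulVec, mulVec_mulVec, Matrix.mul_assoc (g.1 * A), tinv_coe,
    ← transpose_mul, ← Matrix.SpecialLinearGroup.coe_mul, inv_mul_cancel,
    Matrix.SpecialLinearGroup.coe_one, transpose_one, mul_one]

theorem E_mulVec (p q : Fin m) (t : F) (v : Fin m → F) (j : Fin m) :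
    (E p q t *ᵥ v) j = (if j = p then t * v q else 0) - (if j = q then t * v p else 0) := by
  rw [E, wed, sub_mulVec, vecMulVec_mulVec, vecMulVec_mulVec]
  simp [op_smul_eq_smul, Pi.single_apply]
  split_ifs <;> ring

section weyl

variable {d : ℕ}

/-- The Weyl map of `e₀ + e₁`. -/
def weylMap (d : ℕ) (F : Type*) [Field F] : Vo (d + 4) F →ₗ[F] Vo (d + 4) F where
  toFun v := Sum.elim
    (fun i => if i = 0 then v (.inr 1) else if i = 1 then -v (.inr 0) else v (.inl i))
    (fun i => if i = 0 then v (.inl 1) else if i = 1 then -v (.inl 0) else v (.inr i))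
  map_add' u v := by
    funext i
    rcases i with i | i <;> simp <;> split_ifs <;> ring
  map_smul' c v := by
    funext i
    rcases i with i | i <;> simp <;> split_ifs <;> ring

/-- The inverse Weyl map. -/
def weylInv (d : ℕ) (F : Type*) [Field F] : Vo (d + 4) F →ₗ[F] Vo (d + 4) F where
  toFun v := Sum.elim
    (fun i => if i = 0 then -v (.inr 1) else if i = 1 then v (.inr 0) else v (.inl i))
    (fun i => if i = 0 then -v (.inl 1) else if i = 1 then v (.inl 0) else v (.inr i))
  map_add' u v := by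
    funext i
    rcases i with i | i <;> simp <;> split_ifs <;> ring
  map_smul' c v := by
    funext i
    rcases i with i | i <;> simp <;> split_ifs <;> ring

/-- The Weyl element. -/
def wM (d : ℕ) (F : Type*) [Field F] : Om (d + 4) F :=
  mkO (weylMap d F) (weylInv d F)
    (fun v => by
      funext i
      rcases i with i | i <;>
      · show (if i = 0 then _ else if i = 1 then _ else _) = _
        rcases eq_or_ne i 0 with rfl | h0
        · simp [weylInv, n01.symm]
        · rcases eq_or_ne i 1 with rfl | h1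
          · simp [weylInv, n01.symm]
          · simp [weylInv, h0, h1])
    (fun v => by
      funext i
      rcases i with i | i <;>
      · show (if i = 0 then _ else if i = 1 then _ else _) = _
        rcases eq_or_ne i 0 with rfl | h0
        · simp [weylMap, n01.symm]
        · rcases eq_or_ne i 1 with rfl | h1
          · simp [weylMap, n01.symm]
          · simp [weylMap, h0, h1])
    fun v => by
      rw [qPlus_dot, qPlus_dot, dotProduct, dotProduct]
      have split : ∀ f : Fin (d + 4) → F,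
          ∑ i, f i = f 0 + f 1 + ∑ i ∈ Finset.univ \ {0, 1}, f i := by
        intro f
        rw [← Finset.sum_pair (f := f) n01]
        exact ((add_comm _ _).trans (Finset.sum_sdiff (Finset.subset_univ _))).symm
      rw [split, split]
      refine congrArg₂ (· + ·) ?_ (Finset.sum_congr rfl fun i hi => ?_)
      · simp [weylMap, xc, yc, n01.symm]
        ring
      · simp only [Finset.mem_sdiff, Finset.mem_insert, Finset.mem_singleton, not_or] at hi
        simp [weylMap, xc, yc, hi.2.1, hi.2.2]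

theorem wM_xc (v : Vo (d + 4) F) (i : Fin (d + 4)) :
    xc ((wM d F).1 v) i = if i = 0 then v (.inr 1) else if i = 1 then -v (.inr 0) else v (.inl i) := rfl

theorem wM_yc (v : Vo (d + 4) F) (i : Fin (d + 4)) :
    yc ((wM d F).1 v) i = if i = 0 then v (.inl 1) else if i = 1 then -v (.inl 0) else v (.inr i) := rfl

theorem ext_xy {g h : Om (d + 4) F} (hx : ∀ v i, xc (g.1 v) i = xc (h.1 v) i)
    (hy : ∀ v i, yc (g.1 v) i = yc (h.1 v) i) : g = h :=
  orth_ext fun v => funext fun i => by
    rcases i with i | i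
    · exact hx v i
    · exact hy v i

theorem mul_xc (g h : Om (d + 4) F) (v : Vo (d + 4) F) : (g * h).1 v = g.1 (h.1 v) := rfl

theorem lev_trv_x {i j : Fin (d + 4)} (h : i ≠ j) (a : F) (v : Vo (d + 4) F) (k : Fin (d + 4)) :
    xc ((lev (trv (d + 4) F i j a)).1 v) k = v (.inl k) + if k = i then a * v (.inl j) else 0 := by
  show ((trv (d + 4) F i j a).1 *ᵥ xc v) k = _
  rw [trv_coe h, add_mulVec, one_mulVec, Pi.add_apply, Matrix.single_mulVec]
  simp [xc, Function.update_apply]

theorem lev_trv_y {i j : Fin (d + 4)} (h : i ≠ j) (a : F) (v : Vo (d + 4) F) (k : Fin (d + 4)) :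
    yc ((lev (trv (d + 4) F i j a)).1 v) k = v (.inr k) + if k = j then -a * v (.inr i) else 0 := by
  show ((tinv (trv (d + 4) F i j a)).1 *ᵥ yc v) k = _
  rw [tinv_trv h, trv_coe h.symm, add_mulVec, one_mulVec, Pi.add_apply, Matrix.single_mulVec]
  simp [yc, Function.update_apply]

theorem lev_ntv_x {i k : Fin (d + 4)} (h : i ≠ k) (v : Vo (d + 4) F) (x : Fin (d + 4)) :
    xc ((lev (ntv i k)).1 v) x =
      if x = i then v (.inl k) else if x = k then -v (.inl i) else v (.inl x) := by
  show ((ntv i k : SLn d F).1 *ᵥ xc v) x = _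
  exact ntv_mulVec h (xc v) x

theorem lev_ntv_y {i k : Fin (d + 4)} (h : i ≠ k) (v : Vo (d + 4) F) (x : Fin (d + 4)) :
    yc ((lev (ntv i k)).1 v) x =
      if x = i then v (.inr k) else if x = k then -v (.inr i) else v (.inr x) := by
  show ((tinv (ntv i k : SLn d F)).1 *ᵥ yc v) x = _
  rw [tinv_ntv h]
  exact ntv_mulVec h (yc v) x

theorem wM_sq : wM d F * wM d F = lev (ntv 0 1 * ntv 0 1) := by
  rw [map_mul]
  refine ext_xy (fun v i => ?_) (fun v i => ?_)
  · rw [mul_xc, mul_xc, wM_xc, lev_ntv_x n01]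
    rcases eq_or_ne i 0 with rfl | h0
    · have := lev_ntv_x (F := F) n01 v (1 : Fin (d + 4))
      simp only [xc] at this
      have h := wM_yc v (1 : Fin (d + 4))
      simp only [yc] at h
      simp [this, h, n01.symm]
    rcases eq_or_ne i 1 with rfl | h1
    · have := lev_ntv_x (F := F) n01 v (0 : Fin (d + 4))
      simp only [xc] at this
      have h := wM_yc v (0 : Fin (d + 4))
      simp only [yc] at h
      simp [this, h, n01.symm]
    · have := lev_ntv_x (F := F) n01 v i
      simp only [xc] at this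
      have h := wM_xc v i
      simp only [xc] at h
      simp [this, h, h0, h1]
  · rw [mul_xc, mul_xc, wM_yc, lev_ntv_y n01]
    rcases eq_or_ne i 0 with rfl | h0
    · have := lev_ntv_y (F := F) n01 v (1 : Fin (d + 4))
      simp only [yc] at this
      have h := wM_xc v (1 : Fin (d + 4))
      simp only [xc] at h
      simp [this, h, n01.symm]
    rcases eq_or_ne i 1 with rfl | h1
    · have := lev_ntv_y (F := F) n01 v (0 : Fin (d + 4))
      simp only [yc] at this
      have h := wM_xc v (0 : Fin (d + 4))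
      simp only [xc] at h
      simp [this, h, n01.symm]
    · have := lev_ntv_y (F := F) n01 v i
      simp only [yc] at this
      have h := wM_yc v i
      simp only [yc] at h
      simp [this, h, h0, h1]

theorem wM_comm {i j : Fin (d + 4)} (hij : i ≠ j) (hs : SameSide i j) (a : F) :
    Commute (wM d F) (lev (trv (d + 4) F i j a)) := by
  refine ext_xy (fun v x => ?_) (fun v x => ?_)
  · rw [mul_xc, mul_xc, wM_xc, lev_trv_x hij]
    have h1 := lev_trv_y (F := F) hij a v (1 : Fin (d + 4))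
    have h0 := lev_trv_y (F := F) hij a v (0 : Fin (d + 4))
    have hx := lev_trv_x (F := F) hij a v x
    have w1 := wM_xc v j
    have w2 := wM_xc v x
    simp only [xc, yc] at h1 h0 hx w1 w2
    rw [h1, h0, hx, w1, w2]
    by_cases hi : (i : ℕ) < 2
    · have hj := hs.1 hi
      have hd : (i = 0 ∧ j = 1) ∨ (i = 1 ∧ j = 0) := by
        have v1 : ((1 : Fin (d + 4)) : ℕ) = 1 := by simp
        have v0 : ((0 : Fin (d + 4)) : ℕ) = 0 := rfl
        have : (i : ℕ) ≠ j := fun e => hij (Fin.ext e)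
        simp only [Fin.ext_iff]
        omega
      rcases hd with ⟨rfl, rfl⟩ | ⟨rfl, rfl⟩
      · skip
        rcases eq_or_ne x 0 with rfl | x0
        · simp [n01, n01.symm] <;> ring
        · rcases eq_or_ne x 1 with rfl | x1
          · simp [n01, n01.symm]
          · simp [x0, x1]
      · skip
        rcases eq_or_ne x 0 with rfl | x0
        · simp [n01, n01.symm]
        · rcases eq_or_ne x 1 with rfl | x1
          · simp [n01, n01.symm] <;> ring
          · simp [x0, x1]
    · obtain ⟨i0, i1⟩ := big_ne hi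
      obtain ⟨j0, j1⟩ := big_ne (fun e => hi (hs.2 e))
      rcases eq_or_ne x 0 with rfl | x0
      · simp [i0.symm, j1.symm]
      · rcases eq_or_ne x 1 with rfl | x1
        · simp [i1.symm, j0.symm, n01.symm]
        · simp [x0, x1, j0, j1]
  · rw [mul_xc, mul_xc, wM_yc, lev_trv_y hij]
    have h1 := lev_trv_x (F := F) hij a v (1 : Fin (d + 4))
    have h0 := lev_trv_x (F := F) hij a v (0 : Fin (d + 4))
    have hx := lev_trv_y (F := F) hij a v x
    have w1 := wM_yc v i
    have w2 := wM_yc v x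
    simp only [xc, yc] at h1 h0 hx w1 w2
    rw [h1, h0, hx, w1, w2]
    by_cases hi : (i : ℕ) < 2
    · have hj := hs.1 hi
      have hd : (i = 0 ∧ j = 1) ∨ (i = 1 ∧ j = 0) := by
        have v1 : ((1 : Fin (d + 4)) : ℕ) = 1 := by simp
        have v0 : ((0 : Fin (d + 4)) : ℕ) = 0 := rfl
        have : (i : ℕ) ≠ j := fun e => hij (Fin.ext e)
        simp only [Fin.ext_iff]
        omega
      rcases hd with ⟨rfl, rfl⟩ | ⟨rfl, rfl⟩
      · skip
        rcases eq_or_ne x 0 with rfl | x0
        · simp [n01, n01.symm]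
        · rcases eq_or_ne x 1 with rfl | x1
          · simp [n01, n01.symm] <;> ring
          · simp [x0, x1]
      · skip
        rcases eq_or_ne x 0 with rfl | x0
        · simp [n01, n01.symm] <;> ring
        · rcases eq_or_ne x 1 with rfl | x1
          · simp [n01, n01.symm]
          · simp [x0, x1]
    · obtain ⟨i0, i1⟩ := big_ne hi
      obtain ⟨j0, j1⟩ := big_ne (fun e => hi (hs.2 e))
      rcases eq_or_ne x 0 with rfl | x0
      · simp [i1.symm, j0.symm]
      · rcases eq_or_ne x 1 with rfl | x1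
        · simp [i0.symm, j1.symm, n01.symm]
        · simp [x0, x1, i0, i1]

/-- The model root element. -/
theorem wM_trv21 (t : F) :
    wM d F * lev (trv (d + 4) F 2 1 (-t)) = radO (E 0 2 t) (isAlt_E _ _ _) * wM d F := by
  refine ext_xy (fun v x => ?_) (fun v x => ?_)
  · rw [mul_xc, mul_xc, wM_xc, radO_apply]
    show _ = xc ((wM d F).1 v) x + (E 0 2 t *ᵥ yc ((wM d F).1 v)) x
    rw [wM_xc, E_mulVec, wM_yc, wM_yc]
    have h1 := lev_trv_y (F := F) (n12 (d := d)).symm (-t) v 1
    have h0 := lev_trv_y (F := F) (n12 (d := d)).symm (-t) v 0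
    have hx := lev_trv_x (F := F) (n12 (d := d)).symm (-t) v x
    simp only [xc, yc] at h1 h0 hx
    rw [h1, h0, hx]
    rcases eq_or_ne x 0 with rfl | x0
    · simp [n01, n02, n02.symm, n12.symm, n01.symm]
    rcases eq_or_ne x 1 with rfl | x1
    · simp [n01, n01.symm, n12, n02.symm]
    rcases eq_or_ne x 2 with rfl | x2
    · simp [x0, x1]
    · simp [x0, x1, x2]
  · rw [mul_xc, mul_xc, wM_yc, radO_apply]
    show _ = yc ((wM d F).1 v) x
    rw [wM_yc]
    have h1 := lev_trv_x (F := F) (n12 (d := d)).symm (-t) v 1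
    have h0 := lev_trv_x (F := F) (n12 (d := d)).symm (-t) v 0
    have hx := lev_trv_y (F := F) (n12 (d := d)).symm (-t) v x
    simp only [xc, yc] at h1 h0 hx
    rw [h1, h0, hx]
    rcases eq_or_ne x 0 with rfl | x0
    · simp [n12, n01]
    rcases eq_or_ne x 1 with rfl | x1
    · simp [n01.symm, n02]
    · simp [x0, x1]

/-- The model dual root element. -/
theorem wM_trv12 (t : F) :
    wM d F * lev (trv (d + 4) F 1 2 t) = dradO (E 0 2 t) (isAlt_E _ _ _) * wM d F := by
  refine ext_xy (fun v x => ?_) (fun v x => ?_)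
  · rw [mul_xc, mul_xc, wM_xc, dradO_apply]
    show _ = xc ((wM d F).1 v) x
    rw [wM_xc]
    have h1 := lev_trv_y (F := F) (n12 (d := d)) t v 1
    have h0 := lev_trv_y (F := F) (n12 (d := d)) t v 0
    have hx := lev_trv_x (F := F) (n12 (d := d)) t v x
    simp only [xc, yc] at h1 h0 hx
    rw [h1, h0, hx]
    rcases eq_or_ne x 0 with rfl | x0
    · simp [n12, n01]
    rcases eq_or_ne x 1 with rfl | x1
    · simp [n01.symm, n02]
    · simp [x0, x1]
  · rw [mul_xc, mul_xc, wM_yc, dradO_apply]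
    show _ = yc ((wM d F).1 v) x + (E 0 2 t *ᵥ xc ((wM d F).1 v)) x
    rw [wM_yc, E_mulVec, wM_xc, wM_xc]
    have h1 := lev_trv_x (F := F) (n12 (d := d)) t v 1
    have h0 := lev_trv_x (F := F) (n12 (d := d)) t v 0
    have hx := lev_trv_y (F := F) (n12 (d := d)) t v x
    simp only [xc, yc] at h1 h0 hx
    rw [h1, h0, hx]
    rcases eq_or_ne x 0 with rfl | x0
    · simp [n01, n02, n02.symm, n12.symm, n01.symm]
    rcases eq_or_ne x 1 with rfl | x1
    · simp [n01, n01.symm, n12, n02.symm]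
    rcases eq_or_ne x 2 with rfl | x2
    · simp [x0, x1]
    · simp [x0, x1, x2]

theorem lev_h2_x {p q : Fin (d + 4)} (h : p ≠ q) (l : Fˣ) (v : Vo (d + 4) F) (k : Fin (d + 4)) :
    xc ((lev (h2 p q l)).1 v) k = h2v p q l k * v (.inl k) := by
  show ((h2 p q l : SLn d F).1 *ᵥ xc v) k = _
  rw [h2_coe h, mulVec_diagonal]; rfl

theorem lev_h2_y {p q : Fin (d + 4)} (h : p ≠ q) (l : Fˣ) (v : Vo (d + 4) F) (k : Fin (d + 4)) :
    yc ((lev (h2 p q l)).1 v) k = (h2v p q l k)⁻¹ * v (.inr k) := by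
  have hd : ∀ x, h2v (F := F) p q l x ≠ 0 := fun x => by
    simp only [h2v]; split_ifs <;> simp
  have e : (tinv (h2 p q l : SLn d F)).1 = diagonal fun x => (h2v p q l x)⁻¹ := by
    rw [tinv_coe]
    have h1 := coe_mul_inv' (h2 (F := F) p q l)
    rw [h2_coe h] at h1
    ext a b
    rw [transpose_apply]
    have h2' := congrFun (congrFun h1 b) a
    rw [diagonal_mul] at h2'
    change h2v p q l b * (h2 p q l : SLn d F)⁻¹.1 b a = _ at h2'
    rcases eq_or_ne a b with rfl | hab
    · rw [Matrix.one_apply_eq] at h2'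
      rw [diagonal_apply_eq]
      exact eq_inv_of_mul_eq_one_right h2'
    · rw [Matrix.one_apply_ne hab.symm] at h2'
      rw [diagonal_apply_ne _ hab]
      exact (mul_eq_zero.1 h2').resolve_left (hd b)
  show ((tinv (h2 p q l : SLn d F)).1 *ᵥ yc v) k = _
  rw [e, mulVec_diagonal]; rfl

theorem wM_h2 (l : Fˣ) : wM d F * lev (h2 2 1 l) = tor (OmRel.tw d l) * wM d F := by
  refine ext_xy (fun v x => ?_) (fun v x => ?_)
  · rw [mul_xc, mul_xc, wM_xc, tor_apply]
    show _ = ((diagonal fun i => (OmRel.tw d l i : F)) *ᵥ xc ((wM d F).1 v)) x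
    rw [mulVec_diagonal, wM_xc]
    have h1 := lev_h2_y (F := F) (n12 (d := d)).symm l v 1
    have h0 := lev_h2_y (F := F) (n12 (d := d)).symm l v 0
    have hx := lev_h2_x (F := F) (n12 (d := d)).symm l v x
    simp only [xc, yc] at h1 h0 hx
    rw [h1, h0, hx]
    rcases eq_or_ne x 0 with rfl | x0
    · simp [h2v, OmRel.tw, n12]
    rcases eq_or_ne x 1 with rfl | x1
    · simp [h2v, OmRel.tw, n01, n01.symm, n02, n12]
    rcases eq_or_ne x 2 with rfl | x2
    · simp [h2v, OmRel.tw, x0, x1]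
    · simp [h2v, OmRel.tw, x0, x1, x2]
  · rw [mul_xc, mul_xc, wM_yc, tor_apply]
    show _ = ((diagonal fun i => (((OmRel.tw d l i)⁻¹ : Fˣ) : F)) *ᵥ yc ((wM d F).1 v)) x
    rw [mulVec_diagonal, wM_yc]
    have h1 := lev_h2_x (F := F) (n12 (d := d)).symm l v 1
    have h0 := lev_h2_x (F := F) (n12 (d := d)).symm l v 0
    have hx := lev_h2_y (F := F) (n12 (d := d)).symm l v x
    simp only [xc, yc] at h1 h0 hx
    rw [h1, h0, hx]
    rcases eq_or_ne x 0 with rfl | x0
    · simp [h2v, OmRel.tw, n12]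
    rcases eq_or_ne x 1 with rfl | x1
    · simp [h2v, OmRel.tw, n01, n01.symm, n02, n12]
    rcases eq_or_ne x 2 with rfl | x2
    · simp [h2v, OmRel.tw, x0, x1]
    · simp [h2v, OmRel.tw, x0, x1, x2]

theorem wM_F : wM d F = lev (ntv 1 2) * (wM d F * lev ((ntv 2 1)⁻¹) * (wM d F)⁻¹) *
    (lev (ntv (1 : Fin (d + 4)) 2))⁻¹ := by
  rw [ntv_inv n12.symm]
  have e : wM d F * lev (ntv (1 : Fin (d + 4)) 2) * wM d F =
      lev (ntv (1 : Fin (d + 4)) 2) * wM d F * lev (ntv 1 2) := by
    refine ext_xy (fun v x => ?_) (fun v x => ?_)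
    · simp only [mul_xc]
      rw [wM_xc, lev_ntv_x n12]
      have a1 : ∀ u : Vo (d + 4) F, ∀ k, u (.inl k) = xc u k := fun u k => rfl
      have a2 : ∀ u : Vo (d + 4) F, ∀ k, u (.inr k) = yc u k := fun u k => rfl
      simp only [a1, a2, wM_xc, wM_yc, lev_ntv_x n12, lev_ntv_y n12]
      rcases eq_or_ne x 0 with rfl | x0
      · simp [n01, n01.symm, n02, n02.symm, n12, n12.symm]
      rcases eq_or_ne x 1 with rfl | x1
      · simp [n01, n01.symm, n02, n02.symm, n12, n12.symm]
      rcases eq_or_ne x 2 with rfl | x2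
      · simp [n01, n01.symm, n02, n02.symm, n12, n12.symm]
      · simp [x0, x1, x2]
    · simp only [mul_xc]
      rw [wM_yc, lev_ntv_y n12]
      have a1 : ∀ u : Vo (d + 4) F, ∀ k, u (.inl k) = xc u k := fun u k => rfl
      have a2 : ∀ u : Vo (d + 4) F, ∀ k, u (.inr k) = yc u k := fun u k => rfl
      simp only [a1, a2, wM_xc, wM_yc, lev_ntv_x n12, lev_ntv_y n12]
      rcases eq_or_ne x 0 with rfl | x0
      · simp [n01, n01.symm, n02, n02.symm, n12, n12.symm]
      rcases eq_or_ne x 1 with rfl | x1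
      · simp [n01, n01.symm, n02, n02.symm, n12, n12.symm]
      rcases eq_or_ne x 2 with rfl | x2
      · simp [n01, n01.symm, n02, n02.symm, n12, n12.symm]
      · simp [x0, x1, x2]
  calc wM d F = (wM d F * lev (ntv (1 : Fin (d + 4)) 2) * wM d F) *
        (lev (ntv (1 : Fin (d + 4)) 2))⁻¹ * (lev (ntv (1 : Fin (d + 4)) 2)) * (wM d F)⁻¹ *
        (lev (ntv (1 : Fin (d + 4)) 2))⁻¹ := by group
    _ = _ := by rw [e]; group

end weyl

end Cfsg.Agent.Lib.ShortPresOm
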