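import Cfsg.Agent.Lib.ShortPresOm.Iso
import Cfsg.Agent.Lib.ShortPresOm.Generate
import Cfsg.Agent.Lib.ShortPresSLn.Pres
import Cfsg.Agent.Lib.ShortPresSp.Pres2

/-!
# Short presentations of orthogonal groups, part 12

The presentation of `EG` of the hyperbolic form from one of `SL_n`.
-/

set_option autoImplicit false
set_option linter.unusedSectionVars false
set_option linter.unusedSimpArgs false

namespace Cfsg.Agent.Lib.ShortPresOm

open scoped commutatorElement
open Matrix Cfsg.Agent.Lib.Schur.SteinbergSLn Cfsg.Agent.Lib.ShortPresSp Cfsg.Agent.Lib.OrthOmega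

variable {F : Type*} [Field F]

section zel
variable {m : ℕ}

open scoped Classical in
/-- An element of order three or four in the `SL_2` of two coordinates. -/
noncomputable def zel (i j : Fin m) : Matrix.SpecialLinearGroup (Fin m) F :=
  if (2 : F) = 0 then trv m F i j 1 * trv m F j i 1 else ntv i j

open scoped Classical in
/-- The order of `zel`. -/
noncomputable def zord (F : Type*) [Field F] : ℕ := if (2 : F) = 0 then 3 else 4

theorem neg_one_of_two (h2 : (2 : F) = 0) : (-1 : F) = 1 :=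
  neg_eq_of_add_eq_zero_left (by rw [← h2]; norm_num)

theorem ntv_sq_sq {i j : Fin m} (h : i ≠ j) :
    (ntv i j * ntv i j * (ntv i j * ntv i j) : Matrix.SpecialLinearGroup (Fin m) F) = 1 := by
  refine Cfsg.Agent.Lib.Linear.sl_ext_single fun z => funext fun x => ?_
  rw [mul_smul, mul_smul, mul_smul, one_smul]
  simp only [ntv_mulVec h]
  by_cases a : x = i
  · subst a; simp [h.symm]
  · by_cases b : x = j
    · subst b; simp [a]
    · simp [a, b]

theorem zel_pow {i j : Fin m} (h : i ≠ j) :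
    (zel i j : Matrix.SpecialLinearGroup (Fin m) F) ^ zord F = 1 := by
  classical
  by_cases h2 : (2 : F) = 0
  · rw [zel, zord, if_pos h2, if_pos h2]
    set u := trv m F i j 1 with hu
    set v := trv m F j i 1 with hv
    have e1 : (ntv i j : Matrix.SpecialLinearGroup (Fin m) F) = u * v * u := by
      rw [ntv, neg_one_of_two h2]
    have e2 : (ntv j i : Matrix.SpecialLinearGroup (Fin m) F) = v * u * v := by
      rw [ntv, neg_one_of_two h2]
    calc (u * v) ^ 3 = (u * v * u) * (v * u * v) := by simp only [pow_succ, pow_zero, one_mul, mul_assoc]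
      _ = 1 := by rw [← e1, ← e2, ← ntv_inv h, mul_inv_cancel]
  · rw [zel, zord, if_neg h2, if_neg h2]
    calc (ntv i j : Matrix.SpecialLinearGroup (Fin m) F) ^ 4 = ntv i j * ntv i j * (ntv i j * ntv i j) := by
          simp only [pow_succ, pow_zero, one_mul, mul_assoc]
      _ = 1 := ntv_sq_sq h

theorem zel_mem {i j : Fin m} (S : Subgroup (Matrix.SpecialLinearGroup (Fin m) F))
    (h1 : trv m F i j 1 ∈ S) (h2 : ∀ a, trv m F j i a ∈ S) : zel i j ∈ S := by
  classical
  rw [zel]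
  split_ifs
  · exact mul_mem h1 (h2 _)
  · rw [ntv]; exact mul_mem (mul_mem h1 (h2 _)) h1

theorem lower_mem {i j : Fin m} (h : i ≠ j) (S : Subgroup (Matrix.SpecialLinearGroup (Fin m) F))
    (h1 : trv m F i j 1 ∈ S) (h2 : zel i j ∈ S) : trv m F j i 1 ∈ S := by
  classical
  rw [zel] at h2
  split_ifs at h2 with hc
  · simpa using mul_mem (inv_mem h1) h2
  · have h3 : trv m F j i (-1) ∈ S := by
      have := mul_mem (mul_mem (inv_mem h1) h2) (inv_mem h1)
      rwa [ntv, show (trv m F i j 1)⁻¹ * (trv m F i j 1 * trv m F j i (-1) * trv m F i j 1) *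
        (trv m F i j 1)⁻¹ = trv m F j i (-1) by group] at this
    rw [show trv m F j i 1 = (trv m F j i (-1))⁻¹ from
      eq_inv_of_mul_eq_one_left (by
        rw [← (trv_rel m).add j i h.symm, add_neg_cancel]; exact x_zero (trv_rel m) h.symm)]
    exact inv_mem h3

theorem trv_pow {i j : Fin m} (h : i ≠ j) (k : ℕ) (a : F) :
    (trv m F i j a) ^ k = trv m F i j (k * a) := by
  induction k with
  | zero => simp [x_zero (trv_rel m) h]
  | succ k ih => rw [pow_succ, ih, Nat.cast_succ, add_mul, one_mul, (trv_rel m).add i j h]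

/-- Commuting elements of coprime orders are powers of their product. -/
theorem mem_of_mul_mem {G : Type*} [Group G] (S : Subgroup G) {z u : G} {N p : ℕ} (hc : Commute z u)
    (hz : z ^ N = 1) (hu : u ^ p = 1) (hco : Nat.Coprime N p) (h : z * u ∈ S) : z ∈ S ∧ u ∈ S := by
  have hb := Nat.gcd_eq_gcd_ab N p
  rw [show Nat.gcd N p = 1 from hco] at hb
  have hu1 : u ∈ S := by
    have e : u = ((z * u) ^ N) ^ Nat.gcdA N p := by
      rw [hc.mul_pow, hz, one_mul, ← zpow_natCast u N, ← _root_.zpow_mul]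
      conv_lhs => rw [← zpow_one u, show (1 : ℤ) = ((1 : ℕ) : ℤ) from rfl, hb, _root_.zpow_add, _root_.zpow_mul u (p : ℤ),
        zpow_natCast u p, hu, _root_.one_zpow, mul_one]
    rw [e]
    exact zpow_mem (pow_mem h N) _
  refine ⟨?_, hu1⟩
  simpa using mul_mem h (inv_mem hu1)

theorem zel_commute {i j k l : Fin m} (hkl : k ≠ l) (hij : i ≠ j) (h1 : i ≠ k) (h2 : i ≠ l) (h3 : j ≠ k)
    (h4 : j ≠ l) (a : F) : Commute (zel i j : Matrix.SpecialLinearGroup (Fin m) F) (trv m F k l a) := by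
  have hi := fun b => show Commute (trv m F i j b) (trv m F k l a) from
    (trv_rel m).comm i j k l hij hkl h2 h3 b a
  have hj := fun b => show Commute (trv m F j i b) (trv m F k l a) from
    (trv_rel m).comm j i k l hij.symm hkl h4 h1 b a
  classical
  rw [zel]
  split_ifs
  · exact (hi 1).mul_left (hj 1)
  · rw [ntv]; exact ((hi 1).mul_left (hj _)).mul_left (hi 1)

end zel

variable {d : ℕ}

/-- The two torus scaled by opposite amounts. -/
def torX (t : Fˣ) : SLn d F := h2 0 1 t * h2 2 3 t⁻¹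

theorem torX_conj (t : Fˣ) {i j : Fin (d + 4)} (hij : i ≠ j) (a : F) :
    torX t * trv (d + 4) F i j a * (torX t)⁻¹ =
      trv (d + 4) F i j (h2v 0 1 t i * (h2v 2 3 t⁻¹ i * a * (h2v 2 3 t⁻¹ j)⁻¹) * (h2v 0 1 t j)⁻¹) := by
  rw [torX, show ∀ A B C : SLn d F, A * B * C * (A * B)⁻¹ = A * (B * C * B⁻¹) * A⁻¹ from
    fun A B C => by group, h2_conj n23 _ hij, h2_conj n01 _ hij]

/-- The relators besides those of `SL_n`. -/
noncomputable def extraRels {G : Type*} [Group G] (L : List (SLn d F)) (f : SLn d F → G) (w : G) : List G :=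
  L.map (fun g => ⁅w, f g⁆) ++
    [w * w * (f (ntv 0 1 * ntv 0 1))⁻¹,
      w * (f (ntv 1 2) * (w * f ((ntv 2 1)⁻¹) * w⁻¹) * (f (ntv 1 2))⁻¹)⁻¹,
      ⁅w * f (trv (d + 4) F 2 1 (-1)) * w⁻¹, f (zel 0 2 * trv (d + 4) F 1 3 1)⁆,
      ⁅w * f (trv (d + 4) F 2 1 (-1)) * w⁻¹, f (zel 1 3 * trv (d + 4) F 0 2 1)⁆]

theorem length_extraRels {G : Type*} [Group G] (L : List (SLn d F)) (f : SLn d F → G) (w : G) :
    (extraRels L f w).length = L.length + 4 := by simp [extraRels]

theorem map_extraRels {G K : Type*} [Group G] [Group K] (φ : G →* K) (L : List (SLn d F))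
    (f : SLn d F → G) (w : G) : (extraRels L f w).map φ = extraRels L (fun g => φ (f g)) (φ w) := by
  simp [extraRels, map_commutatorElement, Function.comp_def]

theorem conj_E02_trv {i j : Fin (d + 4)}
    (h : (i = 0 ∧ j = 2) ∨ (i = 2 ∧ j = 0) ∨ (i = 1 ∧ j = 3) ∨ (i = 3 ∧ j = 1)) (a : F) :
    (trv (d + 4) F i j a).1 * E 0 2 1 * (trv (d + 4) F i j a).1ᵀ = E 0 2 1 := by
  rw [conj_E]
  ext r s
  rcases h with ⟨rfl, rfl⟩ | ⟨rfl, rfl⟩ | ⟨rfl, rfl⟩ | ⟨rfl, rfl⟩
  all_goals
    simp only [E, wed_apply, Pi.smul_apply, smul_eq_mul, Pi.single_apply, trv_coe n02, trv_coe n02.symm,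
      trv_coe n13, trv_coe n13.symm, Matrix.add_apply, Matrix.one_apply, Matrix.single_apply]
    simp [n01, n01.symm, n02, n02.symm, n03, n03.symm, n12, n12.symm, n13, n13.symm, n23, n23.symm,
      @eq_comm _ (0 : Fin (d + 4)) r, @eq_comm _ (1 : Fin (d + 4)) r, @eq_comm _ (2 : Fin (d + 4)) r,
      @eq_comm _ (3 : Fin (d + 4)) r, @eq_comm _ (0 : Fin (d + 4)) s, @eq_comm _ (1 : Fin (d + 4)) s,
      @eq_comm _ (2 : Fin (d + 4)) s, @eq_comm _ (3 : Fin (d + 4)) s]
    try (split_ifs <;> ring)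

theorem model_rels (L : List (SLn d F))
    (hL : ∀ l ∈ L, ∀ S : Subgroup (SLn d F),
      (∀ i j, i ≠ j → SameSide i j → ∀ a, trv (d + 4) F i j a ∈ S) → l ∈ S) :
    ∀ x ∈ extraRels L (fun g => (lev g : Om (d + 4) F)) (wM d F), x = 1 := by
  intro x hx
  simp only [extraRels, List.mem_append, List.mem_map, List.mem_cons, List.not_mem_nil, or_false] at hx
  have hS : ∀ g, g ∈ (Subgroup.centralizer {wM d F * lev (trv (d + 4) F 2 1 (-1)) * (wM d F)⁻¹}).comap lev ↔
      Commute (wM d F * lev (trv (d + 4) F 2 1 (-1)) * (wM d F)⁻¹) (lev g) := fun g => by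
    rw [Subgroup.mem_comap, Subgroup.mem_centralizer_singleton_iff]; exact eq_comm
  have hX : ∀ i j : Fin (d + 4),
      ((i = 0 ∧ j = 2) ∨ (i = 2 ∧ j = 0) ∨ (i = 1 ∧ j = 3) ∨ (i = 3 ∧ j = 1)) → ∀ a,
      trv (d + 4) F i j a ∈
        (Subgroup.centralizer {wM d F * lev (trv (d + 4) F 2 1 (-1)) * (wM d F)⁻¹}).comap lev := by
    intro i j h a
    rw [hS, wM_trv21, mul_inv_cancel_right]
    have := lev_radO (trv (d + 4) F i j a) (isAlt_E (0 : Fin (d + 4)) 2 (1 : F))
    rw [radO_congr (conj_E02_trv h a) _ (isAlt_E _ _ _), mul_inv_eq_iff_eq_mul] at this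
    exact this.symm
  rcases hx with ⟨l, hl, rfl⟩ | rfl | rfl | rfl | rfl
  · rw [commutatorElement_eq_one_iff_commute]
    have : l ∈ (Subgroup.centralizer {wM d F}).comap lev := hL l hl _ fun i j hij hs a => by
      rw [Subgroup.mem_comap, Subgroup.mem_centralizer_singleton_iff]
      exact (wM_comm hij hs a).symm
    rw [Subgroup.mem_comap, Subgroup.mem_centralizer_singleton_iff] at this
    exact this.symm
  · rw [mul_inv_eq_one]; exact wM_sq
  · rw [mul_inv_eq_one]; exact wM_F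
  · rw [commutatorElement_eq_one_iff_commute, ← hS]
    exact mul_mem (zel_mem _ (hX _ _ (by simp) 1) (hX _ _ (by simp))) (hX _ _ (by simp) 1)
  · rw [commutatorElement_eq_one_iff_commute, ← hS]
    exact mul_mem (zel_mem _ (hX _ _ (by simp) 1) (hX _ _ (by simp))) (hX _ _ (by simp) 1)

/-- The two extra relators give all of `hX`. -/
theorem hX_of_rels [Finite F] {G : Type*} [Group G] (ψ : SLn d F →* G) (w : G)
    (hK : ∀ i j, i ≠ j → SameSide i j → ∀ a, Commute w (ψ (trv (d + 4) F i j a)))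
    (h1 : Commute (w * ψ (trv (d + 4) F 2 1 (-1)) * w⁻¹) (ψ (zel 0 2 * trv (d + 4) F 1 3 1)))
    (h2' : Commute (w * ψ (trv (d + 4) F 2 1 (-1)) * w⁻¹) (ψ (zel 1 3 * trv (d + 4) F 0 2 1))) :
    ∀ a, Commute (w * ψ (trv (d + 4) F 2 1 (-1)) * w⁻¹) (ψ (trv (d + 4) F 0 2 a)) ∧
      Commute (w * ψ (trv (d + 4) F 2 1 (-1)) * w⁻¹) (ψ (trv (d + 4) F 2 0 a)) ∧
      Commute (w * ψ (trv (d + 4) F 2 1 (-1)) * w⁻¹) (ψ (trv (d + 4) F 1 3 a)) ∧
      Commute (w * ψ (trv (d + 4) F 2 1 (-1)) * w⁻¹) (ψ (trv (d + 4) F 3 1 a)) := by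
  set x := w * ψ (trv (d + 4) F 2 1 (-1)) * w⁻¹ with hx
  set S := (Subgroup.centralizer {x}).comap ψ with hSdef
  have hS : ∀ g, g ∈ S ↔ Commute x (ψ g) := fun g => by
    rw [hSdef, Subgroup.mem_comap, Subgroup.mem_centralizer_singleton_iff]; exact eq_comm
  obtain ⟨p, hchar⟩ := CharP.exists F
  have hp : p.Prime := CharP.char_is_prime F p
  have hco : Nat.Coprime (zord F) p := by
    classical
    rw [zord]
    split_ifs with h
    · have : p = 2 := by
        refine (Nat.prime_dvd_prime_iff_eq hp Nat.prime_two).1 ((CharP.cast_eq_zero_iff F p 2).1 ?_)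
        exact_mod_cast h
      subst this; norm_num
    · rw [Nat.coprime_comm, hp.coprime_iff_not_dvd]
      intro hd
      apply h
      have : p ∣ 2 := by
        have h22 : (4 : ℕ) = 2 * 2 := rfl
        rw [h22] at hd
        exact (hp.dvd_mul.1 hd).elim id id
      exact_mod_cast (CharP.cast_eq_zero_iff F p 2).2 this
  have hpow : ∀ i j : Fin (d + 4), i ≠ j → (trv (d + 4) F i j 1) ^ p = 1 := fun i j h => by
    rw [trv_pow h, CharP.cast_eq_zero, zero_mul]; exact x_zero (trv_rel _) h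
  obtain ⟨hz02, h13⟩ := mem_of_mul_mem S (zel_commute n13 n02 n01 n03 n12.symm n23 1)
    (zel_pow n02) (hpow _ _ n13) hco ((hS _).2 h1)
  obtain ⟨hz13, h02⟩ := mem_of_mul_mem S (zel_commute n02 n13 n01.symm n12 n03.symm n23.symm 1)
    (zel_pow n13) (hpow _ _ n02) hco ((hS _).2 h2')
  have h20 := lower_mem n02 S h02 hz02
  have h31 := lower_mem n13 S h13 hz13
  have htor : ∀ t, torX t ∈ S := fun t => by
    rw [hS]
    have hw : Commute w (ψ (torX t)) := by
      rw [torX, map_mul]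
      refine Commute.mul_right ?_ ?_
      · have := h2_mem (0 : Fin (d + 4)) 1 ((Subgroup.centralizer {w}).comap ψ)
          (fun a => by
            rw [Subgroup.mem_comap, Subgroup.mem_centralizer_singleton_iff]
            exact (hK _ _ n01 (by simp [SameSide]) a).symm)
          (fun a => by
            rw [Subgroup.mem_comap, Subgroup.mem_centralizer_singleton_iff]
            exact (hK _ _ n01.symm (by simp [SameSide]) a).symm) t
        rw [Subgroup.mem_comap, Subgroup.mem_centralizer_singleton_iff] at this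
        exact this.symm
      · have := h2_mem (2 : Fin (d + 4)) 3 ((Subgroup.centralizer {w}).comap ψ)
          (fun a => by
            rw [Subgroup.mem_comap, Subgroup.mem_centralizer_singleton_iff]
            exact (hK _ _ n23 (by rw [SameSide, val2, val3]; omega) a).symm)
          (fun a => by
            rw [Subgroup.mem_comap, Subgroup.mem_centralizer_singleton_iff]
            exact (hK _ _ n23.symm (by rw [SameSide, val2, val3]; omega) a).symm) t⁻¹
        rw [Subgroup.mem_comap, Subgroup.mem_centralizer_singleton_iff] at this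
        exact this.symm
    have hτ : Commute (ψ (trv (d + 4) F 2 1 (-1))) (ψ (torX t)) := by
      refine Commute.map ?_ ψ
      have := torX_conj t (n12 (d := d)).symm (-1 : F)
      rw [show (h2v 0 1 t (2 : Fin (d + 4)) * (h2v 2 3 t⁻¹ (2 : Fin (d + 4)) * -1 *
        (h2v 2 3 t⁻¹ (1 : Fin (d + 4)))⁻¹) * (h2v 0 1 t (1 : Fin (d + 4)))⁻¹) = -1 by
          simp [h2v, n01.symm, n02.symm, n12, n12.symm, n13], mul_inv_eq_iff_eq_mul] at this
      exact this.symm
    rw [hx]
    exact (hw.mul_left hτ).mul_left hw.inv_left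
  have hall : ∀ {i j : Fin (d + 4)}, i ≠ j → trv (d + 4) F i j 1 ∈ S →
      (∀ c : F, c ≠ 0 → ∃ t : Fˣ, h2v 0 1 t i * (h2v 2 3 t⁻¹ i * 1 * (h2v 2 3 t⁻¹ j)⁻¹) * (h2v 0 1 t j)⁻¹ =
        c ^ 2) → ∀ a, trv (d + 4) F i j a ∈ S := by
    intro i j hij h hsc a
    have hc : ∀ c : F, trv (d + 4) F i j (c ^ 2) ∈ S := fun c => by
      rcases eq_or_ne c 0 with rfl | hc0
      · rw [zero_pow two_ne_zero, x_zero (trv_rel _) hij]; exact one_mem _
      · obtain ⟨t, ht⟩ := hsc c hc0
        rw [← ht, ← torX_conj t hij]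
        exact mul_mem (mul_mem (htor t) h) (inv_mem (htor t))
    obtain ⟨b, c, rfl⟩ := sum_two_sq a
    rw [(trv_rel _).add i j hij]
    exact mul_mem (hc b) (hc c)
  intro a
  refine ⟨(hS _).1 (hall n02 h02 ?_ a), (hS _).1 (hall n02.symm h20 ?_ a), (hS _).1 (hall n13 h13 ?_ a), (hS _).1 (hall n13.symm h31 ?_ a)⟩
  · exact fun c hc => ⟨Units.mk0 c hc, by simp [h2v, n01, n02, n02.symm, n03, n12.symm]; ring⟩
  · exact fun c hc => ⟨(Units.mk0 c hc)⁻¹, by simp [h2v, n01, n02, n02.symm, n03, n12.symm]; ring⟩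
  · exact fun c hc => ⟨(Units.mk0 c hc)⁻¹, by
      simp [h2v, n01.symm, n03.symm, n12, n13, n13.symm, n23.symm]; ring⟩
  · exact fun c hc => ⟨Units.mk0 c hc, by
      simp [h2v, n01.symm, n03.symm, n12, n13, n13.symm, n23.symm]; ring⟩

end Cfsg.Agent.Lib.ShortPresOm
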