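import Cfsg.Agent.Lib.ShortPresOm.Base

/-!
# Short presentations of orthogonal groups, part 4

The abelian unipotent radical, as a homomorphism on alternating matrices.
-/

set_option autoImplicit false
set_option linter.unusedSectionVars false

namespace Cfsg.Agent.Lib.ShortPresOm

open Matrix Cfsg.Agent.Lib.Schur.SteinbergSLn Cfsg.Agent.Lib.ShortPresSp

section alt

variable {m : ℕ} {F : Type*} [Field F]

/-- A wedge of two vectors as a matrix. -/
def wed (u v : Fin m → F) : Matrix (Fin m) (Fin m) F := vecMulVec u v - vecMulVec v u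

theorem wed_apply (u v : Fin m → F) (r s : Fin m) : wed u v r s = u r * v s - v r * u s := rfl

/-- The elementary alternating matrices. -/
def E (p q : Fin m) (t : F) : Matrix (Fin m) (Fin m) F := wed (Pi.single p t) (Pi.single q 1)

theorem E_swap (p q : Fin m) (t : F) : E q p t = E p q (-t) := by
  ext r s
  simp only [E, wed_apply, Pi.single_apply]
  split_ifs <;> ring

theorem E_apply_self {p q : Fin m} (h : p ≠ q) (t : F) : E p q t p q = t := by
  simp [E, wed_apply, h]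

theorem E_zero (p q : Fin m) : E p q (0 : F) = 0 := by
  ext r s; simp [E, wed_apply]

theorem conj_E (g : Matrix (Fin m) (Fin m) F) (p q : Fin m) (t : F) :
    g * E p q t * gᵀ = wed (t • fun x => g x p) (fun x => g x q) := by
  rw [E, wed, mul_sub, sub_mul, mul_vecMulVec, mul_vecMulVec, vecMulVec_mul, vecMulVec_mul,
    vecMul_transpose, vecMul_transpose, mulVec_single, mulVec_single]
  rw [wed]
  ext r s
  simp [vecMulVec_apply]

theorem conj_E_mon {g : Matrix (Fin m) (Fin m) F} {p q p' q' : Fin m} {a b : F}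
    (hp : ∀ x, g x p = if x = p' then a else 0) (hq : ∀ x, g x q = if x = q' then b else 0) (t : F) :
    g * E p q t * gᵀ = E p' q' (a * b * t) := by
  rw [conj_E]
  ext r s
  simp only [E, wed_apply, Pi.single_apply, Pi.smul_apply, smul_eq_mul, hp, hq]
  split_ifs <;> ring

/-- Alternating matrices. -/
def IsAlt (A : Matrix (Fin m) (Fin m) F) : Prop := ∀ r, A r r = 0 ∧ ∀ s, A s r = -A r s

theorem isAlt_E (p q : Fin m) (t : F) : IsAlt (E p q t) := fun r =>
  ⟨by simp [E, wed_apply, mul_comm], fun s => by simp [E, wed_apply]; ring⟩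

theorem isAlt_wed (u v : Fin m → F) : IsAlt (wed u v) := fun r =>
  ⟨by simp [wed_apply, mul_comm], fun s => by simp [wed_apply]; ring⟩

theorem IsAlt.add {A B : Matrix (Fin m) (Fin m) F} (hA : IsAlt A) (hB : IsAlt B) : IsAlt (A + B) :=
  fun r => ⟨by simp [(hA r).1, (hB r).1], fun s => by simp [(hA r).2 s, (hB r).2 s]; ring⟩

theorem E_apply_ne {p q r s : Fin m} (h : p < q) (hrs : r < s) (hne : ¬ (r = p ∧ s = q)) (t : F) :
    E p q t r s = 0 := by
  simp only [E, wed_apply, Pi.single_apply]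
  by_cases a : r = p
  · subst a
    rw [if_neg (fun e => hne ⟨rfl, e⟩), if_neg (show r ≠ q from h.ne)]
    ring
  · by_cases b : r = q
    · subst b
      rw [if_neg a, if_neg (show s ≠ p from (h.trans hrs).ne')]
      ring
    · rw [if_neg a, if_neg b]; ring

theorem isAlt_conj {A : Matrix (Fin m) (Fin m) F} (g : Matrix (Fin m) (Fin m) F) (hA : IsAlt A) :
    IsAlt (g * A * gᵀ) := by
  have e : ∀ r s, (g * A * gᵀ) r s = ∑ y, ∑ x, g r x * A x y * g s y := by
    intro r s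
    simp [Matrix.mul_apply, Finset.sum_mul]
  intro r
  refine ⟨?_, fun s => ?_⟩
  · rw [e, ← Fintype.sum_prod_type' (f := fun y x => g r x * A x y * g r y)]
    refine Finset.sum_involution (fun z _ => (z.2, z.1)) (fun z _ => ?_) (fun z _ hne hz => ?_)
      (fun z _ => Finset.mem_univ _) (fun z _ => rfl)
    · simp only; rw [(hA z.1).2 z.2]; ring
    · apply hne
      rw [show z.2 = z.1 from congrArg Prod.fst hz, (hA z.1).1]; ring
  · rw [e, e, Finset.sum_comm, ← Finset.sum_neg_distrib]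
    refine Finset.sum_congr rfl fun y _ => ?_
    rw [← Finset.sum_neg_distrib]
    refine Finset.sum_congr rfl fun x _ => ?_
    rw [(hA x).2 y]; ring

theorem alt_induction {P : Matrix (Fin m) (Fin m) F → Prop} (h0 : P 0)
    (hadd : ∀ A B, P A → P B → P (A + B)) (hE : ∀ p q, p ≠ q → ∀ t, P (E p q t))
    {A : Matrix (Fin m) (Fin m) F} (hA : IsAlt A) : P A := by
  classical
  have e : A = ∑ x ∈ Finset.univ.filter (fun x : Fin m × Fin m => x.1 < x.2), E x.1 x.2 (A x.1 x.2) := by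
    ext r s
    rw [Matrix.sum_apply]
    rcases lt_trichotomy r s with h | h | h
    · rw [Finset.sum_eq_single (r, s) (fun x hx hne => ?_) (by simp [h])]
      · rw [E_apply_self h.ne]
      · exact E_apply_ne (Finset.mem_filter.1 hx).2 h
          (fun e => hne (Prod.ext e.1.symm e.2.symm)) _
    · subst h
      rw [(hA r).1]
      exact (Finset.sum_eq_zero fun x _ => (isAlt_E _ _ _ r).1).symm
    · rw [Finset.sum_eq_single (s, r) (fun x hx hne => ?_) (by simp [h])]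
      · rw [(hA s).2 r, (isAlt_E _ _ _ s).2 r, E_apply_self h.ne]
      · rw [(isAlt_E _ _ _ s).2 r, E_apply_ne (Finset.mem_filter.1 hx).2 h
          (fun e => hne (Prod.ext e.1.symm e.2.symm)) _, neg_zero]
  rw [e]
  refine Finset.sum_induction _ P hadd h0 fun x hx => hE _ _ ?_ _
  exact ne_of_lt (Finset.mem_filter.1 hx).2

end alt

namespace OmRel

variable {d : ℕ} {F : Type*} [Field F] {G : Type*} [Group G] (R : OmRel d F G)

theorem A0_eq : A0 d F = E 0 2 1 := by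
  rw [A0, E, wed, Matrix.single_eq_single_vecMulVec_single, Matrix.single_eq_single_vecMulVec_single]

theorem bv_eq (g : SLn d F) : bv g = g.1 * E 0 2 1 * g.1ᵀ := by rw [bv, A0_eq]

theorem exists_third (p q : Fin (d + 4)) : ∃ r, r ≠ p ∧ r ≠ q := by
  by_contra! h
  have hs : (Finset.univ : Finset (Fin (d + 4))) ⊆ {p, q} := fun r _ => by
    rw [Finset.mem_insert, Finset.mem_singleton]; exact or_iff_not_imp_left.2 (h r)
  have := (Finset.card_le_card hs).trans Finset.card_le_two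
  rw [Finset.card_univ, Fintype.card_fin] at this
  omega

/-- A monomial matrix moving three basis vectors. -/
theorem exists_mon3 {p q r : Fin (d + 4)} (hpq : p ≠ q) (hpr : p ≠ r) (hqr : q ≠ r) (a b c : Fˣ) :
    ∃ g : SLn d F, (∀ x, g.1 x 0 = if x = p then (a : F) else 0) ∧
      (∀ x, g.1 x 2 = if x = q then (b : F) else 0) ∧ (∀ x, g.1 x 3 = if x = r then (c : F) else 0) ∧
      ∀ y, y ≠ 2 → g.1 q y = 0 := by
  obtain ⟨σ, hσ⟩ := exists_perm_map (![0, 2, 3] : Fin 3 → Fin (d + 4)) ![p, q, r]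
    (fun x y h => by
      fin_cases x <;> fin_cases y <;> simp [n02, n03, n23, n02.symm, n03.symm, n23.symm] at h ⊢)
    (fun x y h => by
      fin_cases x <;> fin_cases y <;> simp [hpq, hpr, hqr, hpq.symm, hpr.symm, hqr.symm] at h ⊢)
  have e0 : σ 0 = p := hσ 0
  have e2 : σ 2 = q := hσ 1
  have e3 : σ 3 = r := hσ 2
  obtain ⟨g, D, hg, -, hD0, hD2, hD3⟩ := exists_mon_perm σ a b c
  exact ⟨g, fun x => by rw [hg, e0, hD0], fun x => by rw [hg, e2, hD2], fun x => by rw [hg, e3, hD3],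
    fun y hy => by rw [hg, if_neg]; rw [← e2]; exact fun h => hy (σ.injective h).symm⟩

theorem exists_bv {p q : Fin (d + 4)} (hpq : p ≠ q) {t : F} (ht : t ≠ 0) :
    ∃ g : SLn d F, bv g = E p q t := by
  obtain ⟨r, hrp, hrq⟩ := exists_third p q
  obtain ⟨g, h0, h2, -, -⟩ := exists_mon3 hpq hrp.symm hrq.symm (Units.mk0 t ht) 1 1
  exact ⟨g, by rw [bv_eq, conj_E_mon h0 h2]; simp⟩

/-- The root elements of `e_p + e_q`. -/
noncomputable def rt (p q : Fin (d + 4)) (t : F) : G :=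
  haveI := Classical.propDecidable (p ≠ q ∧ t ≠ 0)
  if h : p ≠ q ∧ t ≠ 0 then R.X (exists_bv h.1 h.2).choose else 1

theorem rt_zero (p q : Fin (d + 4)) : R.rt p q 0 = 1 := by simp [rt]

theorem rt_of_bv {p q : Fin (d + 4)} (hpq : p ≠ q) {t : F} {g : SLn d F} (e : bv g = E p q t) :
    R.X g = R.rt p q t := by
  have ht : t ≠ 0 := by
    rintro rfl
    have h1 := bv_mul g⁻¹ g
    rw [inv_mul_cancel, bv_one, e, E_zero, mul_zero, zero_mul, A0_eq] at h1
    have h2 := congrFun (congrFun h1 0) 2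
    rw [E_apply_self n02] at h2
    exact one_ne_zero h2
  rw [rt, dif_pos ⟨hpq, ht⟩]
  exact R.X_congr (e.trans (exists_bv hpq ht).choose_spec.symm)

theorem rt_conj {g : SLn d F} {p q p' q' : Fin (d + 4)} (hpq : p ≠ q) (hpq' : p' ≠ q') {t t' : F}
    (e : g.1 * E p q t * g.1ᵀ = E p' q' t') :
    R.ψ g * R.rt p q t * (R.ψ g)⁻¹ = R.rt p' q' t' := by
  rcases eq_or_ne t 0 with rfl | ht
  · rw [E_zero, mul_zero, zero_mul] at e
    have : t' = 0 := by rw [← E_apply_self hpq' t', ← e]; rfl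
    subst this
    simp [R.rt_zero]
  obtain ⟨h, hh⟩ := exists_bv hpq ht
  rw [← R.rt_of_bv hpq hh, R.X_conj]
  exact R.rt_of_bv hpq' (by rw [bv_mul, hh, e])

theorem rt_mon {g : SLn d F} {p q p' q' : Fin (d + 4)} (hpq : p ≠ q) (hpq' : p' ≠ q') {a b : F}
    (hp : ∀ x, g.1 x p = if x = p' then a else 0) (hq : ∀ x, g.1 x q = if x = q' then b else 0) (t : F) :
    R.ψ g * R.rt p q t * (R.ψ g)⁻¹ = R.rt p' q' (a * b * t) :=
  R.rt_conj hpq hpq' (conj_E_mon hp hq t)

theorem rt_swap {p q : Fin (d + 4)} (hpq : p ≠ q) (t : F) : R.rt q p t = R.rt p q (-t) := by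
  have := R.rt_conj (g := 1) hpq.symm hpq (t := t) (t' := -t) (by rw [Matrix.SpecialLinearGroup.coe_one, transpose_one, one_mul, mul_one, E_swap])
  simpa using this

theorem x_eq (t : F) : R.x t = R.rt 0 2 t := by
  rcases eq_or_ne t 0 with rfl | ht
  · rw [R.x_zero, R.rt_zero]
  set l := Units.mk0 t ht
  have hk : h2 0 1 l ∈ R.Kw := R.h2_mem_Kw (by simp [SameSide]) l
  have hb : bv (h2 0 1 l : SLn d F) = E 0 2 t := by
    rw [bv_eq, conj_E_mon (a := t) (b := 1) (p' := 0) (q' := 2)]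
    · simp
    · intro x; rw [h2_coe n01]; rcases eq_or_ne x 0 with rfl | h <;> simp [l, *]
    · intro x; rw [h2_coe n01]; rcases eq_or_ne x 2 with rfl | h <;> simp [l, n02.symm, n12.symm, *]
  rw [← R.rt_of_bv n02 hb, X, R.conj_x_of_mem hk, h2_conj n01 l n12.symm, x]
  simp [h2v, n02.symm, n12.symm, n01.symm, l]

theorem rt_add {p q : Fin (d + 4)} (hpq : p ≠ q) (s t : F) :
    R.rt p q (s + t) = R.rt p q s * R.rt p q t := by
  obtain ⟨r, hrp, hrq⟩ := exists_third p q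
  obtain ⟨g, h0, h2, -, -⟩ := exists_mon3 hpq hrp.symm hrq.symm (1 : Fˣ) 1 1
  have h : ∀ u, R.ψ g * R.x u * (R.ψ g)⁻¹ = R.rt p q u := fun u => by
    rw [R.x_eq, R.rt_mon n02 hpq h0 h2]; simp
  rw [← h, ← h s, ← h t, R.x_add]; group

theorem ntv_mem_Kw {i j : Fin (d + 4)} (h : i ≠ j) (hs : SameSide i j) : ntv i j ∈ R.Kw := by
  rw [ntv]
  exact mul_mem (mul_mem (R.trv_mem_Kw h hs _) (R.trv_mem_Kw h.symm (iff_comm.1 hs) _))
    (R.trv_mem_Kw h hs _)

theorem ψ_conj {g h h' : SLn d F} (e : g * h = h' * g) : R.ψ g * R.ψ h * (R.ψ g)⁻¹ = R.ψ h' := by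
  rw [← map_mul, e, map_mul, mul_inv_cancel_right]

theorem rt03_eq (t : F) : R.rt 0 3 t = R.w * R.ψ (trv (d + 4) F 3 1 (-t)) * R.w⁻¹ := by
  have hk : ntv 3 2 ∈ R.Kw :=
    R.ntv_mem_Kw n23.symm (side_rest (by rw [val3]; omega) (by rw [val2]; omega))
  have h := R.rt_mon (g := ntv 3 2) (p' := 0) (q' := 3) (a := 1) (b := 1) n02 n03
    (fun x => by
      rw [ntv_coe n23.symm]
      by_cases a : x = 3
      · subst a; simp [n02, n03.symm]
      · by_cases b : x = 2
        · subst b; simp [n23, n03, n02.symm]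
        · simp [a, b])
    (fun x => by
      rw [ntv_coe n23.symm]
      by_cases a : x = 3
      · subst a; simp
      · by_cases b : x = 2
        · subst b; simp [n23]
        · simp [a, b]) t
  rw [← R.x_eq, R.conj_x_of_mem hk] at h
  rw [show (1 : F) * 1 * t = t by ring] at h
  rw [← h, conj_trv (ntv 3 2) n12.symm n13.symm (-t) (-t) (fun x => ?_) (fun y hy => ?_),
    mul_inv_cancel_right]
  · rw [ntv_coe n23.symm, ntv_coe n23.symm]
    by_cases a : x = 3
    · subst a; simp [n13, n12]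
    · by_cases b : x = 2
      · subst b; simp [n23]
      · simp [a, b]
  · rw [ntv_coe n23.symm]; simp [n13, n12, Ne.symm hy]

theorem rt13_eq (t : F) : R.rt 1 3 t = R.w * R.ψ (trv (d + 4) F 3 0 t) * R.w⁻¹ := by
  have hk : ntv 1 0 ∈ R.Kw := R.ntv_mem_Kw n01.symm (by simp [SameSide])
  have h := R.rt_mon (g := ntv 1 0) (p' := 1) (q' := 3) (a := 1) (b := 1) n03 n13
    (fun x => by
      rw [ntv_coe n01.symm]
      by_cases a : x = 1
      · subst a; simp
      · by_cases b : x = 0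
        · subst b; simp [n01]
        · simp [a, b])
    (fun x => by
      rw [ntv_coe n01.symm]
      by_cases a : x = 1
      · subst a; simp [n03.symm, n13]
      · by_cases b : x = 0
        · subst b; simp [n13.symm, n03]
        · simp [a, b]) t
  rw [R.rt03_eq, show (1 : F) * 1 * t = t by ring] at h
  rw [← h]
  symm
  set k := R.ψ (ntv 1 0)
  have hc : k * R.w = R.w * k := ((R.mem_Kw.1 hk).eq).symm
  calc R.w * R.ψ (trv (d + 4) F 3 0 t) * R.w⁻¹
      = R.w * (k * R.ψ (trv (d + 4) F 3 1 (-t)) * k⁻¹) * R.w⁻¹ := by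
        rw [R.ψ_conj (conj_trv (ntv 1 0) n13.symm n03.symm (-t) t (fun x => ?_) (fun y hy => ?_))]
        · rw [ntv_coe n01.symm, ntv_coe n01.symm]
          by_cases a : x = 1
          · subst a; simp [n13, n03.symm]
          · by_cases b : x = 0
            · subst b; simp [n01, n03, n13.symm]
            · simp [a, b, n01]; split_ifs <;> simp
        · rw [ntv_coe n01.symm]; simp [n01, hy]
    _ = R.w * k * R.ψ (trv (d + 4) F 3 1 (-t)) * (R.w * k)⁻¹ := by group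
    _ = k * R.w * R.ψ (trv (d + 4) F 3 1 (-t)) * (k * R.w)⁻¹ := by rw [hc]
    _ = _ := by group

theorem commute_w {i j k l : Fin (d + 4)} (hij : i ≠ j) (hkl : k ≠ l) (hil : i ≠ l) (hjk : j ≠ k)
    (a b : F) : Commute (R.w * R.ψ (trv (d + 4) F i j a) * R.w⁻¹)
      (R.w * R.ψ (trv (d + 4) F k l b) * R.w⁻¹) := by
  have h : Commute (R.ψ (trv (d + 4) F i j a)) (R.ψ (trv (d + 4) F k l b)) :=
    (show Commute (trv (d + 4) F i j a) (trv (d + 4) F k l b) from
      (trv_rel (d + 4)).comm i j k l hij hkl hil hjk a b).map R.ψ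
  simpa [MulAut.conj_apply] using h.map (MulAut.conj R.w)

theorem rt_comm_share {p q r : Fin (d + 4)} (hpq : p ≠ q) (hpr : p ≠ r) (s u : F) :
    Commute (R.rt p q s) (R.rt p r u) := by
  rcases eq_or_ne q r with rfl | hqr
  · show _ * _ = _ * _
    rw [← R.rt_add hpq, ← R.rt_add hpq, add_comm]
  obtain ⟨g, h0, h2, h3, -⟩ := exists_mon3 hpq hpr hqr (1 : Fˣ) 1 1
  have hc : Commute (R.rt 0 2 s) (R.rt 0 3 u) := by
    rw [← R.x_eq, R.rt03_eq, x]; exact R.commute_w n12.symm n13.symm n12.symm n13 _ _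
  have h := hc.map (MulAut.conj (R.ψ g))
  simp only [MulAut.conj_apply] at h
  rw [R.rt_mon n02 hpq h0 h2, R.rt_mon n03 hpr h0 h3] at h
  simpa using h

theorem rt_comm {p q r u : Fin (d + 4)} (hpq : p ≠ q) (hru : r ≠ u) (s t : F) :
    Commute (R.rt p q s) (R.rt r u t) := by
  rcases eq_or_ne p r with rfl | hpr
  · exact R.rt_comm_share hpq hru s t
  rcases eq_or_ne p u with rfl | hpu
  · rw [R.rt_swap hru.symm]; exact R.rt_comm_share hpq hru.symm s _
  rcases eq_or_ne q r with rfl | hqr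
  · rw [R.rt_swap hpq.symm]; exact R.rt_comm_share hpq.symm hru _ t
  rcases eq_or_ne q u with rfl | hqu
  · rw [R.rt_swap hpq.symm, R.rt_swap hru.symm]; exact R.rt_comm_share hpq.symm hru.symm _ _
  obtain ⟨σ, hσ⟩ := exists_perm_map (![0, 2, 1, 3] : Fin 4 → Fin (d + 4)) ![p, q, r, u]
    (fun x y h => by
      fin_cases x <;> fin_cases y <;>
        simp [n01, n02, n03, n12, n13, n23, n01.symm, n02.symm, n03.symm, n12.symm, n13.symm,
          n23.symm] at h ⊢)
    (fun x y h => by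
      fin_cases x <;> fin_cases y <;>
        simp [hpq, hru, hpr, hpu, hqr, hqu, hpq.symm, hru.symm, hpr.symm, hpu.symm, hqr.symm,
          hqu.symm] at h ⊢)
  have e0 : σ 0 = p := hσ 0
  have e2 : σ 2 = q := hσ 1
  have e1 : σ 1 = r := hσ 2
  have e3 : σ 3 = u := hσ 3
  obtain ⟨g, D, hg, hD, hD0, hD2, hD3⟩ := exists_mon_perm σ (1 : Fˣ) 1 1
  have h0 : ∀ x, g.1 x 0 = if x = p then D 0 else 0 := fun x => by rw [hg, e0]
  have h2 : ∀ x, g.1 x 2 = if x = q then D 2 else 0 := fun x => by rw [hg, e2]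
  have h1 : ∀ x, g.1 x 1 = if x = r then D 1 else 0 := fun x => by rw [hg, e1]
  have h3 : ∀ x, g.1 x 3 = if x = u then D 3 else 0 := fun x => by rw [hg, e3]
  have hc : Commute (R.rt 0 2 s) (R.rt 1 3 (t / D 1)) := by
    rw [← R.x_eq, R.rt13_eq, x]; exact R.commute_w n12.symm n03.symm n02.symm n13 _ _
  have h := hc.map (MulAut.conj (R.ψ g))
  simp only [MulAut.conj_apply] at h
  rw [R.rt_mon n02 hpq h0 h2, R.rt_mon n13 hru h1 h3, hD0, hD2, hD3] at h
  simpa [mul_div_cancel₀ _ (hD 1)] using h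

theorem rt_base_split (c t : F) :
    R.ψ (trv (d + 4) F 3 2 c) * R.rt 0 2 t * (R.ψ (trv (d + 4) F 3 2 c))⁻¹ =
      R.rt 0 2 t * R.rt 0 3 (c * t) := by
  have hk : trv (d + 4) F 3 2 c ∈ R.Kw :=
    R.trv_mem_Kw n23.symm (side_rest (by rw [val3]; omega) (by rw [val2]; omega)) c
  have e : trv (d + 4) F 3 2 c * trv (d + 4) F 2 1 (-t) * (trv (d + 4) F 3 2 c)⁻¹ =
      trv (d + 4) F 3 1 (-(c * t)) * trv (d + 4) F 2 1 (-t) := by
    rw [mul_inv_eq_iff_eq_mul, (trv_rel (d + 4)).chain 3 2 1 n23.symm n12.symm n13.symm c (-t),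
      mul_neg]
  rw [(R.rt_comm n02 n03 t (c * t)).eq]
  rw [← R.x_eq, R.conj_x_of_mem hk, e, map_mul, R.rt03_eq, x]
  group

theorem rt_split {i p q : Fin (d + 4)} (hpq : p ≠ q) (hip : i ≠ p) (hiq : i ≠ q) (a t : F) :
    R.ψ (trv (d + 4) F i p a) * R.rt p q t * (R.ψ (trv (d + 4) F i p a))⁻¹ =
      R.rt p q t * R.rt i q (a * t) := by
  obtain ⟨g, h0, h2, h3, hrow⟩ := exists_mon3 hpq.symm hiq.symm hip.symm (1 : Fˣ) 1 1
  have hk := R.ψ_conj (conj_trv g (i := 3) (j := 2) n23.symm hip a a (fun x => by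
    rw [h3, h2]; simp) hrow)
  have h := congrArg (fun z => R.ψ g * z * (R.ψ g)⁻¹) (R.rt_base_split a (-t))
  rw [show R.ψ g * (R.ψ (trv (d + 4) F 3 2 a) * R.rt 0 2 (-t) * (R.ψ (trv (d + 4) F 3 2 a))⁻¹) *
      (R.ψ g)⁻¹ = (R.ψ g * R.ψ (trv (d + 4) F 3 2 a) * (R.ψ g)⁻¹) *
        (R.ψ g * R.rt 0 2 (-t) * (R.ψ g)⁻¹) *
        (R.ψ g * R.ψ (trv (d + 4) F 3 2 a) * (R.ψ g)⁻¹)⁻¹ by group,
    show R.ψ g * (R.rt 0 2 (-t) * R.rt 0 3 (a * -t)) * (R.ψ g)⁻¹ =
      (R.ψ g * R.rt 0 2 (-t) * (R.ψ g)⁻¹) * (R.ψ g * R.rt 0 3 (a * -t) * (R.ψ g)⁻¹) by group,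
    hk, R.rt_mon n02 hpq.symm h0 h2, R.rt_mon n03 hiq.symm h0 h3, R.rt_swap hpq,
    R.rt_swap hiq] at h
  simpa [mul_neg] using h

/-- The abelian radical. -/
noncomputable def Φhom :
    ({x : Fin (d + 4) × Fin (d + 4) // x.1 < x.2} → Multiplicative F) →* G :=
  MonoidHom.noncommPiCoprod
    (fun x => MonoidHom.mk' (fun t : Multiplicative F => R.rt x.1.1 x.1.2 t.toAdd)
      (fun s t => R.rt_add (ne_of_lt x.2) _ _))
    (fun x y _ s t => R.rt_comm (ne_of_lt x.2) (ne_of_lt y.2) _ _)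

/-- The radical element of an alternating matrix. -/
noncomputable def Φ (A : Matrix (Fin (d + 4)) (Fin (d + 4)) F) : G :=
  R.Φhom fun x => Multiplicative.ofAdd (A x.1.1 x.1.2)

theorem Φ_add (A B : Matrix (Fin (d + 4)) (Fin (d + 4)) F) : R.Φ (A + B) = R.Φ A * R.Φ B := by
  rw [Φ, Φ, Φ, ← map_mul]; rfl

theorem Φ_zero : R.Φ 0 = 1 := by
  have : R.Φ 0 * R.Φ 0 = R.Φ 0 := by rw [← R.Φ_add, add_zero]
  exact mul_eq_left.1 this

theorem Φ_E_lt {p q : Fin (d + 4)} (h : p < q) (t : F) : R.Φ (E p q t) = R.rt p q t := by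
  have e : (fun x : {x : Fin (d + 4) × Fin (d + 4) // x.1 < x.2} =>
      Multiplicative.ofAdd (E p q t x.1.1 x.1.2)) =
      Pi.mulSingle (M := fun _ : {x : Fin (d + 4) × Fin (d + 4) // x.1 < x.2} => Multiplicative F)
        ⟨(p, q), h⟩ (Multiplicative.ofAdd t) := ?_
  · rw [Φ, e, Φhom]
    exact MonoidHom.noncommPiCoprod_mulSingle (N := fun _ => Multiplicative F) _ _ _
  funext ⟨⟨r, s⟩, hrs⟩
  by_cases e : r = p ∧ s = q
  · obtain ⟨rfl, rfl⟩ := e
    rw [Pi.mulSingle_eq_same, E_apply_self hrs.ne]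
  · rw [Pi.mulSingle_eq_of_ne (by simpa using fun a b => e ⟨a, b⟩), ← ofAdd_zero]
    congr 1
    exact E_apply_ne h hrs e t

theorem Φ_E {p q : Fin (d + 4)} (h : p ≠ q) (t : F) : R.Φ (E p q t) = R.rt p q t := by
  rcases lt_or_gt_of_ne h with h' | h'
  · exact R.Φ_E_lt h' t
  · rw [E_swap, R.Φ_E_lt h', R.rt_swap h'.ne]

/-- Equivariance of the radical. -/
theorem Φ_conj (g : SLn d F) {A : Matrix (Fin (d + 4)) (Fin (d + 4)) F} (hA : IsAlt A) :
    R.ψ g * R.Φ A * (R.ψ g)⁻¹ = R.Φ (g.1 * A * g.1ᵀ) := by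
  have key : ∀ (g : SLn d F), (∀ p q, p ≠ q → ∀ t,
      R.ψ g * R.rt p q t * (R.ψ g)⁻¹ = R.Φ (g.1 * E p q t * g.1ᵀ)) →
      ∀ A, IsAlt A → R.ψ g * R.Φ A * (R.ψ g)⁻¹ = R.Φ (g.1 * A * g.1ᵀ) := by
    intro g hg A hA
    refine alt_induction
      (P := fun A => R.ψ g * R.Φ A * (R.ψ g)⁻¹ = R.Φ (g.1 * A * g.1ᵀ)) ?_ ?_ ?_ hA
    · simp [R.Φ_zero]
    · intro A B hA hB
      rw [R.Φ_add, mul_add, add_mul, R.Φ_add, ← hA, ← hB]; group
    · intro p q h t
      rw [R.Φ_E h]; exact hg p q h t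
  let K : Subgroup (SLn d F) :=
    { carrier := {g | ∀ A, IsAlt A → R.ψ g * R.Φ A * (R.ψ g)⁻¹ = R.Φ (g.1 * A * g.1ᵀ)}
      one_mem' := fun A _ => by simp
      mul_mem' := fun {g h} hg hh A hA => by
        rw [show R.ψ (g * h) * R.Φ A * (R.ψ (g * h))⁻¹ =
          R.ψ g * (R.ψ h * R.Φ A * (R.ψ h)⁻¹) * (R.ψ g)⁻¹ by rw [map_mul]; group, hh A hA,
          hg _ (isAlt_conj _ hA), Matrix.SpecialLinearGroup.coe_mul, transpose_mul]
        simp only [Matrix.mul_assoc]
      inv_mem' := fun {g} hg A hA => by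
        have h := hg _ (isAlt_conj (g⁻¹).1 hA)
        rw [← bv_mul_aux g A] at h
        rw [← h, map_inv]; group }
  refine sl_top K (fun i j hij a => ?_) g A hA
  refine key _ fun p q hpq t => ?_
  set k := trv (d + 4) F i j a
  have hcol : ∀ y x, k.1 x y = (if x = y then 1 else 0) + if x = i ∧ y = j then a else 0 := by
    intro y x
    rw [trv_coe hij, Matrix.add_apply, Matrix.one_apply, Matrix.single_apply]
    simp [eq_comm]
  have hmain : ∀ p q, p ≠ q → j = p → ∀ t,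
      R.ψ k * R.rt p q t * (R.ψ k)⁻¹ = R.Φ (k.1 * E p q t * k.1ᵀ) := by
    intro p q hpq hjp t
    subst hjp
    by_cases hiq : i = q
    · subst hiq
      have e : k.1 * E j i t * k.1ᵀ = E j i t := by
        rw [conj_E]; ext r s
        simp only [E, wed_apply, Pi.smul_apply, smul_eq_mul, hcol, Pi.single_apply, hij, and_false,
          if_false, add_zero, and_true]
        split_ifs <;> ring
      rw [e, R.Φ_E hpq, R.rt_conj hpq hpq e]
    · have e : k.1 * E j q t * k.1ᵀ = E j q t + E i q (a * t) := by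
        rw [conj_E]; ext r s
        simp only [E, wed_apply, Matrix.add_apply, Pi.smul_apply, smul_eq_mul, hcol, Pi.single_apply,
          hpq.symm, and_false, if_false, add_zero, and_true]
        split_ifs <;> ring
      rw [e, R.Φ_add, R.Φ_E hpq, R.Φ_E hiq, R.rt_split hpq hij hiq a t]
  by_cases hjp : j = p
  · exact hmain p q hpq hjp t
  by_cases hjq : j = q
  · rw [R.rt_swap hpq.symm, hmain q p hpq.symm hjq, E_swap p q (-t), neg_neg]
  have e : k.1 * E p q t * k.1ᵀ = E p q t := by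
    have h := conj_E_mon (g := k.1) (p := p) (q := q) (p' := p) (q' := q) (a := 1) (b := 1)
      (fun x => by rw [hcol]; simp [Ne.symm hjp]) (fun x => by rw [hcol]; simp [Ne.symm hjq]) t
    simpa using h
  rw [e, R.Φ_E hpq, R.rt_conj hpq hpq e]
where
  bv_mul_aux (g : SLn d F) (A : Matrix (Fin (d + 4)) (Fin (d + 4)) F) :
      A = g.1 * ((g⁻¹).1 * A * (g⁻¹).1ᵀ) * g.1ᵀ := by
    have h1 : g.1 * (g⁻¹).1 = 1 := by
      rw [← Matrix.SpecialLinearGroup.coe_mul, mul_inv_cancel, Matrix.SpecialLinearGroup.coe_one]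
    rw [show g.1 * ((g⁻¹).1 * A * (g⁻¹).1ᵀ) * g.1ᵀ = (g.1 * (g⁻¹).1) * A * ((g⁻¹).1ᵀ * g.1ᵀ) by
      simp only [Matrix.mul_assoc], ← transpose_mul, h1, transpose_one, one_mul, mul_one]

end OmRel

end Cfsg.Agent.Lib.ShortPresOm
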