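import Cfsg.Agent.Lib.ShortPresOm.Dual

/-!
# Short presentations of orthogonal groups, part 6

The torus, the Siegel parabolic subgroup and the action of the Weyl element on both.
-/

set_option autoImplicit false
set_option linter.unusedSectionVars false

namespace Cfsg.Agent.Lib.ShortPresOm

open Matrix Cfsg.Agent.Lib.Schur.SteinbergSLn Cfsg.Agent.Lib.ShortPresSp

section dsc

variable {m : ℕ} {F : Type*} [Field F]

theorem diag_mul_diag_inv (v : Fin m → Fˣ) :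
    (diagonal fun x => (v x : F)) * diagonal (fun x => (((v x)⁻¹ : Fˣ) : F)) = 1 := by
  rw [diagonal_mul_diagonal, ← diagonal_one]; congr 1; funext x; simp

/-- Conjugation by a diagonal matrix. -/
def dsc (v : Fin m → Fˣ) :
    Matrix.SpecialLinearGroup (Fin m) F →* Matrix.SpecialLinearGroup (Fin m) F where
  toFun g := ⟨(diagonal fun x => (v x : F)) * g.1 * diagonal (fun x => (((v x)⁻¹ : Fˣ) : F)), by
    rw [det_mul, det_mul, g.2, mul_one, ← det_mul, diag_mul_diag_inv, det_one]⟩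
  map_one' := Subtype.ext (by
    show _ * (1 : Matrix (Fin m) (Fin m) F) * _ = (1 : Matrix (Fin m) (Fin m) F)
    rw [mul_one, diag_mul_diag_inv])
  map_mul' g h := Subtype.ext (by
    show (diagonal fun x => (v x : F)) * (g.1 * h.1) * diagonal (fun x => (((v x)⁻¹ : Fˣ) : F)) =
      ((diagonal fun x => (v x : F)) * g.1 * diagonal (fun x => (((v x)⁻¹ : Fˣ) : F))) *
      ((diagonal fun x => (v x : F)) * h.1 * diagonal (fun x => (((v x)⁻¹ : Fˣ) : F)))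
    have e : (diagonal fun x => (((v x)⁻¹ : Fˣ) : F)) * diagonal (fun x => (v x : F)) = 1 := by
      rw [diagonal_mul_diagonal, ← diagonal_one]; congr 1; funext x; simp
    generalize hD : (diagonal fun x => (v x : F)) = D at e ⊢
    generalize hD' : (diagonal fun x => (((v x)⁻¹ : Fˣ) : F)) = D' at e ⊢
    generalize g.1 = A
    generalize h.1 = B
    rw [show D * A * D' * (D * B * D') = D * A * (D' * D) * (B * D') by simp only [Matrix.mul_assoc],
      e]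
    simp only [Matrix.mul_assoc, Matrix.one_mul])

theorem dsc_apply (v : Fin m → Fˣ) (g : Matrix.SpecialLinearGroup (Fin m) F) (x y : Fin m) :
    (dsc v g).1 x y = v x * g.1 x y * ((v y)⁻¹ : Fˣ) := by
  show ((diagonal fun z => (v z : F)) * g.1 * diagonal (fun z => (((v z)⁻¹ : Fˣ) : F))) x y = _
  rw [mul_diagonal, diagonal_mul]

theorem dsc_trv (v : Fin m → Fˣ) {i j : Fin m} (h : i ≠ j) (a : F) :
    dsc v (trv m F i j a) = trv m F i j (v i * a * ((v j)⁻¹ : Fˣ)) := by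
  refine Matrix.SpecialLinearGroup.ext _ _ fun x y => ?_
  rw [dsc_apply, trv_coe h, trv_coe h]
  simp only [Matrix.add_apply, Matrix.one_apply, Matrix.single_apply]
  by_cases e : x = y
  · subst e
    by_cases e' : i = x ∧ j = x
    · exact absurd (e'.1.trans e'.2.symm) h
    · simp [e']
  · by_cases e' : i = x ∧ j = y
    · obtain ⟨rfl, rfl⟩ := e'; simp [h]
    · simp [e, e']

end dsc

theorem big_ne {d : ℕ} {x : Fin (d + 4)} (h : ¬ (x : ℕ) < 2) : x ≠ 0 ∧ x ≠ 1 := OmRel.rest_ne h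

namespace OmRel

variable {d : ℕ} {F : Type*} [Field F] {G : Type*} [Group G] (R : OmRel d F G)

/-- The torus of the root `e₀ + e₂`. -/
def T (l : Fˣ) : G := R.w * R.ψ (h2 2 1 l) * R.w⁻¹

theorem T_mul (l k : Fˣ) : R.T (l * k) = R.T l * R.T k := by
  simp only [T, h2_mul n12.symm, map_mul]; group

theorem T_one : R.T 1 = 1 := by
  have h : R.T 1 * R.T 1 = R.T 1 := by rw [← R.T_mul, one_mul]
  exact mul_eq_left.1 h

theorem T_inv (l : Fˣ) : (R.T l)⁻¹ = R.T l⁻¹ :=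
  inv_eq_of_mul_eq_one_right (by rw [← R.T_mul, mul_inv_cancel, R.T_one])

/-- The eigenvalues of the torus. -/
def tw (d : ℕ) {F : Type*} [Field F] (l : Fˣ) (x : Fin (d + 4)) : Fˣ :=
  if x = 0 then l else if x = 2 then l else 1

theorem h2_commute_aux {g : SLn d F}
    (h1 : ∀ a, Commute (R.ψ g) (R.w * R.ψ (trv (d + 4) F 2 1 a) * R.w⁻¹))
    (h2' : ∀ a, Commute (R.ψ g) (R.w * R.ψ (trv (d + 4) F 1 2 a) * R.w⁻¹)) (l : Fˣ) :
    Commute (R.ψ g) (R.T l) := by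
  let K : Subgroup (SLn d F) :=
    (Subgroup.centralizer {R.ψ g}).comap ((MulAut.conj R.w).toMonoidHom.comp R.ψ)
  have hK : ∀ k, k ∈ K ↔ Commute (R.ψ g) (R.w * R.ψ k * R.w⁻¹) := fun k => by
    simp only [K, Subgroup.mem_comap, Subgroup.mem_centralizer_iff, Set.mem_singleton_iff, forall_eq]
    rfl
  exact (hK _).1 (h2_mem 2 1 K (fun a => (hK _).2 (h1 a)) (fun a => (hK _).2 (h2' a)) l)

theorem T_conj (l : Fˣ) (g : SLn d F) :
    R.T l * R.ψ g * (R.T l)⁻¹ = R.ψ (dsc (tw d l) g) := by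
  let K : Subgroup (SLn d F) :=
    MonoidHom.eqLocus ((MulAut.conj (R.T l)).toMonoidHom.comp R.ψ) (R.ψ.comp (dsc (tw d l)))
  refine sl_top_of_seeds K (fun i j hij hs a => ?_) (fun a => ?_) (fun a => ?_) g
  · show R.T l * R.ψ (trv (d + 4) F i j a) * (R.T l)⁻¹ = R.ψ (dsc _ (trv (d + 4) F i j a))
    have hk := R.trv_mem_Kw hij hs a
    rw [dsc_trv _ hij, T, show R.w * R.ψ (h2 2 1 l) * R.w⁻¹ * R.ψ (trv (d + 4) F i j a) *
        (R.w * R.ψ (h2 2 1 l) * R.w⁻¹)⁻¹ = R.w * R.ψ (h2 2 1 l) *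
          (R.w⁻¹ * R.ψ (trv (d + 4) F i j a) * R.w) * (R.ψ (h2 2 1 l))⁻¹ * R.w⁻¹ by group]
    rw [show R.w⁻¹ * R.ψ (trv (d + 4) F i j a) * R.w = R.ψ (trv (d + 4) F i j a) by
      rw [mul_assoc, ← (R.mem_Kw.1 hk).eq, inv_mul_cancel_left]]
    rw [show R.w * R.ψ (h2 2 1 l) * R.ψ (trv (d + 4) F i j a) * (R.ψ (h2 2 1 l))⁻¹ * R.w⁻¹ =
        R.w * R.ψ (h2 2 1 l * trv (d + 4) F i j a * (h2 2 1 l)⁻¹) * R.w⁻¹ by
      rw [map_mul, map_mul, map_inv]; group, h2_conj n12.symm l hij]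
    rw [R.w_conj_of_mem (R.trv_mem_Kw hij hs _)]
    congr 2
    have key : ∀ x : Fin (d + 4), (x : ℕ) < 2 → x = 0 ∨ x = 1 := fun x hx => by
      rcases (show (x : ℕ) = 0 ∨ (x : ℕ) = 1 by omega) with e | e
      · exact Or.inl (Fin.ext e)
      · exact Or.inr (Fin.ext (by simpa using e))
    by_cases hi : (i : ℕ) < 2
    · rcases key i hi with rfl | rfl <;> rcases key j (hs.1 hi) with rfl | rfl
      · exact absurd rfl hij
      · simp [h2v, tw, n02, n01, n01.symm, n12, mul_comm]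
      · simp [h2v, tw, n02, n01, n01.symm, n12, mul_comm]
      · exact absurd rfl hij
    · have hj : ¬ (j : ℕ) < 2 := fun e => hi (hs.2 e)
      obtain ⟨hi0, hi1⟩ := big_ne hi
      obtain ⟨hj0, hj1⟩ := big_ne hj
      by_cases a2 : i = 2 <;> by_cases b2 : j = 2 <;>
        simp [h2v, tw, hi0, hi1, hj0, hj1, a2, b2, n02.symm, n12.symm]
  all_goals
    show R.T l * R.ψ _ * (R.T l)⁻¹ = R.ψ (dsc _ _)
  · rw [dsc_trv _ n02, show (tw d l 0 : F) * a * (((tw d l 2)⁻¹ : Fˣ) : F) = a by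
      simp [tw, n02.symm, mul_comm, mul_assoc]]
    rw [← (R.h2_commute_aux (fun c => ?_) (fun c => ?_) l).eq, mul_inv_cancel_right]
    · have := ((R.mem_stab.1 (R.trv02 a)) (-c)).symm
      rwa [x, neg_neg] at this
    · have := ((R.dual.mem_stab.1 (R.dual.trv20 (-a))) c).symm
      rw [x] at this
      simpa [dual, tinv_trv n12.symm, tinv_trv n02.symm] using this
  · rw [dsc_trv _ n02.symm, show (tw d l 2 : F) * a * (((tw d l 0)⁻¹ : Fˣ) : F) = a by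
      simp [tw, n02.symm, mul_comm, mul_assoc]]
    rw [← (R.h2_commute_aux (fun c => ?_) (fun c => ?_) l).eq, mul_inv_cancel_right]
    · have := ((R.mem_stab.1 (R.trv20 a)) (-c)).symm
      rwa [x, neg_neg] at this
    · have := ((R.dual.mem_stab.1 (R.dual.trv02 (-a))) c).symm
      rw [x] at this
      simpa [dual, tinv_trv n12.symm, tinv_trv n02] using this

theorem T_neg_one : R.T (-1) = R.ψ ((ntv 1 2)⁻¹ * (ntv 0 1 * ntv 0 1) * ntv 1 2) := by
  have e : h2 2 1 (-1 : Fˣ) = (ntv 1 2 * ntv 1 2 : SLn d F) := by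
    refine Cfsg.Agent.Lib.Linear.sl_ext_single fun z => funext fun x => ?_
    rw [mul_smul]
    simp only [ntv_mulVec n12]
    show ((h2 2 1 (-1) : SLn d F).1 *ᵥ Pi.single z 1) x = _
    rw [h2_coe n12.symm, mulVec_diagonal]
    by_cases a : x = 2
    · subst a; simp [n12, n12.symm]
    · by_cases b : x = 1
      · subst b; simp [n12, n12.symm, inv_neg_one]
      · simp [a, b]
  have h := R.hF
  rw [ntv_inv n12.symm] at h
  have hc : R.w * R.ψ (ntv 1 2) * R.w⁻¹ = (R.ψ (ntv 1 2))⁻¹ * R.w * R.ψ (ntv 1 2) := by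
    conv_rhs => rw [h]
    group
  calc R.T (-1) = (R.w * R.ψ (ntv 1 2) * R.w⁻¹) * (R.w * R.ψ (ntv 1 2) * R.w⁻¹) := by
        rw [T, e, map_mul]; group
    _ = (R.ψ (ntv 1 2))⁻¹ * (R.w * R.w) * R.ψ (ntv 1 2) := by rw [hc]; group
    _ = _ := by rw [R.hC]; simp only [map_mul, map_inv, mul_assoc]

theorem T_rad (l : Fˣ) {A : Matrix (Fin (d + 4)) (Fin (d + 4)) F} (hA : IsAlt A) :
    R.T l * R.Φ A * (R.T l)⁻¹ =
      R.Φ ((diagonal fun x => (tw d l x : F)) * A * (diagonal fun x => (tw d l x : F))ᵀ) := by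
  refine alt_induction (P := fun A => R.T l * R.Φ A * (R.T l)⁻¹ =
      R.Φ ((diagonal fun x => (tw d l x : F)) * A * (diagonal fun x => (tw d l x : F))ᵀ)) ?_ ?_ ?_ hA
  · simp [R.Φ_zero]
  · intro A B hA hB
    rw [R.Φ_add, mul_add, add_mul, R.Φ_add, ← hA, ← hB]; group
  intro p q hpq t
  rcases eq_or_ne t 0 with rfl | ht
  · simp [E_zero, R.Φ_zero]
  obtain ⟨g, hg⟩ := exists_bv hpq ht
  have hx : R.T l * R.x 1 * (R.T l)⁻¹ = R.rt 0 2 ((l : F) * l) := by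
    rw [← R.x_eq, T, x, show R.w * R.ψ (h2 2 1 l) * R.w⁻¹ * (R.w * R.ψ (trv (d + 4) F 2 1 (-1)) *
      R.w⁻¹) * (R.w * R.ψ (h2 2 1 l) * R.w⁻¹)⁻¹ =
      R.w * R.ψ (h2 2 1 l * trv (d + 4) F 2 1 (-1) * (h2 2 1 l)⁻¹) * R.w⁻¹ by
        rw [map_mul, map_mul, map_inv]; group, h2_conj n12.symm l n12.symm, x]
    congr 3
    simp [h2v, n12]
  rw [R.Φ_E hpq, ← R.rt_of_bv hpq hg, X]
  rw [show R.T l * (R.ψ g * R.x 1 * (R.ψ g)⁻¹) * (R.T l)⁻¹ = (R.T l * R.ψ g * (R.T l)⁻¹) *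
    (R.T l * R.x 1 * (R.T l)⁻¹) * (R.T l * R.ψ g * (R.T l)⁻¹)⁻¹ by group, R.T_conj, hx,
    ← R.Φ_E n02, R.Φ_conj _ (isAlt_E _ _ _), ← hg, bv_eq]
  congr 1
  set D : Matrix (Fin (d + 4)) (Fin (d + 4)) F := diagonal fun x => (tw d l x : F)
  set D' : Matrix (Fin (d + 4)) (Fin (d + 4)) F := diagonal fun x => (((tw d l x)⁻¹ : Fˣ) : F)
  have e : D' * E 0 2 ((l : F) * l) * D'ᵀ = E 0 2 1 := by
    rw [conj_E_mon (p' := 0) (q' := 2) (a := ((l⁻¹ : Fˣ) : F)) (b := ((l⁻¹ : Fˣ) : F))]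
    · congr 1; simp only [Units.val_inv_eq_inv_val]; field_simp
    · intro x; by_cases hx' : x = 0
      · subst hx'; simp [D', tw]
      · simp [D', hx']
    · intro x; by_cases hx' : x = 2
      · subst hx'; simp [D', tw, n02.symm]
      · simp [D', hx']
  rw [← e]
  show (D * g.1 * D') * E 0 2 _ * (D * g.1 * D')ᵀ = _
  simp only [transpose_mul, Matrix.mul_assoc]

/-- The Siegel parabolic subgroup. -/
def P : Subgroup G where
  carrier := {y | ∃ A l g, IsAlt A ∧ y = R.Φ A * R.T l * R.ψ g}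
  one_mem' := ⟨0, 1, 1, fun r => ⟨rfl, fun s => by simp⟩, by
    rw [R.Φ_zero, R.T_one, map_one, mul_one, mul_one]⟩
  mul_mem' := by
    rintro _ _ ⟨A, l, g, hA, rfl⟩ ⟨B, k, h, hB, rfl⟩
    refine ⟨A + (diagonal fun x => (tw d l x : F)) * (g.1 * B * g.1ᵀ) *
      (diagonal fun x => (tw d l x : F))ᵀ, l * k, dsc (tw d k⁻¹) g * h,
      hA.add (isAlt_conj _ (isAlt_conj _ hB)), ?_⟩
    rw [R.Φ_add, ← R.T_rad l (isAlt_conj _ hB), ← R.Φ_conj g hB, R.T_mul, map_mul, ← R.T_conj,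
      ← R.T_inv]
    group
  inv_mem' := by
    rintro _ ⟨A, l, g, hA, rfl⟩
    have hneg : IsAlt (-A) := fun r =>
      ⟨by simp [(hA r).1], fun s => by simp [(hA r).2 s]⟩
    have hi : (R.Φ A)⁻¹ = R.Φ (-A) :=
      inv_eq_of_mul_eq_one_right (by rw [← R.Φ_add, add_neg_cancel, R.Φ_zero])
    refine ⟨(g⁻¹).1 * ((diagonal fun x => (tw d l⁻¹ x : F)) * (-A) *
      (diagonal fun x => (tw d l⁻¹ x : F))ᵀ) * (g⁻¹).1ᵀ, l⁻¹, dsc (tw d l) g⁻¹,
      isAlt_conj _ (isAlt_conj _ hneg), ?_⟩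
    rw [← R.Φ_conj _ (isAlt_conj _ hneg), ← R.T_rad _ hneg, ← R.T_conj, ← R.T_inv, map_inv,
      _root_.mul_inv_rev, _root_.mul_inv_rev, hi]
    group

theorem Φ_mem_P {A : Matrix (Fin (d + 4)) (Fin (d + 4)) F} (hA : IsAlt A) : R.Φ A ∈ R.P :=
  ⟨A, 1, 1, hA, by rw [R.T_one, map_one, mul_one, mul_one]⟩

theorem ψ_mem_P (g : SLn d F) : R.ψ g ∈ R.P :=
  ⟨0, 1, g, fun r => ⟨rfl, fun s => by simp⟩, by rw [R.Φ_zero, R.T_one, one_mul, one_mul]⟩

theorem T_mem_P (l : Fˣ) : R.T l ∈ R.P :=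
  ⟨0, l, 1, fun r => ⟨rfl, fun s => by simp⟩, by rw [R.Φ_zero, map_one, one_mul, mul_one]⟩

theorem rt_mem_P {p q : Fin (d + 4)} (h : p ≠ q) (t : F) : R.rt p q t ∈ R.P := by
  rw [← R.Φ_E h]; exact R.Φ_mem_P (isAlt_E _ _ _)

/-- The images of the lower block under the Weyl element. -/
theorem w_trv_one {i : Fin (d + 4)} (hi : ¬ (i : ℕ) < 2) (t : F) :
    R.w * R.ψ (trv (d + 4) F i 1 t) * R.w⁻¹ = R.rt 0 i (-t) := by
  rcases eq_or_ne i 2 with rfl | hi2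
  · rw [← R.x_eq, x, neg_neg]
  obtain ⟨hi0, hi1⟩ := rest_ne hi
  have hk : ntv i 2 ∈ R.Kw := R.ntv_mem_Kw hi2 (side_rest hi (by rw [val2]; omega))
  have h := R.rt_mon (g := ntv i 2) (p' := 0) (q' := i) (a := 1) (b := 1) n02 hi0.symm
    (fun x => by
      rw [ntv_coe hi2]
      by_cases a : x = i
      · subst a; simp [n02, hi0]
      · by_cases b : x = 2
        · subst b; simp [hi0.symm, n02.symm, a]
        · simp [a, b])
    (fun x => by
      rw [ntv_coe hi2]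
      by_cases a : x = i
      · subst a; simp
      · by_cases b : x = 2
        · subst b; simp [hi2.symm]
        · simp [a, b]) (-t)
  rw [← R.x_eq, R.conj_x_of_mem hk] at h
  rw [show (1 : F) * 1 * -t = -t by ring] at h
  rw [← h, neg_neg, conj_trv (ntv i 2) n12.symm hi1 t t (fun x => ?_) (fun y hy => ?_),
    mul_inv_cancel_right]
  · rw [ntv_coe hi2, ntv_coe hi2]
    by_cases a : x = i
    · subst a; simp [hi1.symm, n12]
    · by_cases b : x = 2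
      · subst b; simp [hi2.symm]
      · simp [a, b]
  · rw [ntv_coe hi2]; simp [hi1.symm, n12, Ne.symm hy]

theorem w_trv_zero {i : Fin (d + 4)} (hi : ¬ (i : ℕ) < 2) (t : F) :
    R.w * R.ψ (trv (d + 4) F i 0 t) * R.w⁻¹ = R.rt 1 i t := by
  obtain ⟨hi0, hi1⟩ := rest_ne hi
  have hk : ntv 1 0 ∈ R.Kw := R.ntv_mem_Kw n01.symm (by simp [SameSide])
  have h := R.rt_mon (g := ntv 1 0) (p' := 1) (q' := i) (a := 1) (b := 1) hi0.symm hi1.symm
    (fun x => by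
      rw [ntv_coe n01.symm]
      by_cases a : x = 1
      · subst a; simp
      · by_cases b : x = 0
        · subst b; simp [n01]
        · simp [a, b])
    (fun x => by
      rw [ntv_coe n01.symm]
      by_cases a : x = 1
      · subst a; simp [hi0, hi1.symm]
      · by_cases b : x = 0
        · subst b; simp [hi1, hi0.symm]
        · simp [a, b]) t
  rw [show R.rt 0 i t = R.w * R.ψ (trv (d + 4) F i 1 (-t)) * R.w⁻¹ by rw [R.w_trv_one hi, neg_neg],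
    show (1 : F) * 1 * t = t by ring] at h
  rw [← h]
  symm
  set k := R.ψ (ntv 1 0)
  have hc : k * R.w = R.w * k := ((R.mem_Kw.1 hk).eq).symm
  calc k * (R.w * R.ψ (trv (d + 4) F i 1 (-t)) * R.w⁻¹) * k⁻¹
      = k * R.w * R.ψ (trv (d + 4) F i 1 (-t)) * (k * R.w)⁻¹ := by group
    _ = R.w * k * R.ψ (trv (d + 4) F i 1 (-t)) * (R.w * k)⁻¹ := by rw [hc]
    _ = R.w * (k * R.ψ (trv (d + 4) F i 1 (-t)) * k⁻¹) * R.w⁻¹ := by group
    _ = _ := by
      rw [R.ψ_conj (conj_trv (ntv 1 0) hi1 hi0 (-t) t (fun x => ?_) (fun y hy => ?_))]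
      · rw [ntv_coe n01.symm, ntv_coe n01.symm]
        by_cases a : x = 1
        · subst a; simp [hi1.symm, hi0]
        · by_cases b : x = 0
          · subst b; simp [n01, hi0.symm, hi1]
          · simp [a, b, n01]; split_ifs <;> simp
      · rw [ntv_coe n01.symm]; simp [n01, hy]

theorem z_conj {i j : Fin (d + 4)} (hij : i ≠ j) (t : F) :
    R.w * (R.w * R.ψ (trv (d + 4) F i j t) * R.w⁻¹) * R.w⁻¹ =
      R.ψ (ntv 0 1 * ntv 0 1 * trv (d + 4) F i j t * (ntv 0 1 * ntv 0 1)⁻¹) := by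
  rw [map_mul, map_mul, map_inv, ← R.hC]; group

theorem z_trv {i j : Fin (d + 4)} (hi : ¬ (i : ℕ) < 2) (hj : (j : ℕ) < 2) (t : F) :
    ntv 0 1 * ntv 0 1 * trv (d + 4) F i j t * (ntv 0 1 * ntv 0 1)⁻¹ = trv (d + 4) F i j (-t) := by
  obtain ⟨hi0, hi1⟩ := rest_ne hi
  have hij : i ≠ j := fun e => hi (e ▸ hj)
  have hj' : j = 0 ∨ j = 1 := by
    rcases (show (j : ℕ) = 0 ∨ (j : ℕ) = 1 by omega) with e | e
    · exact Or.inl (Fin.ext e)
    · exact Or.inr (Fin.ext (by simpa using e))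
  have e : ∀ x y : Fin (d + 4), (ntv 0 1 * ntv 0 1 : SLn d F).1 x y =
      if x = y then (if x = 0 ∨ x = 1 then -1 else 1) else 0 := by
    intro x y
    rw [Matrix.SpecialLinearGroup.coe_mul, Matrix.mul_apply]
    by_cases a : x = 0
    · subst a
      rw [Finset.sum_eq_single 1 (fun b _ hb => by simp [ntv_coe n01, hb]) (by simp)]
      simp [ntv_coe n01, n01.symm, eq_comm]
    · by_cases b : x = 1
      · subst b
        rw [Finset.sum_eq_single 0 (fun b _ hb => by simp [ntv_coe n01, hb, n01.symm]) (by simp)]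
        simp [ntv_coe n01, n01.symm, eq_comm]
      · rw [Finset.sum_eq_single x (fun c _ hc => by simp [ntv_coe n01, a, b, Ne.symm hc]) (by simp)]
        simp [ntv_coe n01, a, b]
  rw [mul_inv_eq_iff_eq_mul]
  refine conj_trv _ hij hij t (-t) (fun x => ?_) (fun y hy => ?_)
  · rw [e, e, if_pos (rfl : j = j)]
    by_cases hx : x = i
    · subst hx; simp [hi0, hi1, hj']
    · simp [hx]
  · rw [e, if_neg (Ne.symm hy)]

theorem w_rt_zero {i : Fin (d + 4)} (hi : ¬ (i : ℕ) < 2) (t : F) :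
    R.w * R.rt 0 i t * R.w⁻¹ = R.ψ (trv (d + 4) F i 1 t) := by
  rw [← neg_neg t, ← R.w_trv_one hi, R.z_conj (rest_ne hi).2, z_trv hi (by simp)]

theorem w_rt_one {i : Fin (d + 4)} (hi : ¬ (i : ℕ) < 2) (t : F) :
    R.w * R.rt 1 i t * R.w⁻¹ = R.ψ (trv (d + 4) F i 0 (-t)) := by
  rw [← R.w_trv_zero hi, R.z_conj (rest_ne hi).1, z_trv hi (by simp)]

theorem w_comm_rt {i j : Fin (d + 4)} (hij : i ≠ j) (hi : ¬ (i : ℕ) < 2) (hj : ¬ (j : ℕ) < 2) (t : F) :
    Commute R.w (R.rt i j t) := by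
  obtain ⟨hi0, hi1⟩ := rest_ne hi
  obtain ⟨hj0, hj1⟩ := rest_ne hj
  have e := R.rt_split (i := i) (p := 1) (q := j) hj1.symm hi1 hij t 1
  rw [mul_one] at e
  have e1 : R.rt i j t = (R.rt 1 j 1)⁻¹ * (R.ψ (trv (d + 4) F i 1 t) * R.rt 1 j 1 *
      (R.ψ (trv (d + 4) F i 1 t))⁻¹) := by rw [e, inv_mul_cancel_left]
  have e2 := R.rt_split (i := j) (p := 0) (q := i) hi0.symm hj0 hij.symm 1 (-t)
  rw [one_mul, R.rt_swap hij, neg_neg] at e2
  have : R.w * R.rt i j t * R.w⁻¹ = R.rt i j t := by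
    calc R.w * R.rt i j t * R.w⁻¹ = (R.w * R.rt 1 j 1 * R.w⁻¹)⁻¹ *
          ((R.w * R.ψ (trv (d + 4) F i 1 t) * R.w⁻¹) * (R.w * R.rt 1 j 1 * R.w⁻¹) *
            (R.w * R.ψ (trv (d + 4) F i 1 t) * R.w⁻¹)⁻¹) := by rw [e1]; group
      _ = (R.ψ (trv (d + 4) F j 0 (-1)))⁻¹ * (R.rt 0 i (-t) * R.ψ (trv (d + 4) F j 0 (-1)) *
            (R.rt 0 i (-t))⁻¹) := by rw [R.w_rt_one hj, R.w_trv_one hi]
      _ = R.rt i j t := by
        rw [x_neg (trv_rel (d + 4)) hj0, map_inv, inv_inv]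
        calc R.ψ (trv (d + 4) F j 0 1) * (R.rt 0 i (-t) * (R.ψ (trv (d + 4) F j 0 1))⁻¹ *
              (R.rt 0 i (-t))⁻¹)
            = (R.ψ (trv (d + 4) F j 0 1) * R.rt 0 i (-t) * (R.ψ (trv (d + 4) F j 0 1))⁻¹) *
              (R.rt 0 i (-t))⁻¹ := by group
          _ = _ := by
            rw [e2, (R.rt_comm hi0.symm hij (-t) t).eq, mul_inv_cancel_right]
  exact mul_inv_eq_iff_eq_mul.1 this

theorem w_T_mem_P (l : Fˣ) : R.w * R.T l * R.w⁻¹ ∈ R.P := by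
  have e : R.w * R.T l * R.w⁻¹ = (R.w * R.w) * R.ψ (h2 2 1 l) * (R.w * R.w)⁻¹ := by
    rw [T]; group
  rw [e, R.hC]
  exact mul_mem (mul_mem (R.ψ_mem_P _) (R.ψ_mem_P _)) (inv_mem (R.ψ_mem_P _))

end OmRel

end Cfsg.Agent.Lib.ShortPresOm
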