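import Cfsg.Agent.Lib.ShortPresOm.Torus

/-!
# Short presentations of orthogonal groups, part 7

The commuting Weyl elements of the pairs `{2a, 2a+1}` and what moves through their products.
-/

set_option autoImplicit false
set_option linter.unusedSectionVars false

namespace Cfsg.Agent.Lib.ShortPresOm

open Matrix Equiv Cfsg.Agent.Lib.Schur.SteinbergSLn Cfsg.Agent.Lib.ShortPresSp

variable {d : ℕ} {F : Type*} [Field F]

/-- Monomial matrices over a permutation. -/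
def Mon (g : SLn d F) (σ : Perm (Fin (d + 4))) : Prop :=
  ∃ D : Fin (d + 4) → F, ∀ x y, g.1 x y = if x = σ y then D y else 0

theorem Mon.ne_zero {g : SLn d F} {σ : Perm (Fin (d + 4))} {D : Fin (d + 4) → F}
    (h : ∀ x y, g.1 x y = if x = σ y then D y else 0) (y : Fin (d + 4)) : D y ≠ 0 := fun e =>
  one_ne_zero ((g.2.symm).trans (Matrix.det_eq_zero_of_column_eq_zero y fun x => by
    rw [h, e]; split_ifs <;> rfl))

theorem Mon.one : Mon (1 : SLn d F) 1 :=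
  ⟨fun _ => 1, fun x y => by rw [Matrix.SpecialLinearGroup.coe_one, Matrix.one_apply]; rfl⟩

theorem Mon.mul {g h : SLn d F} {σ τ : Perm (Fin (d + 4))} (hg : Mon g σ) (hh : Mon h τ) :
    Mon (g * h) (σ * τ) := by
  obtain ⟨D, hD⟩ := hg
  obtain ⟨D', hD'⟩ := hh
  refine ⟨fun y => D (τ y) * D' y, fun x y => ?_⟩
  rw [Matrix.SpecialLinearGroup.coe_mul, Matrix.mul_apply,
    Finset.sum_eq_single (τ y) (fun b _ hb => by rw [hD', if_neg hb, mul_zero]) (by simp), hD, hD',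
    if_pos rfl, Perm.mul_apply]
  split_ifs <;> simp

theorem Mon.ntv' (a b : Fin (d + 4)) : Mon (ntv a b : SLn d F) (swap a b) := by
  rcases eq_or_ne a b with rfl | h
  · rw [Equiv.swap_self]
    have : (ntv a a : SLn d F) = 1 := by simp [ntv, trv]
    rw [this]; exact Mon.one
  refine ⟨fun y => if y = a then -1 else 1, fun x y => ?_⟩
  rw [ntv_coe h]
  by_cases ya : y = a
  · subst ya
    rw [swap_apply_left]
    by_cases xa : x = y
    · subst xa; simp [h]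
    · by_cases xb : x = b <;> simp [xa, xb, h, h.symm]
  · by_cases yb : y = b
    · subst yb
      rw [swap_apply_right]
      by_cases xa : x = a
      · subst xa; simp [h.symm]
      · by_cases xb : x = y
        · subst xb; simp [xa]
        · simp [xa, xb]
    · rw [swap_apply_of_ne_of_ne ya yb]
      by_cases xa : x = a
      · subst xa; simp [ya, yb, Ne.symm ya]
      · by_cases xb : x = b
        · subst xb; simp [xa, ya, Ne.symm yb]
        · simp [xa, xb, ya]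

theorem Mon.tinv' {g : SLn d F} {σ : Perm (Fin (d + 4))} (hg : Mon g σ) : Mon (tinv g) σ := by
  obtain ⟨D, hD⟩ := hg
  refine ⟨fun y => (D y)⁻¹, fun x y => ?_⟩
  set M : Matrix (Fin (d + 4)) (Fin (d + 4)) F := Matrix.of fun x y => if x = σ y then (D y)⁻¹ else 0
  have e : g.1ᵀ * M = 1 := by
    ext u v
    rw [Matrix.mul_apply, Finset.sum_eq_single (σ v) (fun b _ hb => by simp [M, hb]) (by simp)]
    rw [transpose_apply, hD, Matrix.one_apply]
    rcases eq_or_ne u v with rfl | huv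
    · simp [M, mul_inv_cancel₀ (Mon.ne_zero hD u)]
    · simp [huv, Ne.symm huv]
  have e' : (tinv g).1 = M := by
    rw [tinv_coe]
    calc (g⁻¹).1ᵀ = (g⁻¹).1ᵀ * (g.1ᵀ * M) := by rw [e, mul_one]
      _ = (g.1 * (g⁻¹).1)ᵀ * M := by rw [transpose_mul, Matrix.mul_assoc]
      _ = M := by rw [coe_mul_inv', transpose_one, one_mul]
  rw [e']; rfl

theorem Mon.trv_conj {g : SLn d F} {σ : Perm (Fin (d + 4))} (hg : Mon g σ) {i j : Fin (d + 4)}
    (hij : i ≠ j) (c : F) : ∃ c', g * trv (d + 4) F i j c * g⁻¹ = trv (d + 4) F (σ i) (σ j) c' := by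
  obtain ⟨D, hD⟩ := hg
  refine ⟨D i * c / D j, ?_⟩
  rw [mul_inv_eq_iff_eq_mul]
  refine conj_trv _ hij (σ.injective.ne hij) c _ (fun x => ?_) (fun y hy => ?_)
  · rw [hD, hD, if_pos rfl]
    split_ifs
    · rw [div_mul_cancel₀ _ (Mon.ne_zero hD j)]
    · rw [zero_mul]
  · rw [hD, if_neg]; exact fun e => hy (σ.injective e.symm)

theorem Mon.trv_conj' {g : SLn d F} {σ : Perm (Fin (d + 4))} (hg : Mon g σ) {i j : Fin (d + 4)}
    (hij : i ≠ j) (s : F) : ∃ c, trv (d + 4) F (σ i) (σ j) s = g * trv (d + 4) F i j c * g⁻¹ := by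
  obtain ⟨D, hD⟩ := hg
  refine ⟨s * D j / D i, ?_⟩
  rw [eq_mul_inv_iff_mul_eq]
  symm
  refine conj_trv _ hij (σ.injective.ne hij) _ _ (fun x => ?_) (fun y hy => ?_)
  · rw [hD, hD, if_pos rfl]
    split_ifs
    · rw [mul_div_cancel₀ _ (Mon.ne_zero hD i)]
    · rw [zero_mul]
  · rw [hD, if_neg]; exact fun e => hy (σ.injective e.symm)

/-- The index `m`. -/
def ix (d m : ℕ) : Fin (d + 4) := ⟨min m (d + 3), by omega⟩

theorem ix_val {m : ℕ} (h : m < d + 4) : (ix d m : ℕ) = m := by simp [ix]; omega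

/-- Moves the first pair to the pair `a`. -/
def sw (d : ℕ) (F : Type*) [Field F] (a : ℕ) : SLn d F :=
  ntv (ix d (2 * a)) 0 * ntv (ix d (2 * a + 1)) 1

/-- The permutation of `sw`. -/
def swp (d a : ℕ) : Perm (Fin (d + 4)) := swap (ix d (2 * a)) 0 * swap (ix d (2 * a + 1)) 1

theorem sw_mon (a : ℕ) : Mon (sw d F a) (swp d a) := (Mon.ntv' _ _).mul (Mon.ntv' _ _)

theorem swp_side {a : ℕ} (ha : 2 * a + 1 < d + 4) (x : Fin (d + 4)) :
    (swp d a x : ℕ) / 2 = a ↔ (x : ℕ) < 2 := by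
  have h0 := ix_val (show 2 * a < d + 4 by omega)
  have h1 := ix_val ha
  have v0 : ((0 : Fin (d + 4)) : ℕ) = 0 := rfl
  have v1 : ((1 : Fin (d + 4)) : ℕ) = 1 := by simp
  simp only [swp, Perm.mul_apply, Equiv.swap_apply_def]
  split_ifs <;> simp only [Fin.ext_iff] at * <;> omega

theorem exists_preimage {a : ℕ} (ha : 2 * a + 1 < d + 4) (i : Fin (d + 4)) :
    ∃ x, swp d a x = i ∧ ((x : ℕ) < 2 ↔ (i : ℕ) / 2 = a) :=
  ⟨(swp d a).symm i, by simp, by rw [← swp_side ha]; simp⟩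

theorem ix_ne_low {k : ℕ} (h1 : 1 ≤ k) (hk : 2 * k + 1 < d + 4) :
    ix d (2 * k) ≠ 0 ∧ ix d (2 * k + 1) ≠ 1 := by
  constructor <;> intro e <;> have := congrArg Fin.val e
  · rw [ix_val (by omega)] at this; simp at this; omega
  · rw [ix_val hk] at this; simp at this; omega

namespace OmRel

variable {G : Type*} [Group G] (R : OmRel d F G)

theorem Mon_rt {g : SLn d F} {σ : Perm (Fin (d + 4))} (hg : Mon g σ) {p q : Fin (d + 4)} (h : p ≠ q)
    (t : F) : ∃ t', R.ψ g * R.rt p q t * (R.ψ g)⁻¹ = R.rt (σ p) (σ q) t' := by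
  obtain ⟨D, hD⟩ := hg
  exact ⟨_, R.rt_mon h (σ.injective.ne h) (fun x => hD x p) (fun x => hD x q) t⟩

theorem Mon_rt' {g : SLn d F} {σ : Perm (Fin (d + 4))} (hg : Mon g σ) {p q : Fin (d + 4)} (h : p ≠ q)
    (s : F) : ∃ t, R.rt (σ p) (σ q) s = R.ψ g * R.rt p q t * (R.ψ g)⁻¹ := by
  obtain ⟨D, hD⟩ := hg
  refine ⟨s / (D p * D q), ?_⟩
  rw [R.rt_mon h (σ.injective.ne h) (fun x => hD x p) (fun x => hD x q), mul_div_cancel₀ _
    (mul_ne_zero (Mon.ne_zero hD p) (Mon.ne_zero hD q))]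

theorem dual_ψ (g : SLn d F) : R.dual.ψ (tinv g) = R.ψ g := by
  show R.ψ (tinv (tinv g)) = _; rw [tinv_tinv]

theorem w_three : ∃ a b, R.w = R.dual.rt 0 1 a * R.rt 0 1 b * R.dual.rt 0 1 a := by
  have h := R.hF
  rw [ntv_inv n12.symm] at h
  have hn : Mon (ntv 1 2 : SLn d F) (swap 1 2) := Mon.ntv' _ _
  have e0 : (swap (1 : Fin (d + 4)) 2) 0 = 0 := swap_apply_of_ne_of_ne n01 n02
  have e2 : (swap (1 : Fin (d + 4)) 2) 2 = 1 := swap_apply_right _ _
  obtain ⟨b, hb⟩ := R.Mon_rt hn n02 (1 : F)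
  obtain ⟨a, ha⟩ := R.dual.Mon_rt hn n02 (1 : F)
  rw [e0, e2] at hb ha
  rw [show R.dual.ψ (ntv 1 2) = R.ψ (ntv 1 2) by
    show R.ψ (tinv (ntv 1 2)) = _; rw [tinv_ntv n12]] at ha
  refine ⟨a, b, ?_⟩
  rw [← ha, ← hb, ← R.dual.x_eq, ← R.x_eq]
  have hy : R.dual.x 1 = R.w * R.ψ (trv (d + 4) F 1 2 1) * R.w⁻¹ := by
    show R.w * R.ψ (tinv (trv (d + 4) F 2 1 (-1))) * R.w⁻¹ = _
    rw [tinv_trv n12.symm, neg_neg]
  rw [hy, x]
  conv_lhs => rw [h]
  rw [show R.ψ (ntv 1 2) = R.ψ (trv (d + 4) F 1 2 1) * R.ψ (trv (d + 4) F 2 1 (-1)) *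
    R.ψ (trv (d + 4) F 1 2 1) by rw [ntv, map_mul, map_mul]]
  group

/-- The Weyl element of the pair `a`. -/
def W (a : ℕ) : G := if 2 * a + 1 < d + 4 then R.ψ (sw d F a) * R.w * (R.ψ (sw d F a))⁻¹ else 1

theorem W_zero : R.W 0 = R.w := by
  have e : sw d F 0 = 1 := by
    have a : ix d (2 * 0) = 0 := Fin.ext (by rw [ix_val] <;> simp)
    have b : ix d (2 * 0 + 1) = 1 := Fin.ext (by rw [ix_val] <;> simp)
    rw [sw, a, b]; simp [ntv, trv]
  rw [W, if_pos (by omega), e]; simp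

theorem W_eq {a : ℕ} (ha : 2 * a + 1 < d + 4) :
    R.W a = R.ψ (sw d F a) * R.w * (R.ψ (sw d F a))⁻¹ := if_pos ha

theorem dual_W {a : ℕ} (ha : 2 * a + 1 < d + 4) :
    R.W a = R.dual.ψ (tinv (sw d F a)) * R.w * (R.dual.ψ (tinv (sw d F a)))⁻¹ := by
  rw [dual_ψ, R.W_eq ha]

theorem W_comm_trv (a : ℕ) {i j : Fin (d + 4)} (hij : i ≠ j)
    (hs : (i : ℕ) / 2 = a ↔ (j : ℕ) / 2 = a) (t : F) :
    Commute (R.W a) (R.ψ (trv (d + 4) F i j t)) := by
  by_cases ha : 2 * a + 1 < d + 4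
  swap
  · rw [W, if_neg ha]; exact Commute.one_left _
  obtain ⟨p, rfl, hp⟩ := exists_preimage ha i
  obtain ⟨q, rfl, hq⟩ := exists_preimage ha j
  have hpq : p ≠ q := fun e => hij (by rw [e])
  obtain ⟨c, hc⟩ := (sw_mon (F := F) a).trv_conj' hpq t
  rw [hc, R.W_eq ha, map_mul, map_mul, map_inv]
  exact (R.hK p q hpq (hp.trans (hs.trans hq.symm)) c).map (MulAut.conj (R.ψ (sw d F a)))

theorem W_comm_rt (a : ℕ) {i j : Fin (d + 4)} (hij : i ≠ j) (hi : (i : ℕ) / 2 ≠ a)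
    (hj : (j : ℕ) / 2 ≠ a) (t : F) : Commute (R.W a) (R.rt i j t) := by
  by_cases ha : 2 * a + 1 < d + 4
  swap
  · rw [W, if_neg ha]; exact Commute.one_left _
  obtain ⟨p, rfl, hp⟩ := exists_preimage ha i
  obtain ⟨q, rfl, hq⟩ := exists_preimage ha j
  have hpq : p ≠ q := fun e => hij (by rw [e])
  obtain ⟨c, hc⟩ := R.Mon_rt' (sw_mon (F := F) a) hpq t
  rw [hc, R.W_eq ha]
  exact (R.w_comm_rt hpq (fun h => hi (hp.1 h)) (fun h => hj (hq.1 h)) c).map
    (MulAut.conj (R.ψ (sw d F a)))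

theorem W_comm_drt (a : ℕ) {i j : Fin (d + 4)} (hij : i ≠ j) (hi : (i : ℕ) / 2 ≠ a)
    (hj : (j : ℕ) / 2 ≠ a) (t : F) : Commute (R.W a) (R.dual.rt i j t) := by
  by_cases ha : 2 * a + 1 < d + 4
  swap
  · rw [W, if_neg ha]; exact Commute.one_left _
  obtain ⟨p, rfl, hp⟩ := exists_preimage ha i
  obtain ⟨q, rfl, hq⟩ := exists_preimage ha j
  have hpq : p ≠ q := fun e => hij (by rw [e])
  obtain ⟨c, hc⟩ := R.dual.Mon_rt' (sw_mon (F := F) a).tinv' hpq t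
  rw [hc, R.dual_W ha]
  exact (R.dual.w_comm_rt hpq (fun h => hi (hp.1 h)) (fun h => hj (hq.1 h)) c).map
    (MulAut.conj (R.dual.ψ (tinv (sw d F a))))

theorem W_comm (a b : ℕ) : Commute (R.W a) (R.W b) := by
  rcases eq_or_ne a b with rfl | hab
  · exact Commute.refl _
  by_cases hb : 2 * b + 1 < d + 4
  swap
  · rw [show R.W b = 1 from if_neg hb]; exact Commute.one_right _
  obtain ⟨p, q, e⟩ := R.w_three
  obtain ⟨p', hp⟩ := R.dual.Mon_rt (sw_mon (F := F) b).tinv' n01 p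
  obtain ⟨q', hq⟩ := R.Mon_rt (sw_mon (F := F) b) n01 q
  rw [dual_ψ] at hp
  have e' : R.W b = R.dual.rt (swp d b 0) (swp d b 1) p' * R.rt (swp d b 0) (swp d b 1) q' *
      R.dual.rt (swp d b 0) (swp d b 1) p' := by
    rw [R.W_eq hb, e, ← hp, ← hq]; group
  have h0 : ((swp d b 0 : Fin (d + 4)) : ℕ) / 2 ≠ a := by
    rw [(swp_side hb 0).2 (by simp)]; exact hab.symm
  have h1 : ((swp d b 1 : Fin (d + 4)) : ℕ) / 2 ≠ a := by
    rw [(swp_side hb 1).2 (by simp)]; exact hab.symm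
  have hne := (swp d b).injective.ne (n01 (d := d))
  rw [e']
  exact ((R.W_comm_drt a hne h0 h1 _).mul_right (R.W_comm_rt a hne h0 h1 _)).mul_right
    (R.W_comm_drt a hne h0 h1 _)

/-- Products of Weyl elements. -/
def Js (s : Finset ℕ) : G := s.noncommProd R.W fun a _ b _ _ => R.W_comm a b

theorem Js_insert {s : Finset ℕ} {a : ℕ} (h : a ∉ s) : R.Js (insert a s) = R.W a * R.Js s :=
  Finset.noncommProd_insert_of_notMem _ _ _ _ h

theorem Js_comm {s : Finset ℕ} {y : G} (h : ∀ a ∈ s, Commute (R.W a) y) : Commute (R.Js s) y :=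
  Finset.noncommProd_induction s R.W (fun a _ b _ _ => R.W_comm a b) (fun z => Commute z y)
    (fun _ _ ha hb => ha.mul_left hb) (Commute.one_left y) h

theorem Js_split {s : Finset ℕ} {a : ℕ} (h : a ∈ s) : R.Js s = R.W a * R.Js (s.erase a) := by
  rw [← R.Js_insert (Finset.notMem_erase a s)]; congr 1; exact (Finset.insert_erase h).symm

/-- The representatives of the double cosets. -/
def J (k : ℕ) : G := R.Js (Finset.range k)

theorem J_zero : R.J 0 = 1 := by simp [J, Js]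

theorem J_succ (k : ℕ) : R.J (k + 1) = R.W k * R.J k := by
  rw [J, J, ← R.Js_insert Finset.notMem_range_self]; congr 1; exact Finset.range_add_one

theorem J_comm {k : ℕ} {y : G} (h : ∀ a < k, Commute (R.W a) y) : Commute (R.J k) y :=
  R.Js_comm fun a ha => h a (Finset.mem_range.1 ha)

theorem J_sq_mem_P (k : ℕ) : R.J k * R.J k ∈ R.P := by
  induction k with
  | zero => rw [R.J_zero, one_mul]; exact one_mem _
  | succ k ih =>
    have hc : Commute (R.W k) (R.J k) := (R.J_comm fun a _ => R.W_comm a k).symm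
    rw [R.J_succ]
    rw [show R.W k * R.J k * (R.W k * R.J k) = (R.W k * R.W k) * (R.J k * R.J k) from
      hc.symm.mul_mul_mul_comm _ _]
    refine mul_mem ?_ ih
    by_cases hk : 2 * k + 1 < d + 4
    swap
    · rw [show R.W k = 1 from if_neg hk, one_mul]; exact one_mem _
    rw [R.W_eq hk, show R.ψ (sw d F k) * R.w * (R.ψ (sw d F k))⁻¹ *
      (R.ψ (sw d F k) * R.w * (R.ψ (sw d F k))⁻¹) =
      R.ψ (sw d F k) * (R.w * R.w) * (R.ψ (sw d F k))⁻¹ by group, R.hC]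
    exact mul_mem (mul_mem (R.ψ_mem_P _) (R.ψ_mem_P _)) (inv_mem (R.ψ_mem_P _))

/-- The representative without the first pair. -/
def B (k : ℕ) : G := R.Js (Finset.Ico 1 k)

theorem J_eq_w_B {k : ℕ} (hk : 1 ≤ k) : R.J k = R.w * R.B k := by
  rw [J, R.Js_split (Finset.mem_range.2 hk), R.W_zero]
  congr 1
  rw [B]; congr 1
  ext x; simp; omega

theorem B_comm {k : ℕ} {y : G} (h : ∀ a, 1 ≤ a → a < k → Commute (R.W a) y) : Commute (R.B k) y :=
  R.Js_comm fun a ha => h a (Finset.mem_Ico.1 ha).1 (Finset.mem_Ico.1 ha).2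

theorem sw_J {k : ℕ} (h1 : 1 ≤ k) (hk : 2 * k + 1 < d + 4) :
    R.ψ (sw d F k) * R.J k * (R.ψ (sw d F k))⁻¹ = R.B (k + 1) := by
  have hc : Commute (R.B k) (R.ψ (sw d F k)) := by
    refine R.B_comm fun a ha hak => ?_
    have hn : ∀ i j : Fin (d + 4), (i : ℕ) / 2 ≠ a → (j : ℕ) / 2 ≠ a →
        Commute (R.W a) (R.ψ (ntv i j)) := by
      intro i j hi hj
      rcases eq_or_ne i j with rfl | hij
      · simp [ntv, trv]
      · rw [ntv, map_mul, map_mul]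
        exact ((R.W_comm_trv a hij (iff_of_false hi hj) _).mul_right
          (R.W_comm_trv a hij.symm (iff_of_false hj hi) _)).mul_right
          (R.W_comm_trv a hij (iff_of_false hi hj) _)
    rw [sw, map_mul]
    refine (hn _ _ ?_ (by simp; omega)).mul_right (hn _ _ ?_ (by simp; omega))
    · rw [ix_val (by omega)]; omega
    · rw [ix_val hk]; omega
  have eB : R.B (k + 1) = R.W k * R.B k := by
    rw [B, B, ← R.Js_insert (by simp)]
    congr 1
    ext x; simp; omega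
  rw [R.J_eq_w_B h1, eB, R.W_eq hk]
  calc R.ψ (sw d F k) * (R.w * R.B k) * (R.ψ (sw d F k))⁻¹
      = R.ψ (sw d F k) * R.w * (R.B k * (R.ψ (sw d F k))⁻¹) := by group
    _ = _ := by rw [hc.inv_right.eq]; group

theorem W_step_one {a : ℕ} (ha : 2 * a + 1 < d + 4) {i j : Fin (d + 4)} (hi : (i : ℕ) / 2 ≠ a)
    (hj : (j : ℕ) / 2 = a) (t : F) :
    ∃ (c : Fin (d + 4)) (s : F), (c : ℕ) / 2 = a ∧
      R.W a * R.ψ (trv (d + 4) F i j t) * (R.W a)⁻¹ = R.rt c i s := by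
  obtain ⟨p, rfl, hp⟩ := exists_preimage ha i
  obtain ⟨q, rfl, hq⟩ := exists_preimage ha j
  have hp' : ¬ (p : ℕ) < 2 := fun h => hi (hp.1 h)
  have hq' := hq.2 hj
  have hpq : p ≠ q := fun e => hp' (e ▸ hq')
  obtain ⟨t', ht⟩ := (sw_mon (F := F) a).trv_conj' hpq t
  obtain ⟨c, s, hc, hs⟩ : ∃ (c : Fin (d + 4)) (s : F), (c : ℕ) < 2 ∧
      R.w * R.ψ (trv (d + 4) F p q t') * R.w⁻¹ = R.rt c p s := by
    rcases (show (q : ℕ) = 0 ∨ (q : ℕ) = 1 by omega) with e | e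
    · obtain rfl : q = 0 := Fin.ext e
      exact ⟨1, t', by simp, R.w_trv_zero hp' t'⟩
    · obtain rfl : q = 1 := Fin.ext (by simpa using e)
      exact ⟨0, -t', by simp, R.w_trv_one hp' t'⟩
  obtain ⟨s', hs'⟩ := R.Mon_rt (sw_mon (F := F) a) (show c ≠ p from fun e => hp' (e ▸ hc)) s
  refine ⟨swp d a c, s', (swp_side ha c).2 hc, ?_⟩
  rw [← hs', ← hs, ht, R.W_eq ha, map_mul, map_mul, map_inv]; group

theorem W_step_two {b : ℕ} (hb : 2 * b + 1 < d + 4) {c i : Fin (d + 4)} (hc : (c : ℕ) / 2 = b)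
    (hi : (i : ℕ) / 2 ≠ b) (s : F) : ∃ g : SLn d F, R.W b * R.rt c i s * (R.W b)⁻¹ = R.ψ g := by
  obtain ⟨p, rfl, hp⟩ := exists_preimage hb c
  obtain ⟨q, rfl, hq⟩ := exists_preimage hb i
  have hp' := hp.2 hc
  have hq' : ¬ (q : ℕ) < 2 := fun h => hi (hq.1 h)
  have hpq : p ≠ q := fun e => hq' (e ▸ hp')
  obtain ⟨t, ht⟩ := R.Mon_rt' (sw_mon (F := F) b) hpq s
  obtain ⟨g, hg⟩ : ∃ g, R.w * R.rt p q t * R.w⁻¹ = R.ψ g := by
    rcases (show (p : ℕ) = 0 ∨ (p : ℕ) = 1 by omega) with e | e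
    · obtain rfl : p = 0 := Fin.ext e
      exact ⟨_, R.w_rt_zero hq' t⟩
    · obtain rfl : p = 1 := Fin.ext (by simpa using e)
      exact ⟨_, R.w_rt_one hq' t⟩
  refine ⟨sw d F b * g * (sw d F b)⁻¹, ?_⟩
  rw [map_mul, map_mul, map_inv, ← hg, ht, R.W_eq hb]; group

/-- What may be moved right through the `k`-th representative. -/
def Qs (k : ℕ) : Subgroup (SLn d F) := R.P.comap ((MulAut.conj (R.J k)).toMonoidHom.comp R.ψ)

theorem Qs_move {k : ℕ} {q : SLn d F} (h : q ∈ R.Qs k) : (R.J k)⁻¹ * R.ψ q * R.J k ∈ R.P := by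
  have h' : R.J k * R.ψ q * (R.J k)⁻¹ ∈ R.P := h
  have := mul_mem (mul_mem (inv_mem (R.J_sq_mem_P k)) h') (R.J_sq_mem_P k)
  convert this using 1
  group

theorem trv_mem_Qs {k : ℕ} (hk : 2 * k ≤ d + 4) {i j : Fin (d + 4)} (hij : i ≠ j)
    (h : ¬ ((i : ℕ) < 2 * k ∧ 2 * k ≤ j)) (t : F) : trv (d + 4) F i j t ∈ R.Qs k := by
  show R.J k * R.ψ (trv (d + 4) F i j t) * (R.J k)⁻¹ ∈ R.P
  by_cases hsame : ∀ a < k, ((i : ℕ) / 2 = a ↔ (j : ℕ) / 2 = a)
  · rw [(R.J_comm fun a ha => R.W_comm_trv a hij (hsame a ha) t).eq, mul_inv_cancel_right]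
    exact R.ψ_mem_P _
  push Not at hsame
  have hjk : (j : ℕ) / 2 < k := by
    obtain ⟨a, ha, hne⟩ := hsame
    omega
  have hne : (i : ℕ) / 2 ≠ (j : ℕ) / 2 := by
    obtain ⟨a, ha, hne⟩ := hsame
    omega
  have ha2 : 2 * ((j : ℕ) / 2) + 1 < d + 4 := by omega
  obtain ⟨c, s, hc, hs⟩ := R.W_step_one ha2 hne rfl t
  have hci : c ≠ i := fun e => hne (e ▸ hc)
  set rest := R.Js ((Finset.range k).erase ((j : ℕ) / 2)) with hrest
  have hJ : R.J k = R.W ((j : ℕ) / 2) * rest := R.Js_split (Finset.mem_range.2 hjk)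
  have hW : Commute rest (R.W ((j : ℕ) / 2)) := R.Js_comm fun b _ => R.W_comm b _
  by_cases hik : (i : ℕ) / 2 < k
  swap
  · have hy : Commute rest (R.ψ (trv (d + 4) F i j t)) := R.Js_comm fun b hb => by
      rw [Finset.mem_erase, Finset.mem_range] at hb
      exact R.W_comm_trv b hij (iff_of_false (by omega) (by omega)) t
    have : R.J k * R.ψ (trv (d + 4) F i j t) * (R.J k)⁻¹ = R.rt c i s := by
      rw [hJ, ← hs, show R.W ((j : ℕ) / 2) * rest * R.ψ (trv (d + 4) F i j t) *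
        (R.W ((j : ℕ) / 2) * rest)⁻¹ = R.W ((j : ℕ) / 2) * (rest * R.ψ (trv (d + 4) F i j t) *
          rest⁻¹) * (R.W ((j : ℕ) / 2))⁻¹ by group, hy.eq, mul_inv_cancel_right]
    rw [this]; exact R.rt_mem_P hci s
  have hmem : (i : ℕ) / 2 ∈ (Finset.range k).erase ((j : ℕ) / 2) :=
    Finset.mem_erase.2 ⟨hne, Finset.mem_range.2 hik⟩
  set rest2 := R.Js (((Finset.range k).erase ((j : ℕ) / 2)).erase ((i : ℕ) / 2))
  have hJ2 : rest = R.W ((i : ℕ) / 2) * rest2 := R.Js_split hmem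
  have hy : Commute rest2 (R.ψ (trv (d + 4) F i j t)) := R.Js_comm fun b hb => by
    rw [Finset.mem_erase, Finset.mem_erase, Finset.mem_range] at hb
    exact R.W_comm_trv b hij (iff_of_false (Ne.symm hb.1) (Ne.symm hb.2.1)) t
  obtain ⟨g, hg⟩ := R.W_step_two (b := (i : ℕ) / 2) (by omega) (c := i) (i := c) rfl
    (by rw [hc]; exact hne.symm) (-s)
  have : R.J k * R.ψ (trv (d + 4) F i j t) * (R.J k)⁻¹ = R.ψ g := by
    rw [hJ, hJ2, ← mul_assoc, (R.W_comm _ _).eq, ← hg, ← R.rt_swap hci.symm, ← hs,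
      show R.W ((i : ℕ) / 2) * R.W ((j : ℕ) / 2) * rest2 * R.ψ (trv (d + 4) F i j t) *
        (R.W ((i : ℕ) / 2) * R.W ((j : ℕ) / 2) * rest2)⁻¹ = R.W ((i : ℕ) / 2) * R.W ((j : ℕ) / 2) *
        (rest2 * R.ψ (trv (d + 4) F i j t) * rest2⁻¹) *
        (R.W ((i : ℕ) / 2) * R.W ((j : ℕ) / 2))⁻¹ by group, hy.eq, mul_inv_cancel_right]
    group
  rw [this]; exact R.ψ_mem_P g

end OmRel

end Cfsg.Agent.Lib.ShortPresOm
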